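import Groth.Agent.ZClosLib.ColimSections
import Groth.Agent.QCoh.Tilde
import Groth.Prelude.Def_ZClos

/-!
# Z-pure and Z-closed modules
-/

universe u

open CategoryTheory CategoryTheory.Limits AlgebraicGeometry TopologicalSpace Opposite

namespace Groth.Agent.ZClosLib

variable {X : Scheme.{u}} {M N : X.Modules}

theorem res_bijective_of_eq (M : X.Modules) {U V : X.Opens} (h : U ≤ V) (h' : V ≤ U) :
    Function.Bijective (res M h) :=
  ⟨fun s t e => by simpa only [res_res, res_self] using congrArg (res M h') e,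
    fun t => ⟨res M h' t, by rw [res_res, res_self]⟩⟩

theorem exists_compact_nhd {V : X.Opens} {x : X} (hx : x ∈ V) :
    ∃ W : X.Opens, W ≤ V ∧ x ∈ W ∧ IsCompact (W : Set X) := by
  obtain ⟨_, ⟨W, hW, rfl⟩, hxW, hle⟩ :=
    X.isBasis_affineOpens.exists_subset_of_mem_open (show x ∈ V from hx) V.2
  exact ⟨W, hle, hxW, hW.isCompact⟩

theorem isIso_of_stalkMap_bijective (φ : M ⟶ N) (h : ∀ x, Function.Bijective (stalkMap φ x)) :
    IsIso φ := by
  refine @isIso_of_reflects_iso _ _ _ _ _ _ φ (KFlatLib.toAb X) ?_ _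
  rw [TopCat.Presheaf.isIso_iff_stalkFunctor_map_iso]
  exact fun x => (ConcreteCategory.isIso_iff_bijective _).2 (h x)

theorem app_injective_of_good (φ : M ⟶ N) (P : X.Opens → Prop)
    (hP : ∀ (V : X.Opens) (x : X), x ∈ V → ∃ W, W ≤ V ∧ x ∈ W ∧ P W)
    (h : ∀ W, P W → Function.Injective (φ.app W)) (V : X.Opens) : Function.Injective (φ.app V) := by
  intro s t e
  choose W hW hxW hPW using fun x : V => hP V x.1 x.2
  refine res_eq_of_cover M W hW (fun x hx => ⟨⟨x, hx⟩, hxW ⟨x, hx⟩⟩) s t fun x => h _ (hPW x) ?_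
  rw [app_res, app_res, e]

theorem mono_of_app_injective (φ : M ⟶ N) (h : ∀ V, Function.Injective (φ.app V)) : Mono φ :=
  ⟨fun f g e => Scheme.Modules.hom_ext _ _ fun V => by
    ext s
    apply h V
    simpa using ConcreteCategory.congr_hom (congrArg (fun k => Scheme.Modules.Hom.app k V) e) s⟩

theorem stalkMap_injective_of_mono (φ : M ⟶ N) [Mono φ] (x : X) : Function.Injective (stalkMap φ x) :=
  (AddCommGrpCat.mono_iff_injective _).1 (inferInstanceAs (Mono ((KFlatLib.stalkAb x).map φ)))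

theorem app_injective_of_mono (φ : M ⟶ N) [Mono φ] (V : X.Opens) : Function.Injective (φ.app V) :=
  fun s t e => section_ext M s t fun x hx => stalkMap_injective_of_mono φ x
    (by rw [stalkMap_germ, stalkMap_germ, e])

theorem app_bijective_of_isIso (φ : M ⟶ N) [IsIso φ] (V : X.Opens) : Function.Bijective (φ.app V) :=
  haveI := Scheme.Modules.Hom.isIso_iff_isIso_app.1 ‹IsIso φ› V
  ConcreteCategory.bijective_of_isIso _

theorem isIso_of_good (φ : M ⟶ N) (P : X.Opens → Prop)
    (hP : ∀ (V : X.Opens) (x : X), x ∈ V → ∃ W, W ≤ V ∧ x ∈ W ∧ P W)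
    (h : ∀ W, P W → Function.Bijective (φ.app W)) : IsIso φ := by
  haveI := mono_of_app_injective φ (app_injective_of_good φ P hP fun W hW => (h W hW).1)
  refine isIso_of_stalkMap_bijective φ fun x => ⟨stalkMap_injective_of_mono φ x, fun z => ?_⟩
  obtain ⟨U, hxU, b, rfl⟩ := TopCat.Presheaf.germ_exist N.presheaf z
  obtain ⟨W, hW, hxW, hPW⟩ := hP U x hxU
  obtain ⟨a, ha⟩ := (h W hPW).2 (res N hW b)
  exact ⟨M.presheaf.germ W x hxW a, by rw [stalkMap_germ, ha]; exact germ_res N hW hxW b⟩

/-- The open `U ∩ V`, in the form the direct images use. -/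
noncomputable abbrev img (U V : X.Opens) : X.Opens := U.ι ''ᵁ U.ι ⁻¹ᵁ V

theorem unit_app_apply (U : X.Opens) (F : X.Modules) (V : X.Opens) (s : Γ(F, V)) :
    ((ZClos.resPushUnit U).app F).app V s = res F (U.ι.image_preimage_le V) s := rfl

theorem unit_app_injective_iff (U : X.Opens) (F : X.Modules) (V : X.Opens) :
    Function.Injective (((ZClos.resPushUnit U).app F).app V) ↔
      Function.Injective (res F (inf_le_left : V ⊓ U ≤ V)) := by
  have heq : img U V = V ⊓ U := (ZClos.ι_image_preimage U V).trans (inf_comm U V)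
  have hc : (fun s => res F (heq.ge) (((ZClos.resPushUnit U).app F).app V s)) = res F inf_le_left :=
    funext fun s => res_res F _ _ s
  rw [← hc]
  exact ⟨fun h => (res_bijective_of_eq F _ heq.le).1.comp h, fun h => h.of_comp⟩

theorem unit_app_bijective_iff (U : X.Opens) (F : X.Modules) (V : X.Opens) :
    Function.Bijective (((ZClos.resPushUnit U).app F).app V) ↔
      Function.Bijective (res F (inf_le_left : V ⊓ U ≤ V)) := by
  have heq : img U V = V ⊓ U := (ZClos.ι_image_preimage U V).trans (inf_comm U V)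
  have hc : (res F heq.ge) ∘ (((ZClos.resPushUnit U).app F).app V) = res F inf_le_left :=
    funext fun s => res_res F _ _ s
  rw [← hc]
  exact ((res_bijective_of_eq F heq.ge heq.le).of_comp_iff' _).symm

/-- A morphism into `j_*(G|_U)` is determined by its composite with a map inverted by restriction to `U`. -/
theorem resPush_hom_ext {U : X.Opens} {F A G : X.Modules} (t : F ⟶ A)
    [Epi ((Scheme.Modules.restrictFunctor U.ι).map t)] {f g : A ⟶ (ZClos.resPush U).obj G}
    (h : t ≫ f = t ≫ g) : f = g := by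
  apply ((Scheme.Modules.restrictAdjunction U.ι).homEquiv A _).symm.injective
  rw [Adjunction.homEquiv_counit, Adjunction.homEquiv_counit,
    ← cancel_epi ((Scheme.Modules.restrictFunctor U.ι).map t), ← Functor.map_comp_assoc,
    ← Functor.map_comp_assoc, h]

instance isIso_restrict_unit (U : X.Opens) (F : X.Modules) :
    IsIso ((Scheme.Modules.restrictFunctor U.ι).map ((ZClos.resPushUnit U).app F)) := by
  have h : (Scheme.Modules.restrictFunctor U.ι).map ((ZClos.resPushUnit U).app F) ≫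
      (Scheme.Modules.restrictAdjunction U.ι).counit.app ((Scheme.Modules.restrictFunctor U.ι).obj F) = 𝟙 _ :=
    (Scheme.Modules.restrictAdjunction U.ι).left_triangle_components F
  rw [← IsIso.eq_comp_inv, Category.id_comp] at h
  rw [h]
  infer_instance

/-- The canonical map `F ⟶ j_*(F|_U)`. -/
noncomputable abbrev unitApp (U : X.Opens) (F : X.Modules) : F ⟶ (ZClos.resPush U).obj F :=
  (ZClos.resPushUnit U).app F

variable {Z : Set X} {F F' : X.Modules}

/-- The canonical map from the stage `T` to `H⁰`. -/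
noncomputable abbrev toH0 (Z : Set X) (F : X.Modules) (T : ZClos.Cl Z) :
    ((ZClos.diagram Z).obj F).obj T ⟶ (ZClos.H0 Z).obj F :=
  colimit.ι ((ZClos.diagram Z).obj F) T

theorem toDiagram_toH0 (T : ZClos.Cl Z) : ZClos.toDiagram Z F T ≫ toH0 Z F T = ZClos.rhoApp Z F :=
  (ZClos.rhoApp_eq Z F T).symm

theorem H0_hom_ext {K : X.Modules} {f g : (ZClos.H0 Z).obj F ⟶ K} (h : ∀ T, toH0 Z F T ≫ f = toH0 Z F T ≫ g) :
    f = g :=
  colimit.hom_ext h

theorem mono_toDiagram_of_isZPure (h : ZClos.IsZPure Z F) (T : ZClos.Cl Z) : Mono (ZClos.toDiagram Z F T) := by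
  haveI : Mono (ZClos.toDiagram Z F T ≫ toH0 Z F T) := by
    rw [toDiagram_toH0]; exact h
  exact mono_of_mono _ (toH0 Z F T)

/-- Two sections of `F` over a compact open with the same image in `H⁰` agree at some stage. -/
theorem exists_toDiagram_eq {V : X.Opens} (hV : IsCompact (V : Set X)) (s t : Γ(F, V))
    (h : (ZClos.rhoApp Z F).app V s = (ZClos.rhoApp Z F).app V t) :
    ∃ T : ZClos.Cl Z, (ZClos.toDiagram Z F T).app V s = (ZClos.toDiagram Z F T).app V t := by
  obtain ⟨k, hk, e⟩ := exists_eq_stage (colimit.isColimit ((ZClos.diagram Z).obj F)) hV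
    ((ZClos.toDiagram Z F ⊥).app V s) ((ZClos.toDiagram Z F ⊥).app V t) h
  refine ⟨k, ?_⟩
  rw [← ZClos.toDiagram_map Z F (homOfLE hk), Scheme.Modules.Hom.comp_app, ConcreteCategory.comp_apply,
    ConcreteCategory.comp_apply]
  exact e

theorem isZPure_iff_forall_mono :
    ZClos.IsZPure Z F ↔ ∀ T : ZClos.Cl Z, Mono (ZClos.toDiagram Z F T) := by
  refine ⟨mono_toDiagram_of_isZPure, fun h => mono_of_app_injective _ fun V =>
    app_injective_of_good _ (fun W : X.Opens => IsCompact (W : Set X)) (fun V x hx => exists_compact_nhd hx)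
      (fun W hW s t e => ?_) V⟩
  obtain ⟨T, hT⟩ := exists_toDiagram_eq hW s t e
  haveI := h T
  exact app_injective_of_mono _ W hT

theorem isZClosed_iff_forall_isIso :
    ZClos.IsZClosed Z F ↔ ∀ T : ZClos.Cl Z, IsIso (ZClos.toDiagram Z F T) := by
  constructor
  · intro h T
    obtain ⟨q, hq, -⟩ : ∃ q, ZClos.rhoApp Z F ≫ q = 𝟙 F ∧ q ≫ ZClos.rhoApp Z F = 𝟙 _ := h.out
    let r := toH0 Z F T ≫ q
    have h₁ : ZClos.toDiagram Z F T ≫ r = 𝟙 F := by
      rw [← Category.assoc, toDiagram_toH0, hq]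
    refine ⟨r, h₁, ?_⟩
    haveI : IsIso ((Scheme.Modules.restrictFunctor T.U.ι).map (ZClos.toDiagram Z F T)) :=
      isIso_restrict_unit T.U F
    exact resPush_hom_ext (U := T.U) (ZClos.toDiagram Z F T)
      (show ZClos.toDiagram Z F T ≫ r ≫ ZClos.toDiagram Z F T = ZClos.toDiagram Z F T ≫ 𝟙 _ by
        rw [← Category.assoc, h₁, Category.id_comp, Category.comp_id])
  · intro h
    let c : Cocone ((ZClos.diagram Z).obj F) :=
      { pt := F
        ι :=
          { app := fun T => inv (ZClos.toDiagram Z F T)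
            naturality := fun T T' f => by
              haveI := h T
              haveI := h T'
              simp only [Functor.const_obj_map, Category.comp_id]
              rw [IsIso.eq_inv_comp]
              exact (Category.assoc _ _ _).symm.trans
                ((congrArg (· ≫ inv (ZClos.toDiagram Z F T')) (ZClos.toDiagram_map Z F f)).trans
                  (IsIso.hom_inv_id _)) } }
    let d : (ZClos.H0 Z).obj F ⟶ F := colimit.desc _ c
    have hd : ∀ T, toH0 Z F T ≫ d = inv (ZClos.toDiagram Z F T) := fun T => colimit.ι_desc c T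
    refine ⟨d, ?_, ?_⟩
    · rw [← toDiagram_toH0 ⊥, Category.assoc, hd, IsIso.hom_inv_id]
    · refine H0_hom_ext fun T => ?_
      rw [← Category.assoc, hd, ← toDiagram_toH0 T, IsIso.inv_hom_id_assoc, Category.comp_id]

theorem isZPure_iff_forall_injective :
    ZClos.IsZPure Z F ↔ ∀ (T : ZClos.Cl Z) (V : X.Opens), IsCompact (V : Set X) →
      Function.Injective (res F (inf_le_left : V ⊓ T.U ≤ V)) := by
  rw [isZPure_iff_forall_mono]
  refine ⟨fun h T V _ => (unit_app_injective_iff T.U F V).1 (haveI := h T; app_injective_of_mono (ZClos.toDiagram Z F T) V),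
    fun h T => mono_of_app_injective _ (app_injective_of_good _ (fun W : X.Opens => IsCompact (W : Set X))
      (fun V x hx => exists_compact_nhd hx) fun W hW => (unit_app_injective_iff T.U F W).2 (h T W hW))⟩

theorem isZClosed_iff_forall_bijective :
    ZClos.IsZClosed Z F ↔ ∀ (T : ZClos.Cl Z) (V : X.Opens), IsCompact (V : Set X) →
      Function.Bijective (res F (inf_le_left : V ⊓ T.U ≤ V)) := by
  rw [isZClosed_iff_forall_isIso]
  refine ⟨fun h T V _ => (unit_app_bijective_iff T.U F V).1 (haveI := h T; app_bijective_of_isIso (ZClos.toDiagram Z F T) V),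
    fun h T => isIso_of_good (ZClos.toDiagram Z F T) (fun W : X.Opens => IsCompact (W : Set X))
      (fun V x hx => exists_compact_nhd hx) fun W hW => (unit_app_bijective_iff T.U F W).2 (h T W hW)⟩

theorem isZPure_mono_set {Z' : Set X} (h : Z' ⊆ Z) (hF : ZClos.IsZPure Z F) : ZClos.IsZPure Z' F :=
  isZPure_iff_forall_mono.2 fun T => isZPure_iff_forall_mono.1 hF ⟨T.1, T.2.trans h⟩

theorem isZClosed_mono_set {Z' : Set X} (h : Z' ⊆ Z) (hF : ZClos.IsZClosed Z F) : ZClos.IsZClosed Z' F :=
  isZClosed_iff_forall_isIso.2 fun T => isZClosed_iff_forall_isIso.1 hF ⟨T.1, T.2.trans h⟩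

theorem stalkMap_unit_bijective (U : X.Opens) (F : X.Modules) {x : X} (hx : x ∈ U) :
    Function.Bijective (stalkMap (unitApp U F) x) := by
  have hmem : ∀ {V : X.Opens}, x ∈ V → x ∈ img U V := fun {V} hV => by
    rw [img, ZClos.ι_image_preimage]; exact ⟨hx, hV⟩
  constructor
  · intro y y' e
    obtain ⟨V, hxV, a, rfl⟩ := TopCat.Presheaf.germ_exist F.presheaf y
    obtain ⟨V', hxV', a', rfl⟩ := TopCat.Presheaf.germ_exist F.presheaf y'
    rw [stalkMap_germ, stalkMap_germ] at e
    obtain ⟨W, h₁, h₂, hxW, e'⟩ := exists_res_eq_of_germ_eq _ hxV hxV' _ _ e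
    rw [← app_res, ← app_res] at e'
    replace e' : res F (U.ι.image_preimage_le W) (res F h₁ a) = res F (U.ι.image_preimage_le W) (res F h₂ a') := e'
    rw [res_res, res_res] at e'
    have := congrArg (F.presheaf.germ (img U W) x (hmem hxW)) e'
    rwa [germ_res, germ_res] at this
  · intro z
    obtain ⟨V, hxV, a, rfl⟩ := TopCat.Presheaf.germ_exist ((ZClos.resPush U).obj F).presheaf z
    let a' : Γ(F, img U V) := a
    refine ⟨F.presheaf.germ (img U V) x (hmem hxV) a', ?_⟩
    have hle : img U V ≤ V := U.ι.image_preimage_le V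
    exact (stalkMap_germ (unitApp U F) (hmem hxV) a').trans
      (germ_res ((ZClos.resPush U).obj F) hle (hmem hxV) a)

theorem stalkMap_toDiagram_bijective {x : X} (hx : x ∉ Z) (T : ZClos.Cl Z) :
    Function.Bijective (stalkMap (ZClos.toDiagram Z F T) x) :=
  stalkMap_unit_bijective T.U F fun hT => hx (T.2 hT)

theorem stalkMap_comp_apply {K : X.Modules} (φ : M ⟶ N) (ψ : N ⟶ K) (x : X) (y : M.presheaf.stalk x) :
    stalkMap (φ ≫ ψ) x y = stalkMap ψ x (stalkMap φ x y) := by
  show (KFlatLib.stalkAb x).map (φ ≫ ψ) y = _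
  rw [Functor.map_comp]; rfl

theorem isZClosedAt_of_not_mem (F : X.Modules) {x : X} (hx : x ∉ Z) : ZClos.IsZClosedAt Z F x := by
  have hρ : ∀ (T : ZClos.Cl Z) y, ZClos.rhoStalk Z F x y =
      stalkMap (colimit.ι ((ZClos.diagram Z).obj F) T) x (stalkMap (ZClos.toDiagram Z F T) x y) := fun T y => by
    rw [← stalkMap_comp_apply, ← ZClos.rhoApp_eq]; rfl
  constructor
  · intro y y' e
    rw [hρ ⊥, hρ ⊥] at e
    obtain ⟨k, hk, e'⟩ := (stalk_eq_iff (colimit.isColimit _) x _ _).1 e
    rw [← stalkMap_comp_apply, ← stalkMap_comp_apply, ZClos.toDiagram_map] at e'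
    exact (stalkMap_toDiagram_bijective hx k).1 e'
  · intro z
    obtain ⟨T, y, hy⟩ := stalk_exists_rep (colimit.isColimit ((ZClos.diagram Z).obj F)) x z
    obtain ⟨w, rfl⟩ := (stalkMap_toDiagram_bijective hx T).2 y
    exact ⟨w, (hρ T w).trans hy⟩

theorem existsUnique_fac (hF' : ZClos.IsZClosed Z F') (v₀ : F ⟶ F') :
    ∃! v : (ZClos.H0 Z).obj F ⟶ F', ZClos.rhoApp Z F ≫ v = v₀ := by
  haveI : IsIso (ZClos.rhoApp Z F') := hF'
  refine ⟨(ZClos.H0 Z).map v₀ ≫ inv (ZClos.rhoApp Z F'), ?_, fun v hv => ?_⟩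
  · show ZClos.rhoApp Z F ≫ _ ≫ _ = v₀
    have hn : v₀ ≫ ZClos.rhoApp Z F' = ZClos.rhoApp Z F ≫ (ZClos.H0 Z).map v₀ := (ZClos.rho Z).naturality v₀
    rw [← Category.assoc, ← hn, Category.assoc, IsIso.hom_inv_id, Category.comp_id]
  · refine H0_hom_ext fun T => ?_
    haveI := isZClosed_iff_forall_isIso.1 hF' T
    haveI : IsIso ((Scheme.Modules.restrictFunctor T.U.ι).map (ZClos.toDiagram Z F T)) :=
      isIso_restrict_unit T.U F
    rw [← cancel_mono (ZClos.toDiagram Z F' T)]
    have key : ∀ w : (ZClos.H0 Z).obj F ⟶ F', ZClos.toDiagram Z F T ≫ (toH0 Z F T ≫ w) ≫ ZClos.toDiagram Z F' T =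
        (ZClos.rhoApp Z F ≫ w) ≫ ZClos.toDiagram Z F' T := fun w => by
      rw [← Category.assoc, ← Category.assoc, toDiagram_toH0]
    refine resPush_hom_ext (U := T.U) (ZClos.toDiagram Z F T) ?_
    refine (key v).trans ((congrArg (· ≫ ZClos.toDiagram Z F' T) (hv.trans ?_)).trans (key _).symm)
    have hn : v₀ ≫ ZClos.rhoApp Z F' = ZClos.rhoApp Z F ≫ (ZClos.H0 Z).map v₀ := (ZClos.rho Z).naturality v₀
    rw [← Category.assoc, ← hn, Category.assoc, IsIso.hom_inv_id, Category.comp_id]

instance preservesFiniteLimits_H0 (Z : Set X) : PreservesFiniteLimits (ZClos.H0 Z) := by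
  haveI : HasExactColimitsOfShape (ZClos.Cl Z) X.Modules := KFlatLib.hasExactColimitsOfShape X (ZClos.Cl Z)
  haveI : PreservesFiniteLimits (ZClos.diagram Z) := ⟨fun J _ _ => by
    refine ⟨fun {K} => preservesLimit_of_evaluation _ _ fun T => ?_⟩
    show PreservesLimit K (ZClos.resPush T.U)
    infer_instance⟩
  exact comp_preservesFiniteLimits _ _

end Groth.Agent.ZClosLib
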