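import Groth.Agent.QCoh.RpushCoh
import Groth.Agent.QCoh.PullbackBC
import Groth.Agent.QCoh.Pullback
import Groth.Agent.QCoh.Stalk
import Mathlib.AlgebraicGeometry.Morphisms.Flat
import Mathlib.AlgebraicGeometry.Morphisms.UniversallyInjective

/-!
# Coherence and pullback
-/

set_option backward.isDefEq.respectTransparency false
set_option backward.isDefEq.respectTransparency.types false
set_option linter.style.haveILetI false

universe u

open CategoryTheory CategoryTheory.Limits AlgebraicGeometry TopologicalSpace Opposite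
open scoped TensorProduct

namespace Groth.Agent.ZClosLib

theorem finite_of_forall_baseChange {A M : Type u} [CommRing A] [AddCommGroup M] [Module A M] {ι : Type*} [Finite ι]
    (B : ι → Type u) [∀ j, CommRing (B j)] [∀ j, Algebra A (B j)] [∀ j, Module.Flat A (B j)]
    (hcov : ∀ p : PrimeSpectrum A, ∃ (j : ι) (P : PrimeSpectrum (B j)), PrimeSpectrum.comap (algebraMap A (B j)) P = p)
    (hfin : ∀ j, Module.Finite (B j) (B j ⊗[A] M)) : Module.Finite A M := by
  classical
  have hg : ∀ j, ∃ T : Finset M, Submodule.span (B j) ((fun m => (1 : B j) ⊗ₜ[A] m) '' (T : Set M)) = ⊤ := by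
    intro j
    obtain ⟨G, hG⟩ := (hfin j).fg_top
    have h : ∀ z : B j ⊗[A] M, ∃ T : Finset M,
        z ∈ Submodule.span (B j) ((fun m => (1 : B j) ⊗ₜ[A] m) '' (T : Set M)) := fun z => by
      induction z using TensorProduct.induction_on with
      | zero => exact ⟨∅, zero_mem _⟩
      | tmul b m =>
        refine ⟨{m}, ?_⟩
        rw [show b ⊗ₜ[A] m = b • ((1 : B j) ⊗ₜ[A] m) by rw [TensorProduct.smul_tmul', smul_eq_mul, mul_one]]
        exact Submodule.smul_mem _ b (Submodule.subset_span ⟨m, by simp, rfl⟩)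
      | add x y hx hy =>
        obtain ⟨S, hS⟩ := hx
        obtain ⟨T, hT⟩ := hy
        exact ⟨S ∪ T, add_mem (Submodule.span_mono (Set.image_mono (by simp)) hS)
          (Submodule.span_mono (Set.image_mono (by simp)) hT)⟩
    choose T hT using h
    refine ⟨G.biUnion T, eq_top_iff.2 (hG.ge.trans (Submodule.span_le.2 fun z hz => ?_))⟩
    exact Submodule.span_mono (Set.image_mono (Finset.coe_subset.2 (Finset.subset_biUnion_of_mem T hz))) (hT z)
  choose T hT using hg
  haveI := Fintype.ofFinite ι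
  refine ⟨⟨Finset.univ.biUnion T, eq_top_iff.2 fun q _ => ?_⟩⟩
  let M₀ := Submodule.span A (↑(Finset.univ.biUnion T) : Set M)
  let π := M₀.mkQ
  let I : Ideal A := LinearMap.ker (LinearMap.toSpanSingleton A (M ⧸ M₀) (π q))
  by_contra hq
  have hI : I ≠ ⊤ := fun h => by
    have h0 : π q = 0 := (one_smul A (π q)).symm.trans (LinearMap.mem_ker.1 (h ▸ Submodule.mem_top : (1 : A) ∈ I))
    exact hq ((Submodule.Quotient.mk_eq_zero M₀).1 h0)
  obtain ⟨m, hm, hle⟩ := Ideal.exists_le_maximal I hI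
  obtain ⟨j, P, hP⟩ := hcov ⟨m, hm.isPrime⟩
  have hzero : ∀ z : B j ⊗[A] M, π.lTensor (B j) z = 0 := fun z => by
    have hz : z ∈ Submodule.span (B j) ((fun m => (1 : B j) ⊗ₜ[A] m) '' (T j : Set M)) := (hT j) ▸ Submodule.mem_top
    induction hz using Submodule.span_induction with
    | mem z hz =>
      obtain ⟨t, ht, rfl⟩ := hz
      rw [LinearMap.lTensor_tmul, show π t = 0 from (Submodule.Quotient.mk_eq_zero _).2
        (Submodule.subset_span (Finset.mem_biUnion.2 ⟨j, Finset.mem_univ j, ht⟩)), TensorProduct.tmul_zero]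
    | zero => exact map_zero _
    | add a b _ _ ha hb => rw [map_add, ha, hb, add_zero]
    | smul c a _ ha =>
      rw [show π.lTensor (B j) (c • a) = c • π.lTensor (B j) a from (π.baseChange (B j)).map_smul c a, ha, smul_zero]
  let ev : (A ⧸ I) →ₗ[A] M ⧸ M₀ := Submodule.liftQ I (LinearMap.toSpanSingleton A (M ⧸ M₀) (π q)) le_rfl
  have hev : Function.Injective ev := LinearMap.ker_eq_bot.1 (Submodule.ker_liftQ_eq_bot _ _ _ le_rfl)
  have h1 : (1 : B j) ⊗ₜ[A] (Submodule.Quotient.mk 1 : A ⧸ I) = 0 := by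
    apply Module.Flat.lTensor_preserves_injective_linearMap (M := B j) ev hev
    have := hzero ((1 : B j) ⊗ₜ[A] q)
    rw [LinearMap.lTensor_tmul] at this
    rw [map_zero, LinearMap.lTensor_tmul]
    exact (congrArg _ (one_smul A (π q))).trans this
  let g : (A ⧸ I) →ₗ[A] B j ⧸ I.map (algebraMap A (B j)) :=
    Submodule.liftQ I (Algebra.linearMap A _) fun a ha => by
      rw [LinearMap.mem_ker, Algebra.linearMap_apply, IsScalarTower.algebraMap_apply A (B j)]
      exact Ideal.Quotient.eq_zero_iff_mem.2 (Ideal.mem_map_of_mem _ ha)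
  have h2 := congrArg (LinearMap.liftBaseChange (B j) g) h1
  rw [map_zero, LinearMap.liftBaseChange_tmul, one_smul] at h2
  have h3 : (1 : B j) ∈ I.map (algebraMap A (B j)) := Ideal.Quotient.eq_zero_iff_mem.1
    ((map_one _).trans ((map_one (algebraMap A (B j ⧸ I.map (algebraMap A (B j))))).symm.trans h2))
  have h4 : I.map (algebraMap A (B j)) ≤ P.asIdeal := Ideal.map_le_iff_le_comap.2 (hle.trans
    (congrArg PrimeSpectrum.asIdeal hP).ge)
  exact P.isPrime.ne_top ((Ideal.eq_top_iff_one _).2 (h4 h3))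

variable {X X' : Scheme.{u}} (f : X' ⟶ X)

theorem isCoh_pullback {M : X.Modules} (hM : Coh.IsCoh M) : Coh.IsCoh ((Scheme.Modules.pullback f).obj M) := by
  let N := (Scheme.Modules.pullback f).obj M
  refine ⟨QCoh.isQCoh_pullback f hM.1, ?_⟩
  choose V hV hxV hle using fun x : X' => exists_isAffineOpen_mem_and_subset (x := f x) (U := ⊤) trivial
  choose W hW hxW hWle using fun x : X' => exists_isAffineOpen_mem_and_subset (x := x) (U := f ⁻¹ᵁ V x) (hxV x)
  refine QCoh.isFT_of_finite (QCoh.isQCoh_pullback f hM.1) W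
    (top_unique fun x _ => Opens.mem_iSup.2 ⟨x, hxW x⟩) hW fun x => ?_
  have hWV : W x ≤ f ⁻¹ᵁ V x := hWle x
  letI : Algebra Γ(X, V x) Γ(X', W x) := (f.appLE (V x) (W x) hWV).hom.toAlgebra
  letI : Module Γ(X, V x) Γ(N, W x) := Module.compHom _ (f.appLE (V x) (W x) hWV).hom
  haveI : IsScalarTower Γ(X, V x) Γ(X', W x) Γ(N, W x) := .of_algebraMap_smul fun _ _ => rfl
  haveI := QCoh.finite_of_isFT hM.1 hM.2 (hV x)
  let l : Γ(M, V x) →ₗ[Γ(X, V x)] Γ(N, W x) :=
    { toFun := QCoh.pullSec f M hWV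
      map_add' := QCoh.pullSec_add f M hWV
      map_smul' := fun r m => QCoh.pullSec_smul f M hWV r m }
  exact Module.Finite.equiv (QCoh.isBaseChange_pullback (hV x) f (hW x) hM.1 hWV (fun _ => rfl) l fun _ => rfl).equiv

theorem isFT_of_pullback [Flat f] [Surjective f] [QuasiCompact f] {M : X.Modules} (hM : Coh.IsQCoh M)
    (h : Coh.IsCoh ((Scheme.Modules.pullback f).obj M)) : Coh.IsCoh M := by
  let N := (Scheme.Modules.pullback f).obj M
  refine ⟨hM, QCoh.isFT_of_affine_finite hM fun V hV => ?_⟩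
  have hcpt : IsCompact ((f ⁻¹ᵁ V : X'.Opens) : Set X') := f.isCompact_preimage hV.isCompact
  choose W hW hxW hWle using fun x : ↥(f ⁻¹ᵁ V) =>
    exists_isAffineOpen_mem_and_subset (x := x.1) (U := f ⁻¹ᵁ V) x.2
  obtain ⟨s, hs⟩ := hcpt.elim_finite_subcover (fun x => (W x : Set X')) (fun x => (W x).2)
    (fun x hx => Set.mem_iUnion.2 ⟨⟨x, hx⟩, hxW ⟨x, hx⟩⟩)
  have hle : ∀ x, W x ≤ f ⁻¹ᵁ V := fun x => hWle x
  letI : ∀ x : s, Algebra Γ(X, V) Γ(X', W x.1) := fun x => (f.appLE V (W x.1) (hle x.1)).hom.toAlgebra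
  haveI : ∀ x : s, Module.Flat Γ(X, V) Γ(X', W x.1) := fun x => f.flat_appLE hV (hW x.1) (hle x.1)
  refine finite_of_forall_baseChange (fun x : s => Γ(X', W x.1)) (fun p => ?_) fun x => ?_
  · obtain ⟨y, hy, rfl⟩ := QCoh.exists_point hV p
    obtain ⟨x', rfl⟩ := f.surjective y
    obtain ⟨x, hxs, hx⟩ := Set.mem_iUnion₂.1 (hs hy)
    refine ⟨⟨x, hxs⟩, (hW x).primeIdealOf ⟨x', hx⟩, PrimeSpectrum.ext (Ideal.ext fun a => ?_)⟩
    show f.appLE V (W x) (hle x) a ∈ ((hW x).primeIdealOf ⟨x', hx⟩).asIdeal ↔ _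
    rw [← not_iff_not, ← QCoh.mem_basicOpen_iff_notMem (hW x) hx, Scheme.basicOpen_appLE,
      ← QCoh.mem_basicOpen_iff_notMem hV hy]
    exact ⟨fun h => h.2, fun h => ⟨hx, h⟩⟩
  · letI : Module Γ(X, V) Γ(N, W x.1) := Module.compHom _ (f.appLE V (W x.1) (hle x.1)).hom
    haveI : IsScalarTower Γ(X, V) Γ(X', W x.1) Γ(N, W x.1) := .of_algebraMap_smul fun _ _ => rfl
    haveI := QCoh.finite_of_isFT h.1 h.2 (hW x.1)
    let l : Γ(M, V) →ₗ[Γ(X, V)] Γ(N, W x.1) :=
      { toFun := QCoh.pullSec f M (hle x.1)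
        map_add' := QCoh.pullSec_add f M (hle x.1)
        map_smul' := fun r m => QCoh.pullSec_smul f M (hle x.1) r m }
    exact Module.Finite.equiv
      (QCoh.isBaseChange_pullback hV f (hW x.1) hM (hle x.1) (fun _ => rfl) l fun _ => rfl).equiv.symm

end Groth.Agent.ZClosLib
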