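import Groth.Agent.ZClosLib.Noeth

/-!
# Sections of `H⁰` over compact opens
-/

universe u

open CategoryTheory CategoryTheory.Limits AlgebraicGeometry TopologicalSpace Opposite

namespace Groth.Agent.ZClosLib

variable {X : Scheme.{u}} {Z : Set X} {F F' : X.Modules}

theorem img_eq (U V : X.Opens) : img U V = U ⊓ V := ZClos.ι_image_preimage U V

theorem img_le (U V : X.Opens) : img U V ≤ V := U.ι.image_preimage_le V

theorem img_mono {U U' V V' : X.Opens} (hU : U ≤ U') (hV : V ≤ V') : img U V ≤ img U' V' := by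
  rw [img_eq, img_eq]; exact inf_le_inf hU hV

theorem mem_img {U V : X.Opens} {x : X} : x ∈ img U V ↔ x ∈ U ∧ x ∈ V := by rw [img_eq]; rfl

theorem mem_U_sup {T T' : ZClos.Cl Z} {x : X} : x ∈ (T ⊔ T').U ↔ x ∈ T.U ∧ x ∈ T'.U := by
  show ¬ (x ∈ ((T.1 ⊔ T'.1 : Closeds X) : Set X)) ↔ ¬ (x ∈ (T.1 : Set X)) ∧ ¬ (x ∈ (T'.1 : Set X))
  rw [Closeds.coe_sup, Set.mem_union, not_or]

/-- The class of a section at the stage `T`. -/
noncomputable def cls (T : ZClos.Cl Z) (V : X.Opens) (a : Γ(F, img T.U V)) : Γ((ZClos.H0 Z).obj F, V) :=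
  (toH0 Z F T).app V a

theorem cls_res (T : ZClos.Cl Z) {V W : X.Opens} (h : W ≤ V) (a : Γ(F, img T.U V)) :
    res ((ZClos.H0 Z).obj F) h (cls T V a) = cls T W (res F (img_mono le_rfl h) a) :=
  (app_res (toH0 Z F T) h a).symm

theorem cls_map {T T' : ZClos.Cl Z} (h : T ≤ T') (V : X.Opens) (a : Γ(F, img T.U V)) :
    cls T' V (res F (img_mono (ZClos.Cl.U_anti h) le_rfl) a) = cls T V a := by
  have := ι_map_app (colimit.cocone ((ZClos.diagram Z).obj F)) h V a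
  refine Eq.trans ?_ this
  show (toH0 Z F T').app V _ = (toH0 Z F T').app V ((ZClos.resPushMapApp (ZClos.Cl.U_anti h) F).app V a)
  rw [ZClos.resPushMapApp_app]
  rfl

theorem exists_cls [IsLocallyNoetherian X] {V : X.Opens} (hV : IsCompact (V : Set X))
    (s : Γ((ZClos.H0 Z).obj F, V)) : ∃ (T : ZClos.Cl Z) (a : Γ(F, img T.U V)), cls T V a = s :=
  exists_stage (colimit.isColimit ((ZClos.diagram Z).obj F)) hV s

theorem exists_cls₂ [IsLocallyNoetherian X] {V : X.Opens} (hV : IsCompact (V : Set X))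
    (s t : Γ((ZClos.H0 Z).obj F, V)) :
    ∃ (T : ZClos.Cl Z) (a b : Γ(F, img T.U V)), cls T V a = s ∧ cls T V b = t := by
  obtain ⟨T₁, a, rfl⟩ := exists_cls hV s
  obtain ⟨T₂, b, rfl⟩ := exists_cls hV t
  exact ⟨T₁ ⊔ T₂, _, _, cls_map le_sup_left V a, cls_map le_sup_right V b⟩

theorem cls_eq {T : ZClos.Cl Z} {V : X.Opens} (hV : IsCompact (V : Set X)) {a b : Γ(F, img T.U V)}
    (h : cls T V a = cls T V b) : ∃ (T' : ZClos.Cl Z) (hT : T ≤ T'),
      res F (img_mono (ZClos.Cl.U_anti hT) le_rfl) a = res F (img_mono (ZClos.Cl.U_anti hT) le_rfl) b := by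
  obtain ⟨k, hk, e⟩ := exists_eq_stage (colimit.isColimit ((ZClos.diagram Z).obj F)) hV a b h
  refine ⟨k, hk, ?_⟩
  have e' : (ZClos.resPushMapApp (ZClos.Cl.U_anti hk) F).app V a =
      (ZClos.resPushMapApp (ZClos.Cl.U_anti hk) F).app V b := e
  rw [ZClos.resPushMapApp_app] at e'
  exact e'

theorem map_cls (φ : F ⟶ F') (T : ZClos.Cl Z) (V : X.Opens) (a : Γ(F, img T.U V)) :
    ((ZClos.H0 Z).map φ).app V (cls T V a) = cls T V (φ.app (img T.U V) a) := by
  have h : toH0 Z F T ≫ (ZClos.H0 Z).map φ = ((ZClos.diagram Z).map φ).app T ≫ toH0 Z F' T :=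
    ι_colimMap ((ZClos.diagram Z).map φ) T
  exact ConcreteCategory.congr_hom (congrArg (fun k => Scheme.Modules.Hom.app k V) h) a

variable [IsLocallyNoetherian X]

theorem res_H0_bijective (T : ZClos.Cl Z) {V : X.Opens} (hV : IsCompact (V : Set X)) :
    Function.Bijective (res ((ZClos.H0 Z).obj F) (inf_le_left : V ⊓ T.U ≤ V)) := by
  have hc : IsCompact ((V ⊓ T.U : X.Opens) : Set X) := isCompact_of_le hV inf_le_left
  have hle : ∀ k : ZClos.Cl Z, img (k ⊔ T).U V ≤ img k.U (V ⊓ T.U) := fun k x hx => by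
    rw [mem_img, mem_U_sup] at hx
    exact mem_img.2 ⟨hx.1.1, hx.2, hx.1.2⟩
  constructor
  · intro s t e
    obtain ⟨S, a, b, rfl, rfl⟩ := exists_cls₂ hV s t
    rw [cls_res, cls_res] at e
    obtain ⟨k, hk, e'⟩ := cls_eq hc e
    rw [res_res, res_res] at e'
    rw [← cls_map (hk.trans (le_sup_left : k ≤ k ⊔ T)), ← cls_map (hk.trans (le_sup_left : k ≤ k ⊔ T)) V b]
    have := congrArg (res F (hle k)) e'
    rw [res_res, res_res] at this
    exact congrArg (cls (k ⊔ T) V) this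
  · intro s
    obtain ⟨k, a, rfl⟩ := exists_cls hc s
    refine ⟨cls (k ⊔ T) V (res F (hle k) a), ?_⟩
    rw [cls_res, res_res, ← cls_map (le_sup_left : k ≤ k ⊔ T) (V ⊓ T.U) a]

theorem isZClosed_H0 : ZClos.IsZClosed Z ((ZClos.H0 Z).obj F) :=
  isZClosed_iff_forall_bijective.2 fun T _ hV => res_H0_bijective T hV

variable (hZ : StableUnderSpecialization Z)
include hZ

/-- Two sections with equal germs outside `Z` agree at some stage. -/
theorem exists_cl_res_eq {W : X.Opens} (a b : Γ(F, W))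
    (h : ∀ x (hx : x ∈ W), x ∉ Z → F.presheaf.germ W x hx a = F.presheaf.germ W x hx b) :
    ∃ T : ZClos.Cl Z, res F (inf_le_left : W ⊓ T.U ≤ W) a = res F (inf_le_left : W ⊓ T.U ≤ W) b := by
  have key : ∀ p : {x : X // x ∈ W ∧ x ∉ Z}, ∃ (O : X.Opens) (hO : O ≤ W), p.1 ∈ O ∧ res F hO a = res F hO b := fun p => by
    obtain ⟨O, h₁, h₂, hx, e⟩ := exists_res_eq_of_germ_eq F p.2.1 p.2.1 a b (h _ p.2.1 p.2.2)
    exact ⟨O, h₁, hx, e⟩
  choose O hO hxO he using key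
  obtain ⟨T, hT⟩ := exists_cl hZ (W := W) (O := ⨆ p, O p)
    (fun x hx => by_contra fun hxZ => hx.2 (Opens.mem_iSup.2 ⟨⟨x, hx.1, hxZ⟩, hxO _⟩))
  refine ⟨T, section_ext F _ _ fun x hx => ?_⟩
  obtain ⟨p, hp⟩ := Opens.mem_iSup.1 (hT hx)
  rw [germ_res, germ_res, ← germ_res F (hO p) hp a, ← germ_res F (hO p) hp b, he]

theorem cls_eq_of_germ_eq {T : ZClos.Cl Z} {V : X.Opens} (a b : Γ(F, img T.U V))
    (h : ∀ x (hx : x ∈ img T.U V), x ∉ Z →
      F.presheaf.germ _ x hx a = F.presheaf.germ _ x hx b) : cls T V a = cls T V b := by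
  obtain ⟨S, hS⟩ := exists_cl_res_eq hZ a b h
  have hle : img (T ⊔ S).U V ≤ img T.U V ⊓ S.U := fun x hx => by
    rw [mem_img, mem_U_sup] at hx
    exact ⟨mem_img.2 ⟨hx.1.1, hx.2⟩, hx.1.2⟩
  rw [← cls_map (le_sup_left : T ≤ T ⊔ S), ← cls_map (le_sup_left : T ≤ T ⊔ S) V b]
  have := congrArg (res F hle) hS
  rw [res_res, res_res] at this
  exact congrArg (cls (T ⊔ S) V) this

theorem isZero_H0_iff : IsZero ((ZClos.H0 Z).obj F) ↔ ∀ x : X, x ∉ Z → Subsingleton (F.presheaf.stalk x) := by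
  constructor
  · intro h x hx
    have hz : Subsingleton (((ZClos.H0 Z).obj F).presheaf.stalk x) :=
      AddCommGrpCat.subsingleton_of_isZero (Functor.map_isZero (KFlatLib.stalkAb x) h)
    exact (isZClosedAt_of_not_mem F hx).1.subsingleton
  · intro h
    rw [IsZero.iff_id_eq_zero]
    refine Scheme.Modules.hom_ext _ _ fun V => ?_
    ext s
    refine res_eq_of_cover _ (fun x : V => (exists_compact_nhd x.2).choose)
      (fun x => (exists_compact_nhd x.2).choose_spec.1)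
      (fun x hx => ⟨⟨x, hx⟩, (exists_compact_nhd hx).choose_spec.2.1⟩) _ _ fun x => ?_
    obtain ⟨T, a, b, ha, hb⟩ := exists_cls₂ (exists_compact_nhd x.2).choose_spec.2.2
      (res ((ZClos.H0 Z).obj F) (exists_compact_nhd x.2).choose_spec.1 ((𝟙 ((ZClos.H0 Z).obj F) :).app V s))
      (res ((ZClos.H0 Z).obj F) (exists_compact_nhd x.2).choose_spec.1 ((0 : (ZClos.H0 Z).obj F ⟶ _).app V s))
    rw [← ha, ← hb]
    exact cls_eq_of_germ_eq hZ a b fun y _ hy => (h y hy).elim _ _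

theorem isIso_H0_map (φ : F ⟶ F') (hφ : ∀ x : X, x ∉ Z → Function.Bijective (stalkMap φ x)) :
    IsIso ((ZClos.H0 Z).map φ) := by
  refine isIso_of_good _ (fun W : X.Opens => IsCompact (W : Set X)) (fun V x hx => exists_compact_nhd hx)
    fun V hV => ⟨fun s t e => ?_, fun s => ?_⟩
  · obtain ⟨T, a, b, rfl, rfl⟩ := exists_cls₂ hV s t
    rw [map_cls, map_cls] at e
    obtain ⟨k, hk, e'⟩ := cls_eq hV e
    rw [← app_res, ← app_res] at e'
    rw [← cls_map hk, ← cls_map hk V b]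
    refine cls_eq_of_germ_eq hZ _ _ fun x hx hxZ => (hφ x hxZ).1 ?_
    rw [stalkMap_germ, stalkMap_germ, e']
  · obtain ⟨T, b, rfl⟩ := exists_cls hV s
    have key : ∀ p : {x : X // x ∈ img T.U V ∧ x ∉ Z}, ∃ (O : X.Opens) (hO : O ≤ img T.U V) (a : Γ(F, O)),
        p.1 ∈ O ∧ φ.app O a = res F' hO b := fun p => by
      obtain ⟨z, hz⟩ := (hφ p.1 p.2.2).2 (F'.presheaf.germ _ p.1 p.2.1 b)
      obtain ⟨U, hxU, a, rfl⟩ := TopCat.Presheaf.germ_exist F.presheaf z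
      rw [stalkMap_germ] at hz
      obtain ⟨O, h₁, h₂, hxO, e⟩ := exists_res_eq_of_germ_eq F' hxU p.2.1 _ _ hz
      exact ⟨O, h₂, res F h₁ a, hxO, by rw [app_res, e]⟩
    choose O hO a hxO ha using key
    have hOc : IsCompact ((⨆ p, O p : X.Opens) : Set X) :=
      isCompact_of_le (isCompact_of_le hV (img_le T.U V)) (iSup_le hO)
    obtain ⟨P, hP⟩ := hOc.elim_finite_subcover (fun p => (O p : Set X)) (fun p => (O p).2)
      (Opens.coe_iSup _).le
    have agree : ∀ pq : P × P, ∃ S : ZClos.Cl Z,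
        res F (inf_le_left : (O pq.1.1 ⊓ O pq.2.1) ⊓ S.U ≤ _) (res F inf_le_left (a pq.1.1)) =
          res F inf_le_left (res F (inf_le_right : O pq.1.1 ⊓ O pq.2.1 ≤ _) (a pq.2.1)) := fun pq => by
      refine exists_cl_res_eq hZ _ _ fun x hx hxZ => (hφ x hxZ).1 ?_
      rw [stalkMap_germ, stalkMap_germ, app_res, app_res, ha, ha, res_res, res_res]
    choose S hS using agree
    obtain ⟨T₀, hT₀⟩ := exists_cl hZ (W := img T.U V) (O := ⨆ p, O p)
      (fun x hx => by_contra fun hxZ => hx.2 (Opens.mem_iSup.2 ⟨⟨x, hx.1, hxZ⟩, hxO _⟩))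
    classical
    obtain ⟨T₁, hT₁⟩ := Finset.exists_le (insert T (insert T₀ (Finset.univ.image S)))
    have hT : T ≤ T₁ := hT₁ T (Finset.mem_insert_self _ _)
    have h0 : T₀ ≤ T₁ := hT₁ T₀ (Finset.mem_insert_of_mem (Finset.mem_insert_self _ _))
    have hSle : ∀ pq, S pq ≤ T₁ := fun pq => hT₁ _
      (Finset.mem_insert_of_mem (Finset.mem_insert_of_mem (Finset.mem_image_of_mem S (Finset.mem_univ pq))))
    obtain ⟨t, ht⟩ := exists_glue F (U := img T₁.U V) (fun p : P => O p.1 ⊓ img T₁.U V) (fun p => inf_le_right)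
      (fun x hx => by
        obtain ⟨p, hp, hxp⟩ := Set.mem_iUnion₂.1 (hP (hT₀ ⟨img_mono (ZClos.Cl.U_anti hT) le_rfl hx,
          ZClos.Cl.U_anti h0 (mem_img.1 hx).1⟩))
        exact ⟨⟨p, hp⟩, hxp, hx⟩)
      (fun p => res F inf_le_left (a p.1)) fun p q => by
        have hle : (O p.1 ⊓ img T₁.U V) ⊓ (O q.1 ⊓ img T₁.U V) ≤ (O p.1 ⊓ O q.1) ⊓ (S (p, q)).U :=
          fun x hx => ⟨⟨hx.1.1, hx.2.1⟩, ZClos.Cl.U_anti (hSle _) (mem_img.1 hx.1.2).1⟩
        have := congrArg (res F hle) (hS (p, q))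
        rw [res_res, res_res, res_res, res_res] at this
        rw [res_res, res_res]
        exact this
    refine ⟨cls T₁ V t, ?_⟩
    rw [map_cls, ← cls_map hT V b]
    refine congrArg (cls T₁ V) (res_eq_of_cover F' (fun p : P => O p.1 ⊓ img T₁.U V) (fun p => inf_le_right)
      (fun x hx => ?_) _ _ fun p => ?_)
    · obtain ⟨p, hp, hxp⟩ := Set.mem_iUnion₂.1 (hP (hT₀ ⟨img_mono (ZClos.Cl.U_anti hT) le_rfl hx,
        ZClos.Cl.U_anti h0 (mem_img.1 hx).1⟩))
      exact ⟨⟨p, hp⟩, hxp, hx⟩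
    · rw [← app_res, ht, app_res, ha, res_res, res_res]

theorem isIso_fac {v : (ZClos.H0 Z).obj F ⟶ F'} {φ : F ⟶ F'} (hF' : ZClos.IsZClosed Z F')
    (hφ : ∀ x : X, x ∉ Z → Function.Bijective (stalkMap φ x)) (hv : ZClos.rhoApp Z F ≫ v = φ) : IsIso v := by
  haveI : IsIso (ZClos.rhoApp Z F') := hF'
  haveI := isIso_H0_map hZ φ hφ
  have h : v = (ZClos.H0 Z).map φ ≫ inv (ZClos.rhoApp Z F') := (existsUnique_fac hF' φ).unique hv (by
    have hn : φ ≫ ZClos.rhoApp Z F' = ZClos.rhoApp Z F ≫ (ZClos.H0 Z).map φ := (ZClos.rho Z).naturality φ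
    rw [← Category.assoc, ← hn, Category.assoc, IsIso.hom_inv_id, Category.comp_id])
  rw [h]
  infer_instance

end Groth.Agent.ZClosLib
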