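import Groth.Agent.ZClosLib.Noeth
import Groth.Agent.QCoh.Qcqs

/-!
# `H⁰` preserves quasi-coherence
-/

universe u

open CategoryTheory CategoryTheory.Limits AlgebraicGeometry TopologicalSpace Opposite

namespace Groth.Agent.ZClosLib

variable {X : Scheme.{u}} [IsLocallyNoetherian X] {Z : Set X}

theorem isQCoh_H0 {F : X.Modules} (hF : Coh.IsQCoh F) : Coh.IsQCoh ((ZClos.H0 Z).obj F) := by
  refine QCoh.isQCoh_colimit ((ZClos.diagram Z).obj F) fun T => ?_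
  haveI : QuasiCompact T.U.ι := ⟨fun W hW hc =>
    (T.U.ι.isOpenEmbedding.isEmbedding.isCompact_iff).2
      (isCompact_of_le (V := ⟨W, hW⟩) (W := T.U.ι ''ᵁ T.U.ι ⁻¹ᵁ ⟨W, hW⟩) hc (T.U.ι.image_preimage_le _))⟩
  exact QCoh.isQCoh_pushforward T.U.ι (QCoh.isQCoh_restrict T.U.ι hF)

end Groth.Agent.ZClosLib
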