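import Groth.Agent.ZClosLib.CloCriterion
import Groth.Agent.ZClosLib.H0
import Groth.Agent.ZClosLib.QCohH0
import Groth.Agent.QCoh.PullbackBC
import Groth.Agent.QCoh.Stalk
import Groth.Agent.QCoh.Pullback
import Mathlib.AlgebraicGeometry.Morphisms.Flat

/-!
# `H⁰_{X/Z}` commutes with flat pullback
-/

set_option backward.isDefEq.respectTransparency false
set_option backward.isDefEq.respectTransparency.types false
set_option linter.style.haveILetI false

universe u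

open CategoryTheory CategoryTheory.Limits AlgebraicGeometry TopologicalSpace Opposite
open scoped TensorProduct

namespace Groth.Agent.ZClosLib

variable {X X' : Scheme.{u}} (f : X' ⟶ X)

theorem pullSec_natural {M₁ M₂ : X.Modules} (φ : M₁ ⟶ M₂) {V : X.Opens} {W : X'.Opens} (hle : W ≤ f ⁻¹ᵁ V)
    (m : Γ(M₁, V)) :
    ((Scheme.Modules.pullback f).map φ).app W (QCoh.pullSec f M₁ hle m) = QCoh.pullSec f M₂ hle (φ.app V m) := by
  unfold QCoh.pullSec
  rw [QCoh.map_app_comm]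
  refine congrArg _ ?_
  exact congr($((Scheme.Modules.pullbackPushforwardAdjunction f).unit.naturality φ).app V m).symm

theorem res_bijective_pullback [Flat f] {G : X.Modules} (hG : Coh.IsQCoh G) {V : X.Opens} (hV : IsAffineOpen V)
    {W : X'.Opens} (hW : IsAffineOpen W) (hWV : W ≤ f ⁻¹ᵁ V) {r : ℕ} (a : Fin r → Γ(X, V)) {O : X.Opens}
    (hO : O = ⨆ i, X.basicOpen (a i)) (hOV : O ≤ V) (hb : Function.Bijective (res G hOV)) :
    Function.Bijective (res ((Scheme.Modules.pullback f).obj G) (inf_le_left : W ⊓ f ⁻¹ᵁ O ≤ W)) := by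
  let N := (Scheme.Modules.pullback f).obj G
  have hN : Coh.IsQCoh N := QCoh.isQCoh_pullback f hG
  letI : Algebra Γ(X, V) Γ(X', W) := (f.appLE V W hWV).hom.toAlgebra
  haveI : Module.Flat Γ(X, V) Γ(X', W) := f.flat_appLE hV hW hWV
  letI : Module Γ(X, V) Γ(N, W) := Module.compHom _ (f.appLE V W hWV).hom
  haveI : IsScalarTower Γ(X, V) Γ(X', W) Γ(N, W) := .of_algebraMap_smul fun _ _ => rfl
  let l : Γ(G, V) →ₗ[Γ(X, V)] Γ(N, W) :=
    { toFun := QCoh.pullSec f G hWV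
      map_add' := QCoh.pullSec_add f G hWV
      map_smul' := fun r m => QCoh.pullSec_smul f G hWV r m }
  have hl : IsBaseChange Γ(X', W) l :=
    QCoh.isBaseChange_pullback hV f hW hG hWV (fun _ => rfl) l fun _ => rfl
  have hclo := clo_baseChange hl ((res_bijective_iff_clo hG hV a hO hOV).1 hb)
  refine (res_bijective_iff_clo hN hW (fun i => f.appLE V W hWV (a i)) ?_ inf_le_left).2 hclo
  subst hO
  rw [Scheme.Hom.preimage_iSup, inf_iSup_eq]
  exact iSup_congr fun i => (Scheme.basicOpen_appLE f W V hWV (a i)).symm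

theorem exists_basicOpen_cover {V O : X.Opens} (hV : IsAffineOpen V) (hO : IsCompact (O : Set X)) (hle : O ≤ V) :
    ∃ (r : ℕ) (a : Fin r → Γ(X, V)), O = ⨆ i, X.basicOpen (a i) := by
  have h : ∀ x : O, ∃ g : Γ(X, V), X.basicOpen g ≤ O ∧ x.1 ∈ X.basicOpen g := fun x =>
    hV.exists_basicOpen_le ⟨x.1, x.2⟩ (hle x.2)
  choose g hg hxg using h
  obtain ⟨s, hs⟩ := hO.elim_finite_subcover (fun x : O => (X.basicOpen (g x) : Set X))
    (fun x => (X.basicOpen (g x)).2) (fun x hx => Set.mem_iUnion.2 ⟨⟨x, hx⟩, hxg ⟨x, hx⟩⟩)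
  refine ⟨s.card, fun i => g (s.equivFin.symm i).1, le_antisymm (fun x hx => ?_) (iSup_le fun i => hg _)⟩
  obtain ⟨y, hy, hxy⟩ := Set.mem_iUnion₂.1 (hs hx)
  exact Opens.mem_iSup.2 ⟨s.equivFin ⟨y, hy⟩, by simpa using hxy⟩

variable [IsLocallyNoetherian X'] {Z : Set X}

theorem exists_cl_image (hZ : StableUnderSpecialization Z) (T' : ZClos.Cl (f.base ⁻¹' Z)) {W : X'.Opens}
    (hW : IsAffineOpen W) : ∃ T : ZClos.Cl Z, W ⊓ f ⁻¹ᵁ T.U ≤ W ⊓ T'.U := by
  set S := (W : Set X') \ T'.U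
  haveI := noetherianSpace_affine hW
  haveI : NoetherianSpace S := (Topology.IsEmbedding.inclusion (Set.diff_subset :
    S ⊆ (W : Set X'))).isInducing.noetherianSpace
  have hsub : closure (f.base '' S) ⊆ Z := by
    have hcover : f.base '' S = ⋃ C ∈ irreducibleComponents S, f.base '' ((Subtype.val : S → X') '' C) := by
      refine subset_antisymm ?_ (Set.iUnion₂_subset fun C _ => Set.image_mono (by rintro _ ⟨y, -, rfl⟩; exact y.2))
      rintro _ ⟨y, hy, rfl⟩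
      exact Set.mem_iUnion₂.2 ⟨irreducibleComponent (⟨y, hy⟩ : S), irreducibleComponent_mem_irreducibleComponents _,
        ⟨y, ⟨⟨y, hy⟩, mem_irreducibleComponent, rfl⟩, rfl⟩⟩
    rw [hcover, NoetherianSpace.finite_irreducibleComponents.closure_biUnion]
    refine Set.iUnion₂_subset fun C hC => ?_
    have hirr : IsIrreducible ((Subtype.val : S → X') '' C) := hC.1.image _ continuous_subtype_val.continuousOn
    have hη := hirr.isGenericPoint_genericPoint_closure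
    set η := hirr.genericPoint
    have hηZ : f.base η ∈ Z := by
      refine T'.2 (?_ : η ∈ (T'.1 : Set X'))
      have hcl : closure ((Subtype.val : S → X') '' C) ⊆ (T'.1 : Set X') := by
        refine closure_minimal ?_ T'.1.isClosed
        rintro _ ⟨y, -, rfl⟩
        exact not_not.1 y.2.2
      exact hcl hη.mem
    intro x hx
    refine hZ ?_ hηZ
    rw [specializes_iff_mem_closure]
    refine closure_minimal ?_ isClosed_closure hx
    rintro _ ⟨y, hy, rfl⟩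
    exact specializes_iff_mem_closure.1 ((hη.specializes (subset_closure hy)).map f.base.hom.continuous)
  refine ⟨⟨⟨closure (f.base '' S), isClosed_closure⟩, hsub⟩, fun x hx => ⟨hx.1, ?_⟩⟩
  exact by_contra fun hx' => hx.2 (subset_closure ⟨x, ⟨hx.1, hx'⟩, rfl⟩)

variable [IsLocallyNoetherian X] [Flat f]

theorem isZClosed_pullback (hZ : StableUnderSpecialization Z) {G : X.Modules} (hG : Coh.IsQCoh G)
    (hc : ZClos.IsZClosed Z G) : ZClos.IsZClosed (f.base ⁻¹' Z) ((Scheme.Modules.pullback f).obj G) := by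
  let N := (Scheme.Modules.pullback f).obj G
  refine isZClosed_iff_forall_isIso.2 fun T' => isIso_of_good (ZClos.toDiagram (f.base ⁻¹' Z) N T')
    (fun W : X'.Opens => IsAffineOpen W ∧ ∃ V : X.Opens, IsAffineOpen V ∧ W ≤ f ⁻¹ᵁ V) (fun V' x hx => ?_)
    fun W ⟨hW, V, hV, hWV⟩ => (unit_app_bijective_iff T'.U N W).2 ?_
  · obtain ⟨V, hV, hxV, -⟩ := exists_isAffineOpen_mem_and_subset (x := f x) (U := ⊤) trivial
    obtain ⟨W, hW, hxW, hle⟩ := exists_isAffineOpen_mem_and_subset (x := x) (U := V' ⊓ f ⁻¹ᵁ V) ⟨hx, hxV⟩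
    exact ⟨W, fun y hy => (hle hy).1, hxW, hW, V, hV, fun y hy => (hle hy).2⟩
  obtain ⟨T, hT⟩ := exists_cl_image f hZ T' hW
  have hOc : IsCompact ((V ⊓ T.U : X.Opens) : Set X) := isCompact_of_subset_affine hV Set.inter_subset_left
  obtain ⟨r, a, ha⟩ := exists_basicOpen_cover hV hOc inf_le_left
  have hb := isZClosed_iff_forall_bijective.1 hc T V hV.isCompact
  have key : ∀ (W₁ : X'.Opens), IsAffineOpen W₁ → W₁ ≤ f ⁻¹ᵁ V →
      Function.Bijective (res N (inf_le_left : W₁ ⊓ f ⁻¹ᵁ T.U ≤ W₁)) := fun W₁ hW₁ hW₁V => by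
    have h1 := res_bijective_pullback f hG hV hW₁ hW₁V a ha inf_le_left hb
    have e : W₁ ⊓ f ⁻¹ᵁ (V ⊓ T.U) = W₁ ⊓ f ⁻¹ᵁ T.U :=
      le_antisymm (fun y hy => ⟨hy.1, hy.2.2⟩) (fun y hy => ⟨hy.1, hW₁V hy.1, hy.2⟩)
    have h2 : res N (inf_le_left : W₁ ⊓ f ⁻¹ᵁ T.U ≤ W₁) =
        res N e.ge ∘ res N (inf_le_left : W₁ ⊓ f ⁻¹ᵁ (V ⊓ T.U) ≤ W₁) := funext fun s => (res_res N _ _ s).symm
    rw [h2]
    exact (res_bijective_of_eq N e.ge e.le).comp h1
  have hk := key W hW hWV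
  refine ⟨fun s t e => hk.1 ?_, fun t => ?_⟩
  · have := congrArg (res N hT) e
    rwa [res_res, res_res] at this
  · obtain ⟨s, hs⟩ := hk.2 (res N hT t)
    refine ⟨s, ?_⟩
    choose A hA hxA hAle using fun x : ↥(W ⊓ T'.U) =>
      exists_isAffineOpen_mem_and_subset (x := x.1) (U := W ⊓ T'.U) x.2
    refine res_eq_of_cover N A (fun x => hAle x) (fun x hx => ⟨⟨x, hx⟩, hxA ⟨x, hx⟩⟩) _ _ fun x => ?_
    have hAV : A x ≤ f ⁻¹ᵁ V := fun y hy => hWV (hAle x hy).1
    have hle : A x ⊓ f ⁻¹ᵁ T.U ≤ W ⊓ f ⁻¹ᵁ T.U := fun y hy => ⟨(hAle x hy.1).1, hy.2⟩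
    refine (key (A x) (hA x) hAV).1 ?_
    have := congrArg (res N hle) hs
    simp only [res_res] at this ⊢
    exact this

theorem stalkMap_pullback_bijective {M₁ M₂ : X.Modules} (h₁ : Coh.IsQCoh M₁) (h₂ : Coh.IsQCoh M₂) (φ : M₁ ⟶ M₂)
    (x' : X') (hφ : Function.Bijective (stalkMap φ (f x'))) :
    Function.Bijective (stalkMap ((Scheme.Modules.pullback f).map φ) x') := by
  let N₁ := (Scheme.Modules.pullback f).obj M₁
  let N₂ := (Scheme.Modules.pullback f).obj M₂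
  let ψ : N₁ ⟶ N₂ := (Scheme.Modules.pullback f).map φ
  have hN₁ : Coh.IsQCoh N₁ := QCoh.isQCoh_pullback f h₁
  have hN₂ : Coh.IsQCoh N₂ := QCoh.isQCoh_pullback f h₂
  obtain ⟨V, hV, hxV, -⟩ := exists_isAffineOpen_mem_and_subset (x := f x') (U := ⊤) trivial
  -- the two halves on an affine chart
  suffices key : ∀ (W : X'.Opens), IsAffineOpen W → ∀ (hx : x' ∈ W), W ≤ f ⁻¹ᵁ V →
      (∀ n : Γ(N₁, W), N₂.presheaf.germ W x' hx (ψ.app W n) = 0 → N₁.presheaf.germ W x' hx n = 0) ∧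
      (∀ n : Γ(N₂, W), ∃ z, stalkMap ψ x' z = N₂.presheaf.germ W x' hx n) by
    constructor
    · refine (injective_iff_map_eq_zero (stalkMap ψ x').hom).2 fun z hz => ?_
      obtain ⟨U, hxU, a, rfl⟩ := TopCat.Presheaf.germ_exist N₁.presheaf z
      obtain ⟨W, hW, hxW, hle⟩ := exists_isAffineOpen_mem_and_subset (x := x') (U := U ⊓ f ⁻¹ᵁ V) ⟨hxU, hxV⟩
      have hWU : W ≤ U := fun y hy => (hle hy).1
      rw [← germ_res N₁ hWU hxW]
      refine (key W hW hxW fun y hy => (hle hy).2).1 _ ?_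
      rw [← stalkMap_germ, germ_res]
      exact hz
    · intro z
      obtain ⟨U, hxU, a, rfl⟩ := TopCat.Presheaf.germ_exist N₂.presheaf z
      obtain ⟨W, hW, hxW, hle⟩ := exists_isAffineOpen_mem_and_subset (x := x') (U := U ⊓ f ⁻¹ᵁ V) ⟨hxU, hxV⟩
      have hWU : W ≤ U := fun y hy => (hle hy).1
      obtain ⟨w, hw⟩ := (key W hW hxW fun y hy => (hle hy).2).2 (res N₂ hWU a)
      exact ⟨w, hw.trans (germ_res N₂ hWU hxW a)⟩
  intro W hW hxW hWV
  letI : Algebra Γ(X, V) Γ(X', W) := (f.appLE V W hWV).hom.toAlgebra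
  haveI : Module.Flat Γ(X, V) Γ(X', W) := f.flat_appLE hV hW hWV
  letI : Module Γ(X, V) Γ(N₁, W) := Module.compHom _ (f.appLE V W hWV).hom
  haveI : IsScalarTower Γ(X, V) Γ(X', W) Γ(N₁, W) := .of_algebraMap_smul fun _ _ => rfl
  letI : Module Γ(X, V) Γ(N₂, W) := Module.compHom _ (f.appLE V W hWV).hom
  haveI : IsScalarTower Γ(X, V) Γ(X', W) Γ(N₂, W) := .of_algebraMap_smul fun _ _ => rfl
  let l₁ : Γ(M₁, V) →ₗ[Γ(X, V)] Γ(N₁, W) :=
    { toFun := QCoh.pullSec f M₁ hWV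
      map_add' := QCoh.pullSec_add f M₁ hWV
      map_smul' := fun r m => QCoh.pullSec_smul f M₁ hWV r m }
  let l₂ : Γ(M₂, V) →ₗ[Γ(X, V)] Γ(N₂, W) :=
    { toFun := QCoh.pullSec f M₂ hWV
      map_add' := QCoh.pullSec_add f M₂ hWV
      map_smul' := fun r m => QCoh.pullSec_smul f M₂ hWV r m }
  have hl₁ : IsBaseChange Γ(X', W) l₁ := QCoh.isBaseChange_pullback hV f hW h₁ hWV (fun _ => rfl) l₁ fun _ => rfl
  have hl₂ : IsBaseChange Γ(X', W) l₂ := QCoh.isBaseChange_pullback hV f hW h₂ hWV (fun _ => rfl) l₂ fun _ => rfl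
  let φV : Γ(M₁, V) →ₗ[Γ(X, V)] Γ(M₂, V) :=
    { toFun := φ.app V, map_add' := map_add _, map_smul' := Scheme.Modules.Hom.app_smul φ }
  let ψW : Γ(N₁, W) →ₗ[Γ(X', W)] Γ(N₂, W) :=
    { toFun := ψ.app W, map_add' := map_add _, map_smul' := Scheme.Modules.Hom.app_smul ψ }
  let p := (hV.primeIdealOf ⟨f x', hxV⟩).asIdeal
  letI := QCoh.stalkModule M₁ hxV
  letI := QCoh.stalkModule M₂ hxV
  haveI := QCoh.isLocalizedModule_germLin h₁ hV hxV
  haveI := QCoh.isLocalizedModule_germLin h₂ hV hxV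
  have hker : ∀ m, φV m = 0 → ∃ s : p.primeCompl, (s : Γ(X, V)) • m = 0 := fun m hm => by
    have h0 : QCoh.germLin M₁ hxV m = 0 := hφ.1 (by
      show stalkMap φ (f x') (M₁.presheaf.germ V (f x') hxV m) = stalkMap φ (f x') 0
      rw [stalkMap_germ, show φ.app V m = 0 from hm, map_zero, map_zero])
    exact (IsLocalizedModule.eq_zero_iff p.primeCompl (QCoh.germLin M₁ hxV)).1 h0
  have hsurj : ∀ m₂, ∃ s : p.primeCompl, ∃ m₁, φV m₁ = (s : Γ(X, V)) • m₂ := fun m₂ => by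
    obtain ⟨z, hz⟩ := hφ.2 (M₂.presheaf.germ V (f x') hxV m₂)
    obtain ⟨⟨m₁, s⟩, hs⟩ := IsLocalizedModule.surj p.primeCompl (QCoh.germLin M₁ hxV) z
    obtain ⟨U, hxU, a, rfl⟩ := TopCat.Presheaf.germ_exist M₁.presheaf z
    let W₀ := U ⊓ V
    have hxW₀ : f x' ∈ W₀ := ⟨hxU, hxV⟩
    have e1 : M₁.presheaf.germ W₀ (f x') hxW₀
        (X.presheaf.map (homOfLE (inf_le_right : W₀ ≤ V)).op s.1 • res M₁ (inf_le_left : W₀ ≤ U) a) =
        M₁.presheaf.germ W₀ (f x') hxW₀ (res M₁ (inf_le_right : W₀ ≤ V) m₁) := by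
      rw [QCoh.germ_smul', germ_res, germ_res]
      erw [X.presheaf.germ_res_apply (homOfLE (inf_le_right : W₀ ≤ V)) (f x') hxW₀]
      exact hs
    have e2 := congrArg (stalkMap φ (f x')) e1
    rw [stalkMap_germ, stalkMap_germ, Scheme.Modules.Hom.app_smul, app_res, app_res, QCoh.germ_smul', germ_res,
      germ_res] at e2
    erw [X.presheaf.germ_res_apply (homOfLE (inf_le_right : W₀ ≤ V)) (f x') hxW₀] at e2
    rw [stalkMap_germ] at hz
    rw [hz, ← QCoh.germ_smul'] at e2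
    obtain ⟨c, hc⟩ := (IsLocalizedModule.eq_iff_exists p.primeCompl (QCoh.germLin M₂ hxV)).1 e2.symm
    exact ⟨c * s, (c : Γ(X, V)) • m₁, by rw [map_smul, Submonoid.coe_mul, mul_smul]; exact hc⟩
  let E₁ := hl₁.equiv.restrictScalars Γ(X, V)
  let E₂ := hl₂.equiv.restrictScalars Γ(X, V)
  have hcomm : ∀ z, ψW (E₁ z) = E₂ (φV.lTensor Γ(X', W) z) := fun z => by
    induction z using TensorProduct.induction_on with
    | zero => simp
    | add u v hu hv => simp only [map_add, hu, hv]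
    | tmul b m =>
      rw [LinearMap.lTensor_tmul, show E₁ (b ⊗ₜ m) = b • l₁ m from hl₁.equiv_tmul b m,
        show E₂ (b ⊗ₜ φV m) = b • l₂ (φV m) from hl₂.equiv_tmul b (φV m), map_smul]
      exact congrArg (b • ·) (pullSec_natural f φ hWV m)
  have hker' : ∀ n, ψW n = 0 → ∃ s : p.primeCompl, (s : Γ(X, V)) • n = 0 := fun n hn => by
    obtain ⟨z, rfl⟩ := E₁.surjective n
    rw [hcomm] at hn
    obtain ⟨y, rfl⟩ := (Module.Flat.lTensor_exact Γ(X', W) (LinearMap.exact_subtype_ker_map φV) z).1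
      (E₂.injective (hn.trans (map_zero E₂).symm))
    suffices ∃ s : p.primeCompl, (s : Γ(X, V)) • (LinearMap.ker φV).subtype.lTensor Γ(X', W) y = 0 by
      obtain ⟨s, hs⟩ := this
      exact ⟨s, by rw [← map_smul, hs, map_zero]⟩
    clear hn
    induction y using TensorProduct.induction_on with
    | zero => exact ⟨1, by simp⟩
    | add u v hu hv =>
      obtain ⟨s, hs⟩ := hu
      obtain ⟨t, ht⟩ := hv
      exact ⟨t * s, by rw [map_add, smul_add, Submonoid.coe_mul, mul_smul, hs, smul_zero, zero_add,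
        mul_comm (t : Γ(X, V)), mul_smul, ht, smul_zero]⟩
    | tmul b m =>
      obtain ⟨s, hs⟩ := hker m.1 m.2
      exact ⟨s, by rw [LinearMap.lTensor_tmul, ← TensorProduct.tmul_smul]; simp [hs]⟩
  have hsurj' : ∀ n, ∃ s : p.primeCompl, ∃ n₁, ψW n₁ = (s : Γ(X, V)) • n := fun n => by
    obtain ⟨z, rfl⟩ := E₂.surjective n
    suffices ∃ s : p.primeCompl, ∃ y, φV.lTensor Γ(X', W) y = (s : Γ(X, V)) • z by
      obtain ⟨s, y, hy⟩ := this
      exact ⟨s, E₁ y, by rw [hcomm, hy, map_smul]⟩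
    induction z using TensorProduct.induction_on with
    | zero => exact ⟨1, 0, by simp⟩
    | add u v hu hv =>
      obtain ⟨s, y, hy⟩ := hu
      obtain ⟨t, w, hw⟩ := hv
      exact ⟨t * s, (t : Γ(X, V)) • y + (s : Γ(X, V)) • w, by
        rw [map_add, map_smul, map_smul, hy, hw, smul_add, Submonoid.coe_mul, smul_smul, smul_smul,
          mul_comm (s : Γ(X, V)) (t : Γ(X, V))]⟩
    | tmul b m =>
      obtain ⟨s, m₁, hm⟩ := hsurj m
      exact ⟨s, b ⊗ₜ m₁, by rw [LinearMap.lTensor_tmul, hm, TensorProduct.tmul_smul]⟩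
  have hunit : ∀ s : p.primeCompl, IsUnit (X'.presheaf.germ W x' hxW (f.appLE V W hWV s.1)) := fun s => by
    rw [← X'.mem_basicOpen _ x' hxW, Scheme.basicOpen_appLE]
    exact ⟨hxW, (QCoh.mem_basicOpen_iff_notMem hV hxV _).2 s.2⟩
  refine ⟨fun n hn => ?_, fun n => ?_⟩
  · letI := QCoh.stalkModule N₂ hxW
    haveI := QCoh.isLocalizedModule_germLin hN₂ hW hxW
    obtain ⟨c, hc⟩ := (IsLocalizedModule.eq_zero_iff (hW.primeIdealOf ⟨x', hxW⟩).asIdeal.primeCompl
      (QCoh.germLin N₂ hxW)).1 hn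
    obtain ⟨s, hs⟩ := hker' ((c : Γ(X', W)) • n) ((map_smul ψW _ _).trans hc)
    have h0 : N₁.presheaf.germ W x' hxW ((s : Γ(X, V)) • (c : Γ(X', W)) • n) = 0 := by rw [hs]; exact map_zero _
    erw [QCoh.germ_smul', QCoh.germ_smul', (hunit s).smul_eq_zero] at h0
    exact (((X'.mem_basicOpen _ x' hxW).1 ((QCoh.mem_basicOpen_iff_notMem hW hxW _).2 c.2)).smul_eq_zero).1 h0
  · obtain ⟨s, n₁, hn₁⟩ := hsurj' n
    let b := f.appLE V W hWV s.1
    have hxb : x' ∈ X'.basicOpen b := (X'.mem_basicOpen _ x' hxW).2 (hunit s)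
    have hu : IsUnit (X'.presheaf.map (homOfLE (X'.basicOpen_le b)).op b) :=
      RingedSpace.isUnit_res_basicOpen X'.toRingedSpace b
    refine ⟨N₁.presheaf.germ (X'.basicOpen b) x' hxb (hu.unit⁻¹.val • res N₁ (X'.basicOpen_le b) n₁), ?_⟩
    rw [stalkMap_germ, Scheme.Modules.Hom.app_smul, app_res, show ψ.app W n₁ = b • n from hn₁]
    rw [show res N₂ (X'.basicOpen_le b) (b • n) =
      X'.presheaf.map (homOfLE (X'.basicOpen_le b)).op b • res N₂ (X'.basicOpen_le b) n from QCoh.map_smul' _ _ _,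
      ← mul_smul, IsUnit.val_inv_mul, one_smul, germ_res]

/-- `H⁰` commutes with flat pullback. -/
theorem nonempty_pullback_H0_iso (hZ : StableUnderSpecialization Z) {F : X.Modules} (hF : Coh.IsQCoh F) :
    Nonempty ((Scheme.Modules.pullback f).obj ((ZClos.H0 Z).obj F) ≅
      (ZClos.H0 (f.base ⁻¹' Z)).obj ((Scheme.Modules.pullback f).obj F)) := by
  have hZ' : StableUnderSpecialization (f.base ⁻¹' Z) := fun a b hab ha => hZ (hab.map f.base.hom.continuous) ha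
  have hH := isQCoh_H0 (Z := Z) hF
  have hc := isZClosed_pullback f hZ hH isZClosed_H0
  let φ := (Scheme.Modules.pullback f).map (ZClos.rhoApp Z F)
  obtain ⟨v, hv, -⟩ := existsUnique_fac hc φ
  haveI : IsIso v := isIso_fac hZ' hc (fun x' hx' =>
    stalkMap_pullback_bijective f hF hH (ZClos.rhoApp Z F) x' (isZClosedAt_of_not_mem F hx')) hv
  exact ⟨(asIso v).symm⟩

end Groth.Agent.ZClosLib
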