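import Mathlib
import Groth.Prelude.Def_FlatCA
import Groth.Agent.CAlgUI.Basic
import Groth.Agent.CAlgUI.ML
import Groth.Agent.CAlgUI.FlatML

/-!
# Universal injectivity of `N → N^` over Noetherian rings
-/

set_option autoImplicit false

universe u

open TensorProduct

namespace Groth.Agent.ZClosLib.AdicUI

variable {R : Type u} [CommRing R]

theorem univInj_iff {M N : Type u} [AddCommGroup M] [Module R M] [AddCommGroup N] [Module R N] (f : M →ₗ[R] N) :
    FlatCA.UnivInj R f ↔ CAlgX.UniversallyInjective R f :=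
  ⟨fun h Q _ _ => (LinearMap.lTensor_inj_iff_rTensor_inj Q f).1 (h Q),
    fun h Q _ _ => (LinearMap.lTensor_inj_iff_rTensor_inj Q f).2 (h Q)⟩

theorem restrict_mem_smul_top {S : Type u} [CommRing S] [Algebra R S] (I : Ideal R) (n : ℕ) {M : Type u}
    [AddCommGroup M] [Module R M] [Module S M] [IsScalarTower R S M] {x : M}
    (hx : x ∈ (I ^ n • ⊤ : Submodule R M)) : x ∈ ((I.map (algebraMap R S)) ^ n • ⊤ : Submodule S M) := by
  refine Submodule.smul_induction_on hx (fun r hr y _ => ?_) fun a b ha hb => add_mem ha hb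
  rw [← algebraMap_smul S r y, ← Ideal.map_pow]
  exact Submodule.smul_mem_smul (Ideal.mem_map_of_mem _ hr) Submodule.mem_top

/-- Krull: `M` is `I`-adically separated when `IS + q ≠ S` for every associated prime `q`. -/
theorem of_injective {S : Type u} [CommRing S] [IsNoetherianRing S] [Algebra R S] (I : Ideal R) {M : Type u}
    [AddCommGroup M] [Module R M] [Module S M] [IsScalarTower R S M] [Module.Finite S M]
    (h : ∀ q ∈ associatedPrimes S M, I.map (algebraMap R S) ⊔ q ≠ ⊤) :
    Function.Injective (AdicCompletion.of I M) := by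
  refine (injective_iff_map_eq_zero _).2 fun x hx => ?_
  by_contra hx0
  have hmem : x ∈ (⨅ i : ℕ, (I.map (algebraMap R S)) ^ i • ⊤ : Submodule S M) := by
    refine Submodule.mem_iInf _ |>.2 fun i => restrict_mem_smul_top I i ?_
    rw [← Submodule.Quotient.mk_eq_zero]
    exact congrArg (fun z : AdicCompletion I M => z.val i) hx
  obtain ⟨⟨r, hr⟩, hrx⟩ := (Ideal.mem_iInf_smul_pow_eq_bot_iff _ x).1 hmem
  obtain ⟨q, hq, hle⟩ := exists_le_isAssociatedPrime_of_isNoetherianRing S x hx0
  refine h q hq ((Ideal.eq_top_iff_one _).2 ?_)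
  have h1 : (1 - r) ∈ q := hle (by
    rw [Submodule.mem_colon_singleton, Submodule.mem_bot, sub_smul, one_smul]
    exact sub_eq_zero.2 hrx.symm)
  rw [show (1 : S) = r + (1 - r) by ring]
  exact add_mem (Ideal.mem_sup_left hr) (Ideal.mem_sup_right h1)

/-- `N → N^` is universally injective as soon as all `N ⊗ Q` are separated. -/
theorem univInj_of {S : Type u} [CommRing S] [IsNoetherianRing S] [Algebra R S] (I : Ideal R) (N : Type u)
    [AddCommGroup N] [Module R N] [Module S N] [IsScalarTower R S N] [Module.Finite S N]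
    (h : ∀ (Q : Type u) [AddCommGroup Q] [Module R Q], Module.Finite R Q →
      ∀ q ∈ associatedPrimes S (N ⊗[R] Q), I.map (algebraMap R S) ⊔ q ≠ ⊤) :
    CAlgX.UniversallyInjective R (AdicCompletion.of I N) := by
  rw [CAlgUI.ui_iff_fp]
  intro Q _ _ hQ
  haveI : Module.Finite R Q := inferInstance
  haveI : Module.Finite S (N ⊗[R] Q) := by
    obtain ⟨n, x, hx⟩ := Module.Finite.exists_fin (R := R) (M := Q)
    obtain ⟨m, y, hy⟩ := Module.Finite.exists_fin (R := S) (M := N)
    refine ⟨⟨(Set.finite_range fun ij : Fin m × Fin n => y ij.1 ⊗ₜ[R] x ij.2).toFinset, eq_top_iff.2 fun z hz => ?_⟩⟩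
    clear hz
    rw [Set.Finite.coe_toFinset]
    induction z using TensorProduct.induction_on with
    | zero => exact zero_mem _
    | add a b ha hb => exact add_mem ha hb
    | tmul a b =>
      obtain ⟨c, rfl⟩ := (Submodule.mem_span_range_iff_exists_fun S).1 (hy ▸ Submodule.mem_top : a ∈ _)
      obtain ⟨d, rfl⟩ := (Submodule.mem_span_range_iff_exists_fun R).1 (hx ▸ Submodule.mem_top : b ∈ _)
      rw [TensorProduct.sum_tmul]
      refine Submodule.sum_mem _ fun i _ => ?_
      rw [TensorProduct.tmul_sum]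
      refine Submodule.sum_mem _ fun j _ => ?_
      rw [TensorProduct.tmul_smul, ← TensorProduct.smul_tmul']
      exact Submodule.smul_of_tower_mem _ _ (Submodule.smul_mem _ _ (Submodule.subset_span ⟨(i, j), rfl⟩))
  have hker : ∀ n, (I ^ n • ⊤ : Submodule R N) ≤
      LinearMap.ker ((TensorProduct.mk R N Q).compr₂ (I ^ n • ⊤ : Submodule R (N ⊗[R] Q)).mkQ) := fun n a ha => by
    refine LinearMap.ext fun q => ?_
    show Submodule.Quotient.mk (a ⊗ₜ[R] q) = (0 : (N ⊗[R] Q) ⧸ (I ^ n • ⊤ : Submodule R (N ⊗[R] Q)))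
    rw [Submodule.Quotient.mk_eq_zero]
    refine Submodule.smul_induction_on ha (fun r hr y _ => ?_) fun c d hc hd => ?_
    · rw [← TensorProduct.smul_tmul']; exact Submodule.smul_mem_smul hr Submodule.mem_top
    · rw [TensorProduct.add_tmul]; exact add_mem hc hd
  let g : ∀ n, AdicCompletion I N ⊗[R] Q →ₗ[R] (N ⊗[R] Q) ⧸ (I ^ n • ⊤ : Submodule R (N ⊗[R] Q)) := fun n =>
    TensorProduct.lift ((Submodule.liftQ _ _ (hker n)) ∘ₗ AdicCompletion.eval I N n)
  let Φ : AdicCompletion I N ⊗[R] Q →ₗ[R] AdicCompletion I (N ⊗[R] Q) :=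
    AdicCompletion.lift I g fun {m n} hle => TensorProduct.ext' fun z q => by
      obtain ⟨a, rfl⟩ := AdicCompletion.mk_surjective I N z
      show Submodule.Quotient.mk (a n ⊗ₜ[R] q) = Submodule.Quotient.mk (a m ⊗ₜ[R] q)
      rw [Submodule.Quotient.eq, ← TensorProduct.sub_tmul]
      have h2 := hker m (SModEq.sub_mem.1 (a.property hle).symm)
      exact (Submodule.Quotient.mk_eq_zero _).1 (congr($h2 q))
  have hΦ : Φ ∘ₗ (AdicCompletion.of I N).rTensor Q = AdicCompletion.of I (N ⊗[R] Q) := by
    refine TensorProduct.ext' fun n q => ?_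
    refine AdicCompletion.ext fun i => rfl
  have hinj : Function.Injective (Φ ∘ₗ (AdicCompletion.of I N).rTensor Q) := by
    rw [hΦ]
    exact of_injective (S := S) I (h Q inferInstance)
  exact Function.Injective.of_comp (f := Φ) (by rw [← LinearMap.coe_comp]; exact hinj)

end Groth.Agent.ZClosLib.AdicUI
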