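import Mathlib
import Groth.Prelude.Def_FlatCA
import Groth.Agent.AssFiber.Basic
import Groth.Agent.CAlgOdd.AssTensor
import Groth.Agent.ZClosLib.AdicUI

/-!
# Associated primes of fibres as extended ideals
-/

set_option autoImplicit false

universe u

open TensorProduct

namespace Groth.Agent.ZClosLib.FibAssIdeal

theorem mem_associatedPrimes_of_mem_ass {R : Type u} [CommRing R] {M : Type u} [AddCommGroup M] [Module R M]
    {p : Ideal R} (h : p ∈ FlatCA.ass R M) : p ∈ associatedPrimes R M := by
  obtain ⟨hp, m, hm⟩ := h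
  refine ⟨hp, m, ?_⟩
  have : Submodule.colon (⊥ : Submodule R M) {m} = p := by
    rw [hm]; ext r; simp [Submodule.mem_colon_singleton, Submodule.mem_annihilator_span_singleton]
  rw [this, hp.radical]

theorem mem_ass_of_mem_associatedPrimes {R : Type u} [CommRing R] [IsNoetherianRing R] {M : Type u} [AddCommGroup M]
    [Module R M] {p : Ideal R} (h : p ∈ associatedPrimes R M) : p ∈ FlatCA.ass R M := by
  obtain ⟨hp, m, hm⟩ := isAssociatedPrime_iff.1 h
  refine ⟨hp, m, ?_⟩
  rw [hm]; ext r; simp [Submodule.mem_colon_singleton, Submodule.mem_annihilator_span_singleton]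

variable {R S : Type u} [CommRing R] [CommRing S] [Algebra R S] (p : Ideal R) [p.IsPrime]

theorem eq_fiberIdeal {Q : Ideal (p.Fiber S)} {q : Ideal S}
    (h : Q.comap (Algebra.TensorProduct.includeRight (R := R) (A := p.ResidueField) (B := S)).toRingHom = q) :
    Q = FlatCA.fiberIdeal p q := by
  refine le_antisymm (fun b hb => ?_) (Ideal.map_le_iff_le_comap.2 h.ge)
  obtain ⟨r, hr, s, hs⟩ := AssFiber.exists_smul_eq_includeRight p b
  have hs' : s ∈ q := by
    rw [← h, Ideal.mem_comap]
    show (1 : p.ResidueField) ⊗ₜ[R] s ∈ Q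
    rw [← hs]
    exact Q.mul_mem_left _ hb
  have hu : IsUnit ((1 : p.ResidueField) ⊗ₜ[R] algebraMap R S r : p.Fiber S) := by
    rw [Algebra.algebraMap_eq_smul_one, ← TensorProduct.smul_tmul, ← Algebra.algebraMap_eq_smul_one]
    exact (isUnit_iff_ne_zero.2 fun h0 => hr (Ideal.algebraMap_residueField_eq_zero.1 h0)).map
      (Algebra.TensorProduct.includeLeftRingHom : p.ResidueField →+* p.Fiber S)
  obtain ⟨v, hv⟩ := hu.exists_left_inv
  have hmem : ((1 : p.ResidueField) ⊗ₜ[R] s : p.Fiber S) ∈ FlatCA.fiberIdeal p q := Ideal.mem_map_of_mem _ hs'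
  have := (FlatCA.fiberIdeal p q).mul_mem_left v hmem
  rwa [← hs, ← mul_assoc, hv, one_mul] at this

theorem comap_eq_of_mem_quot (N : Type u) [AddCommGroup N] [Module S N] [Module R N] [IsScalarTower R S N]
    [IsNoetherianRing R] [Module.Flat R N] (Q : Type u) [AddCommGroup Q] [Module R Q] [Module.Finite R Q]
    {q : Ideal S} (hq : q ∈ associatedPrimes S (N ⊗[R] Q)) :
    q ∈ associatedPrimes S (N ⧸ (q.comap (algebraMap R S)).map (algebraMap R S) • (⊤ : Submodule S N)) :=
  CAlgOdd.AssTensor.exists_prime_of_mem N Q hq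

end Groth.Agent.ZClosLib.FibAssIdeal
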