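import Mathlib
import Groth.Prelude.Def_FlatCA
import Groth.Agent.AssFiber.Basic
import Groth.Agent.ZClosLib.FibAssIdeal
import Groth.Agent.QCart13.Alg

/-!
# Impurities under a change of the base
-/

set_option autoImplicit false
set_option linter.style.haveILetI false

universe u

open TensorProduct

namespace Groth.Agent.ZClosLib.PurityBC

attribute [local instance] Algebra.TensorProduct.rightAlgebra

section Fiber

variable {R S : Type u} [CommRing R] [CommRing S] [Algebra R S] (p : Ideal R) [p.IsPrime]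

theorem isUnit_algebraMap_fiber {r : R} (hr : r ∉ p) : IsUnit (algebraMap S (p.Fiber S) (algebraMap R S r)) := by
  show IsUnit ((1 : p.ResidueField) ⊗ₜ[R] algebraMap R S r)
  rw [Algebra.algebraMap_eq_smul_one, ← smul_tmul, ← Algebra.algebraMap_eq_smul_one]
  exact (isUnit_iff_ne_zero.2 fun h => hr (Ideal.algebraMap_residueField_eq_zero.1 h)).map
    (Algebra.TensorProduct.includeLeftRingHom (R := R) (A := p.ResidueField) (B := S))

/-- Primes of the fibre ring over `p` lie over `p`. -/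
theorem liesOver_comap (Q : Ideal (p.Fiber S)) [Q.IsPrime] :
    (Q.comap (Algebra.TensorProduct.includeRight (R := R) (A := p.ResidueField) (B := S)).toRingHom).LiesOver p := by
  refine ⟨?_⟩
  have e : (Algebra.TensorProduct.includeRight (R := R) (A := p.ResidueField) (B := S)).toRingHom.comp (algebraMap R S) =
      (algebraMap p.ResidueField (p.Fiber S)).comp (algebraMap R p.ResidueField) := by
    ext a
    show (Algebra.TensorProduct.includeRight (R := R) (A := p.ResidueField) (B := S)) (algebraMap R S a) = _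
    rw [AlgHom.commutes]
    rfl
  rw [Ideal.under_def, Ideal.comap_comap, e, ← Ideal.comap_comap,
    Ideal.eq_bot_of_prime (Q.comap (algebraMap p.ResidueField _)),
    ← RingHom.ker_eq_comap_bot, Ideal.ker_algebraMap_residueField]

variable (N : Type u) [AddCommGroup N] [Module S N] [Module R N] [IsScalarTower R S N]

theorem toFiberMod_eq_zero_iff (n : N) : FlatCA.toFiberMod p (S := S) N n = 0 ↔
    ∃ r ∉ p, r • n ∈ p • (⊤ : Submodule R N) := by
  constructor
  · intro h
    obtain ⟨r, hr, hmem⟩ := AssFiber.exists_smul_mem_of_toFiberMod_eq_zero p (S := S) N h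
    exact ⟨r, hr, algebraMap_smul S r n ▸ AssFiber.mem_smul_top_of_mem_pN p N hmem⟩
  · rintro ⟨r, hr, hmem⟩
    have h := AssFiber.toFiberMod_eq_zero_of_mem p (S := S) N (AssFiber.smul_mem_pN p N hmem)
    rw [← algebraMap_smul S r n, map_smul, ← AssFiber.algebraMap_smul_fiberMod] at h
    exact (isUnit_algebraMap_fiber p hr).smul_left_cancel.1 (h.trans (smul_zero _).symm)

theorem toFiberMod_eq_zero_of_one_tmul (n : N) (h : (1 : p.ResidueField) ⊗ₜ[R] n = 0) :
    FlatCA.toFiberMod p (S := S) N n = 0 := by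
  have := AssFiber.isLocalizedModule_residueField p
  have h2 : TensorProduct.AlgebraTensorModule.rTensor R N
      ((Algebra.linearMap (R ⧸ p) p.ResidueField).restrictScalars R) ((1 : R ⧸ p) ⊗ₜ[R] n) = 0 := by
    simpa using h
  obtain ⟨c, hc⟩ := (IsLocalizedModule.eq_zero_iff p.primeCompl _).1 h2
  refine (toFiberMod_eq_zero_iff p N n).2 ⟨c, c.2, ?_⟩
  have hc' := congrArg (TensorProduct.quotTensorEquivQuotSMul N p) hc
  rw [map_zero, Submonoid.smul_def, smul_tmul', Algebra.smul_def, mul_one,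
    Ideal.Quotient.algebraMap_eq, TensorProduct.quotTensorEquivQuotSMul_mk_tmul,
    Submodule.Quotient.mk_eq_zero] at hc'
  exact hc'

end Fiber

/-- A point of the relative assassin is dominated by one after any base change, over every point
of the new base above its image. -/
theorem exists_assoc_over {A A' B B' : Type u} [CommRing A] [CommRing A'] [CommRing B] [CommRing B']
    [Algebra A A'] [Algebra A B] [Algebra B B'] [Algebra A' B'] [Algebra.FiniteType A' B']
    {N N' : Type u} [AddCommGroup N] [Module B N] [Module A N] [IsScalarTower A B N]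
    [AddCommGroup N'] [Module B' N'] [Module A' N'] [IsScalarTower A' B' N'] [Module B N']
    [IsScalarTower B B' N'] [Module A N'] [IsScalarTower A A' N'] [IsScalarTower A B N']
    (g : N →ₗ[B] N') (hg : IsBaseChange A' (g.restrictScalars A))
    (t : Ideal A) [t.IsPrime] (t' : Ideal A') [t'.IsPrime] [ht : t'.LiesOver t] (P : Ideal B) [P.IsPrime]
    (hass : FlatCA.fiberIdeal t P ∈ associatedPrimes (t.Fiber B) (FlatCA.fiberMod t B N)) :
    ∃ (Q : Ideal B') (_ : Q.IsPrime), P ≤ Q.comap (algebraMap B B') ∧ Q.LiesOver t' ∧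
      FlatCA.fiberIdeal t' Q ∈ associatedPrimes (t'.Fiber B') (FlatCA.fiberMod t' B' N') := by
  obtain ⟨hp, x, hx⟩ := hass
  have hloc := AssFiber.isLocalizedModule_quotToFiber t (S := B) N
  obtain ⟨⟨nb, s⟩, hs⟩ := IsLocalizedModule.surj (Algebra.algebraMapSubmonoid B t.primeCompl)
    (AssFiber.quotToFiber t (S := B) N) x
  obtain ⟨n, rfl⟩ := Submodule.Quotient.mk_surjective _ nb
  obtain ⟨r₀, hr₀, hr₀s⟩ := s.2
  replace hs : algebraMap A B r₀ • x = FlatCA.toFiberMod t (S := B) N n := by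
    rw [hr₀s]; exact hs
  have hx0 : x ≠ 0 := by
    rintro rfl
    refine hp.ne_top ?_
    rw [hx]
    simp
  have hn0 : FlatCA.toFiberMod t (S := B) N n ≠ 0 := fun h0 => hx0 <| by
    rw [← hs, ← AssFiber.algebraMap_smul_fiberMod] at h0
    exact (isUnit_algebraMap_fiber t hr₀).smul_left_cancel.1 (h0.trans (smul_zero _).symm)
  have hPn : ∀ a ∈ P, ∃ k : ℕ, FlatCA.toFiberMod t (S := B) N (a ^ k • n) = 0 := by
    intro a ha
    have h1 : algebraMap B (t.Fiber B) a ∈ FlatCA.fiberIdeal t P := Ideal.mem_map_of_mem _ ha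
    rw [hx] at h1
    obtain ⟨k, hk⟩ := h1
    refine ⟨k, ?_⟩
    rw [Submodule.mem_colon_singleton, Submodule.mem_bot, ← map_pow, AssFiber.algebraMap_smul_fiberMod] at hk
    rw [map_smul, ← hs, smul_comm, hk, smul_zero]
  -- push forward zero
  have hpush : ∀ m : N, FlatCA.toFiberMod t (S := B) N m = 0 → FlatCA.toFiberMod t' (S := B') N' (g m) = 0 := by
    intro m hm
    obtain ⟨r, hr, hmem⟩ := (toFiberMod_eq_zero_iff t N m).1 hm
    refine (toFiberMod_eq_zero_iff t' N' (g m)).2 ⟨algebraMap A A' r, fun h => hr (by rw [ht.over]; exact h), ?_⟩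
    rw [algebraMap_smul, ← g.map_smul_of_tower]
    refine Submodule.smul_induction_on hmem (fun a ha y _ => ?_) (fun a b ha hb => ?_)
    · rw [g.map_smul_of_tower, ← algebraMap_smul A' a (g y)]
      refine Submodule.smul_mem_smul ?_ Submodule.mem_top
      rw [ht.over] at ha
      exact ha
    · rw [map_add]; exact add_mem ha hb
  -- the image of `n` survives
  let y := FlatCA.toFiberMod t' (S := B') N' (g n)
  have hy : y ≠ 0 := by
    intro hy0
    apply hn0
    obtain ⟨r, hr, hmem⟩ := (toFiberMod_eq_zero_iff t' N' (g n)).1 hy0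
    refine toFiberMod_eq_zero_of_one_tmul t N n ?_
    letI : Algebra t.ResidueField t'.ResidueField :=
      (Ideal.ResidueField.mapₐ t t' (Algebra.ofId A A') ht.over).toRingHom.toAlgebra
    haveI : IsScalarTower A t.ResidueField t'.ResidueField :=
      IsScalarTower.of_algebraMap_eq' ((Ideal.ResidueField.mapₐ t t' (Algebra.ofId A A') ht.over).comp_algebraMap).symm
    let φ : N' →ₗ[A'] t'.ResidueField ⊗[A] N := hg.lift (TensorProduct.mk A t'.ResidueField N 1)
    have hφ : ∀ m : N, φ (g m) = (1 : t'.ResidueField) ⊗ₜ[A] m := fun m =>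
      hg.lift_eq (TensorProduct.mk A t'.ResidueField N 1) m
    have hkill : ∀ a ∈ t', ∀ z : t'.ResidueField ⊗[A] N, a • z = 0 := by
      intro a ha z
      rw [← algebraMap_smul t'.ResidueField a z, Ideal.algebraMap_residueField_eq_zero.2 ha, zero_smul]
    have h0 : φ (r • g n) = 0 := by
      refine Submodule.smul_induction_on hmem (fun a ha z _ => ?_) (fun a b ha hb => ?_)
      · rw [map_smul]; exact hkill a ha _
      · rw [map_add, ha, hb, add_zero]
    rw [map_smul, hφ, ← algebraMap_smul t'.ResidueField r,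
      smul_eq_zero_iff_right (fun h => hr (Ideal.algebraMap_residueField_eq_zero.1 h))] at h0
    refine Module.FaithfullyFlat.tensorProduct_mk_injective
      (A := t.ResidueField) (B := t'.ResidueField) (t.ResidueField ⊗[A] N) ?_
    apply (AlgebraTensorModule.cancelBaseChange A t.ResidueField t'.ResidueField t'.ResidueField N).injective
    simp [h0]
  have hNoeth : IsNoetherianRing (t'.Fiber B') := Algebra.FiniteType.isNoetherianRing t'.ResidueField _
  obtain ⟨Qh, hQh, hle⟩ := exists_le_isAssociatedPrime_of_isNoetherianRing (t'.Fiber B') y hy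
  haveI := hQh.1
  refine ⟨Qh.comap (Algebra.TensorProduct.includeRight (R := A') (A := t'.ResidueField) (B := B')).toRingHom,
    inferInstance, fun a ha => ?_, liesOver_comap t' Qh, ?_⟩
  · obtain ⟨k, hk⟩ := hPn a ha
    refine Ideal.IsPrime.mem_of_pow_mem hQh.1 k (hle ?_)
    rw [Submodule.mem_colon_singleton, Submodule.mem_bot]
    show ((algebraMap B' (t'.Fiber B')) (algebraMap B B' a)) ^ k • y = 0
    rw [← map_pow, ← map_pow, AssFiber.algebraMap_smul_fiberMod, ← map_smul, algebraMap_smul, ← map_smul]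
    exact hpush _ hk
  · rw [← FibAssIdeal.eq_fiberIdeal t' rfl]
    exact hQh

/-- Finite type passes to a base change. -/
theorem finiteType_of_isPushout (A B A' B' : Type u) [CommRing A] [CommRing B] [CommRing A'] [CommRing B']
    [Algebra A B] [Algebra A A'] [Algebra B B'] [Algebra A' B'] [Algebra A B'] [IsScalarTower A B B']
    [IsScalarTower A A' B'] [h : Algebra.IsPushout A B A' B'] [Algebra.FiniteType A B] :
    Algebra.FiniteType A' B' :=
  have : Algebra.IsPushout A A' B B' := h.symm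
  (inferInstance : Algebra.FiniteType A' (A' ⊗[A] B)).equiv (Algebra.IsPushout.equiv A A' B B')

/-- An impurity propagates to any base change through which two points `t₂' ≤ t₂` above `t' ≤ t`
are given. -/
theorem IsImpurity.propagate {A B : Type u} [CommRing A] [CommRing B] [Algebra A B] [Algebra.FiniteType A B]
    {N : Type u} [AddCommGroup N] [Module B N] {p : Ideal A} [p.IsPrime]
    {A₁ B₁ N₁ : Type u} [CommRing A₁] [CommRing B₁] [Algebra A A₁] [Algebra B B₁] [Algebra A₁ B₁]
    [Algebra A B₁] [IsScalarTower A B B₁] [IsScalarTower A A₁ B₁] [AddCommGroup N₁] [Module B₁ N₁]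
    [Module B N₁] [IsScalarTower B B₁ N₁] [Module A₁ N₁] [IsScalarTower A₁ B₁ N₁]
    {f₁ : N →ₗ[B] N₁} {t' t : Ideal A₁} [t'.IsPrime] [t.IsPrime] {P : Ideal B₁} [P.IsPrime]
    (himp : FlatCA.IsImpurity A B N p A₁ B₁ N₁ f₁ t' t P)
    (A₂ B₂ N₂ : Type u) [CommRing A₂] [CommRing B₂] [Algebra A A₂] [Algebra B B₂] [Algebra A₂ B₂]
    [Algebra A B₂] [IsScalarTower A B B₂] [IsScalarTower A A₂ B₂] [AddCommGroup N₂] [Module B₂ N₂]
    [Module B N₂] [IsScalarTower B B₂ N₂] [Module A₂ N₂] [IsScalarTower A₂ B₂ N₂]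
    [Algebra.IsPushout A B A₂ B₂] (f₂ : N →ₗ[B] N₂) (hf₂ : IsBaseChange B₂ f₂)
    [Algebra A₁ A₂] [IsScalarTower A A₁ A₂] (t₂' t₂ : Ideal A₂) [t₂'.IsPrime] [t₂.IsPrime]
    [t₂'.LiesOver t'] [ht₂ : t₂.LiesOver t] (hle : t₂' ≤ t₂) :
    ∃ (P₂ : Ideal B₂) (_ : P₂.IsPrime), FlatCA.IsImpurity A B N p A₂ B₂ N₂ f₂ t₂' t₂ P₂ := by
  obtain ⟨h₁, hf₁, -, htp, -, hass, hno⟩ := himp
  haveI := h₁
  let g₁ : A₁ →ₐ[A] B₂ := (IsScalarTower.toAlgHom A A₂ B₂).comp (IsScalarTower.toAlgHom A A₁ A₂)
  let ψ : B₁ →ₐ[A] B₂ := Algebra.pushoutDesc (R := A) (S := B) (R' := A₁) B₁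
    (IsScalarTower.toAlgHom A B B₂) g₁ fun x y => mul_comm _ _
  letI : Algebra B₁ B₂ := ψ.toRingHom.toAlgebra
  letI : Algebra A₁ B₂ := g₁.toRingHom.toAlgebra
  haveI : IsScalarTower A₁ A₂ B₂ := IsScalarTower.of_algebraMap_eq fun _ => rfl
  haveI : IsScalarTower A₁ B₁ B₂ := IsScalarTower.of_algebraMap_eq fun x =>
    (Algebra.pushoutDesc_right B₁ (IsScalarTower.toAlgHom A B B₂) g₁ (fun x y => mul_comm _ _) x).symm
  haveI : IsScalarTower B B₁ B₂ := IsScalarTower.of_algebraMap_eq fun x =>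
    (Algebra.pushoutDesc_left B₁ (IsScalarTower.toAlgHom A B B₂) g₁ (fun x y => mul_comm _ _) x).symm
  haveI : IsScalarTower A B₁ B₂ := IsScalarTower.of_algebraMap_eq fun x => (ψ.commutes x).symm
  haveI : IsScalarTower A A₁ B₂ := IsScalarTower.of_algebraMap_eq fun x => (g₁.commutes x).symm
  haveI : Algebra.IsPushout A A₁ B B₁ := Algebra.IsPushout.symm inferInstance
  haveI hpush : Algebra.IsPushout A₁ A₂ B₁ B₂ :=
    (Algebra.IsPushout.comp_iff A A₁ B B₁ (T := A₂) (T' := B₂)).1 (Algebra.IsPushout.symm inferInstance)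
  haveI : Algebra.FiniteType A₂ B₂ := finiteType_of_isPushout A B A₂ B₂
  letI : Module B₁ N₂ := Module.compHom N₂ (algebraMap B₁ B₂)
  haveI : IsScalarTower B₁ B₂ N₂ := IsScalarTower.of_algebraMap_smul fun r m => rfl
  haveI : IsScalarTower B B₁ N₂ := IsScalarTower.to₁₂₄ B B₁ B₂ N₂
  letI : Module A₁ N₂ := Module.compHom N₂ (algebraMap A₁ A₂)
  haveI : IsScalarTower A₁ A₂ N₂ := IsScalarTower.of_algebraMap_smul fun r m => rfl
  haveI : IsScalarTower A₁ B₂ N₂ := IsScalarTower.of_algebraMap_smul fun r m => by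
    rw [IsScalarTower.algebraMap_apply A₁ A₂ B₂, algebraMap_smul]; rfl
  haveI : IsScalarTower A₁ B₁ N₂ := IsScalarTower.to₁₂₄ A₁ B₁ B₂ N₂
  let g : N₁ →ₗ[B₁] N₂ := hf₁.lift f₂
  have hg : IsBaseChange B₂ g := IsBaseChange.of_comp hf₁ (by rw [hf₁.lift_comp]; exact hf₂)
  obtain ⟨Q, hQ, hPQ, hQt, hQass⟩ :=
    exists_assoc_over (A' := A₂) (B' := B₂) g (QCart13.isBaseChange_of_pushout g hg) t' t₂' P hass
  haveI := htp
  refine ⟨Q, hQ, inferInstance, hf₂, hle, Ideal.LiesOver.trans t₂ t p, hQt, hQass, fun P' _ hQP' hP' => ?_⟩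
  refine hno (P'.comap (algebraMap B₁ B₂)) (hPQ.trans (Ideal.comap_mono hQP')) ⟨?_⟩
  rw [Ideal.under_def, Ideal.comap_comap, ← IsScalarTower.algebraMap_eq, IsScalarTower.algebraMap_eq A₁ A₂ B₂,
    ← Ideal.comap_comap]
  show t = (P'.under A₂).under A₁
  rw [← hP'.over, ← ht₂.over]

/-- Base changes compose. -/
theorem isPushout_comp (A B A' B' A'' B'' : Type u) [CommRing A] [CommRing B] [CommRing A'] [CommRing B']
    [CommRing A''] [CommRing B''] [Algebra A B] [Algebra A A'] [Algebra B B'] [Algebra A' B'] [Algebra A B']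
    [IsScalarTower A B B'] [IsScalarTower A A' B'] [Algebra A' A''] [Algebra B' B''] [Algebra A'' B'']
    [Algebra A' B''] [IsScalarTower A' B' B''] [IsScalarTower A' A'' B''] [Algebra A A''] [IsScalarTower A A' A'']
    [Algebra B B''] [IsScalarTower B B' B''] [Algebra A B''] [IsScalarTower A B B''] [IsScalarTower A A'' B'']
    (h₁ : Algebra.IsPushout A B A' B') (h₂ : Algebra.IsPushout A' B' A'' B'') :
    Algebra.IsPushout A B A'' B'' := by
  haveI : Algebra.IsPushout A A' B B' := h₁.symm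
  haveI : IsScalarTower A B' B'' := IsScalarTower.of_algebraMap_eq fun x => by
    rw [IsScalarTower.algebraMap_apply A B B', ← IsScalarTower.algebraMap_apply B B' B'',
      ← IsScalarTower.algebraMap_apply A B B'']
  exact ((Algebra.IsPushout.comp_iff A A' B B' (T := A'') (T' := B'')).2 h₂.symm).symm

end Groth.Agent.ZClosLib.PurityBC
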