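import Mathlib
import Groth.Agent.ZClosLib.PurityBC

/-!
# Descent of purity
-/

set_option autoImplicit false
set_option linter.style.haveILetI false

universe u

open TensorProduct

namespace Groth.Agent.ZClosLib.PurityBC

/-- An unramified algebra is transparent for flatness. -/
theorem flat_of_formallyUnramified (A A₁ S : Type u) [CommRing A] [CommRing A₁] [CommRing S] [Algebra A A₁]
    [Algebra A S] [Algebra A₁ S] [IsScalarTower A A₁ S] [Algebra.FormallyUnramified A A₁]
    [Algebra.EssFiniteType A A₁] [Module.Flat A S] : Module.Flat A₁ S := by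
  let e := Algebra.FormallyUnramified.elem A A₁
  let α : A₁ →ₐ[A] S := IsScalarTower.toAlgHom A A₁ S
  let m : A₁ ⊗[A] A₁ →ₐ[A] A₁ ⊗[A] S := Algebra.TensorProduct.map (AlgHom.id A A₁) α
  let r : A₁ ⊗[A] S →ₐ[A₁] S := Algebra.TensorProduct.lift (Algebra.ofId A₁ S) (AlgHom.id A S) fun _ _ => .all _ _
  have hre : r (m e) = 1 := by
    have : (r.restrictScalars A).comp m = α.comp (Algebra.TensorProduct.lmul' A) := by
      ext a <;> simp [r, m, α]
    have h := congr($this e)
    simp only [AlgHom.comp_apply, e, Algebra.FormallyUnramified.lmul_elem, map_one] at h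
    exact h
  have hcomm : ∀ a : A₁, m e * ((1 : A₁) ⊗ₜ[A] algebraMap A₁ S a) = m e * (a ⊗ₜ[A] (1 : S)) := fun a => by
    have h := congrArg m (Algebra.FormallyUnramified.one_tmul_sub_tmul_one_mul_elem (R := A) a)
    rw [map_zero, map_mul, map_sub, sub_mul, sub_eq_zero, mul_comm, mul_comm _ (m e)] at h
    simpa [m, α] using h
  let i : S →ₗ[A₁] A₁ ⊗[A] S :=
    { toFun := fun s => m e * ((1 : A₁) ⊗ₜ[A] s)
      map_add' := fun x y => by rw [tmul_add, mul_add]
      map_smul' := fun a s => by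
        rw [RingHom.id_apply, Algebra.smul_def, Algebra.smul_def, ← one_mul (1 : A₁),
          ← Algebra.TensorProduct.tmul_mul_tmul, ← mul_assoc, hcomm, one_mul, Algebra.TensorProduct.algebraMap_apply]
        simp only [Algebra.algebraMap_self, RingHom.id_apply]
        ring }
  refine Module.Flat.of_retract i r.toLinearMap (LinearMap.ext fun s => ?_)
  show r (m e * ((1 : A₁) ⊗ₜ[A] s)) = s
  rw [map_mul, hre, one_mul]
  simp [r]

/-- In a base change by an algebra flat at `p'` the local rings above `p'` are flat over the other factor. -/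
theorem flat_localization_of_isPushout {A A₁ A' A₂ : Type u} [CommRing A] [CommRing A₁] [CommRing A'] [CommRing A₂]
    [Algebra A A₁] [Algebra A A'] [Algebra A₁ A₂] [Algebra A' A₂] [Algebra A A₂] [IsScalarTower A A₁ A₂]
    [IsScalarTower A A' A₂] [hpush : Algebra.IsPushout A A₁ A' A₂] (p' : Ideal A') [p'.IsPrime]
    [Module.Flat A (Localization.AtPrime p')] (t₂ : Ideal A₂) [t₂.IsPrime] [ht : t₂.LiesOver p'] :
    Module.Flat A₁ (Localization.AtPrime t₂) := by
  let C := A₁ ⊗[A] Localization.AtPrime p'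
  let η : A₂ →ₐ[A] C := Algebra.pushoutDesc (R := A) (S := A₁) (R' := A') A₂
    (Algebra.TensorProduct.includeLeft (R := A) (S := A) (A := A₁) (B := Localization.AtPrime p'))
    ((Algebra.TensorProduct.includeRight (R := A) (A := A₁)).comp
      (IsScalarTower.toAlgHom A A' (Localization.AtPrime p'))) fun _ _ => mul_comm _ _
  have hηl : ∀ x : A₁, η (algebraMap A₁ A₂ x) = x ⊗ₜ 1 := fun x => Algebra.pushoutDesc_left A₂ _ _ _ x
  have hηr : ∀ x : A', η (algebraMap A' A₂ x) = 1 ⊗ₜ algebraMap A' _ x := fun x => Algebra.pushoutDesc_right A₂ _ _ _ x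
  have hout : ∀ s ∈ p'.primeCompl, algebraMap A' A₂ s ∈ t₂.primeCompl := fun s hs h =>
    hs (by rw [ht.over]; exact h)
  have hu : ∀ s : p'.primeCompl, IsUnit ((IsScalarTower.toAlgHom A A₂ (Localization.AtPrime t₂)).comp
      (IsScalarTower.toAlgHom A A' A₂) s) := fun s => IsLocalization.map_units _ ⟨_, hout _ s.2⟩
  let ψ : Localization.AtPrime p' →ₐ[A] Localization.AtPrime t₂ := IsLocalization.liftAlgHom (M := p'.primeCompl) hu
  have hψ : ∀ x : A', ψ (algebraMap A' _ x) = algebraMap A₂ _ (algebraMap A' A₂ x) := fun x =>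
    IsLocalization.lift_eq _ x
  let φ : C →ₐ[A₁] Localization.AtPrime t₂ :=
    Algebra.TensorProduct.lift (Algebra.ofId A₁ _) ψ fun _ _ => .all _ _
  have hφη : ∀ a : A₂, φ (η a) = algebraMap A₂ _ a := by
    intro a
    have : ((φ.restrictScalars A).comp η) = IsScalarTower.toAlgHom A A₂ (Localization.AtPrime t₂) := by
      refine Algebra.IsPushout.algHom_ext (R := A) (S := A₁) (R' := A') (S' := A₂) ?_ ?_
      · ext x
        show φ (η (algebraMap A' A₂ x)) = algebraMap A₂ (Localization.AtPrime t₂) (algebraMap A' A₂ x)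
        rw [hηr]
        exact (Algebra.TensorProduct.lift_tmul _ _ _ _ _).trans (by rw [map_one, one_mul, hψ])
      · ext x
        show φ (η (algebraMap A₁ A₂ x)) = algebraMap A₂ (Localization.AtPrime t₂) (algebraMap A₁ A₂ x)
        rw [hηl]
        exact (Algebra.TensorProduct.lift_tmul _ _ _ _ _).trans (by rw [map_one, mul_one, ← IsScalarTower.algebraMap_apply]; rfl)
    exact congr($this a)
  have hsurj : ∀ c : C, ∃ s ∈ p'.primeCompl, ∃ a : A₂, c * η (algebraMap A' A₂ s) = η a := by
    intro c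
    induction c using TensorProduct.induction_on with
    | zero => exact ⟨1, Submonoid.one_mem _, 0, by simp⟩
    | tmul x y =>
      obtain ⟨⟨a, s⟩, h⟩ := IsLocalization.surj p'.primeCompl y
      refine ⟨s, s.2, algebraMap A₁ A₂ x * algebraMap A' A₂ a, ?_⟩
      rw [hηr, map_mul, hηl, hηr, Algebra.TensorProduct.tmul_mul_tmul, Algebra.TensorProduct.tmul_mul_tmul,
        mul_one, one_mul, h]
    | add x y hx hy =>
      obtain ⟨s, hs, a, ha⟩ := hx
      obtain ⟨s', hs', a', ha'⟩ := hy
      refine ⟨s * s', Submonoid.mul_mem _ hs hs', a * algebraMap A' A₂ s' + a' * algebraMap A' A₂ s, ?_⟩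
      simp only [map_add, map_mul, ← ha, ← ha']
      ring
  letI : Algebra C (Localization.AtPrime t₂) := φ.toRingHom.toAlgebra
  haveI : IsScalarTower A₁ C (Localization.AtPrime t₂) :=
    IsScalarTower.of_algebraMap_eq fun x => (φ.commutes x).symm
  haveI : IsLocalization (t₂.primeCompl.map η) (Localization.AtPrime t₂) := by
    constructor
    constructor
    · rintro ⟨_, s, hs, rfl⟩
      show IsUnit (φ (η s))
      rw [hφη]
      exact IsLocalization.map_units _ ⟨s, hs⟩
    · intro z
      obtain ⟨⟨a, s⟩, h⟩ := IsLocalization.surj t₂.primeCompl z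
      refine ⟨⟨η a, ⟨η s, Submonoid.mem_map_of_mem _ s.2⟩⟩, ?_⟩
      show z * φ (η s) = φ (η a)
      rw [hφη, hφη, h]
    · intro c₁ c₂ h
      change φ c₁ = φ c₂ at h
      obtain ⟨s₁, hs₁, a₁, ha₁⟩ := hsurj c₁
      obtain ⟨s₂, hs₂, a₂, ha₂⟩ := hsurj c₂
      have h' : algebraMap A₂ (Localization.AtPrime t₂) (a₁ * algebraMap A' A₂ s₂) =
          algebraMap A₂ _ (a₂ * algebraMap A' A₂ s₁) := by
        rw [← hφη, ← hφη, map_mul η, map_mul η, ← ha₁, ← ha₂]
        simp only [map_mul, h]
        ring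
      obtain ⟨⟨v, hv⟩, hv'⟩ := (IsLocalization.eq_iff_exists t₂.primeCompl _).1 h'
      refine ⟨⟨η (v * algebraMap A' A₂ s₁ * algebraMap A' A₂ s₂), Submonoid.mem_map_of_mem _
        (Submonoid.mul_mem _ (Submonoid.mul_mem _ hv (hout _ hs₁)) (hout _ hs₂))⟩, ?_⟩
      have h2 := congrArg η hv'
      simp only [map_mul, ← ha₁, ← ha₂] at h2 ⊢
      linear_combination h2
  haveI : Module.Flat C (Localization.AtPrime t₂) := IsLocalization.flat _ (t₂.primeCompl.map η)
  exact Module.Flat.trans A₁ C (Localization.AtPrime t₂)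

/-- Going down to a point above `t'` below a given point above `t`. -/
theorem exists_le_liesOver {A₁ A₂ : Type u} [CommRing A₁] [CommRing A₂] [Algebra A₁ A₂] {t' t : Ideal A₁}
    [t'.IsPrime] [t.IsPrime] (htt : t' ≤ t) (t₂ : Ideal A₂) [t₂.IsPrime] [ht : t₂.LiesOver t]
    [Module.Flat A₁ (Localization.AtPrime t₂)] :
    ∃ (t₂' : Ideal A₂) (_ : t₂'.IsPrime), t₂'.LiesOver t' ∧ t₂' ≤ t₂ := by
  let M := IsLocalRing.maximalIdeal (Localization.AtPrime t₂)
  haveI hM : M.LiesOver t₂ := ⟨(IsLocalization.AtPrime.under_maximalIdeal _ t₂).symm⟩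
  haveI : M.LiesOver t := Ideal.LiesOver.trans M t₂ t
  obtain ⟨q, hq, hqp, hqt⟩ := Ideal.exists_ideal_le_liesOver_of_le (p := t') (q := t) M htt
  refine ⟨q.comap (algebraMap A₂ _), inferInstance, ⟨?_⟩, ?_⟩
  · rw [Ideal.under_def, Ideal.comap_comap, ← IsScalarTower.algebraMap_eq]
    exact hqt.over
  · exact (Ideal.comap_mono hq).trans_eq hM.over.symm

end Groth.Agent.ZClosLib.PurityBC
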