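import Groth.Agent.Alg6.LocLoc
import Groth.Agent.Alg6.RkLoc
import Groth.Agent.LC.ExtDim
import Groth.Prelude.Def_EGA4b
import Mathlib.RingTheory.Spectrum.Prime.Topology
import Mathlib.RingTheory.Ideal.MinimalPrime.Noetherian

/-!
# Openness of Serre's conditions from openness of the codepth loci
-/

set_option autoImplicit false
set_option linter.style.haveILetI false

universe u

namespace Groth.Agent.ZClosLib.SkCodepth

variable {A : Type u} [CommRing A] [IsNoetherianRing A] (M : Type u) [AddCommGroup M] [Module A M] [Module.Finite A M]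

/-- The codepth at `p` is at most `n`. -/
def CodLE (n : ℕ) (p : PrimeSpectrum A) : Prop :=
  Module.supportDim (Localization.AtPrime p.asIdeal) (LocalizedModule p.asIdeal.primeCompl M) ≤
    ((LocCoh.depth (Localization.AtPrime p.asIdeal) (LocalizedModule p.asIdeal.primeCompl M) : ℕ∞) : WithBot ℕ∞) + n

omit [IsNoetherianRing A] in
theorem supportDim_localized_le (p : Ideal A) [p.IsPrime] :
    Module.supportDim (Localization.AtPrime p) (LocalizedModule p.primeCompl M) ≤ Module.supportDim A M := by
  haveI : Module.Finite (Localization.AtPrime p) (LocalizedModule p.primeCompl M) :=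
    Module.Finite.of_isLocalizedModule p.primeCompl (LocalizedModule.mkLinearMap _ M)
  have hmem : ∀ q : PrimeSpectrum (Localization.AtPrime p),
      q ∈ Module.support (Localization.AtPrime p) (LocalizedModule p.primeCompl M) →
      PrimeSpectrum.comap (algebraMap A _) q ∈ Module.support A M := fun q hq => by
    rw [Module.mem_support_iff_of_finite] at hq ⊢
    refine fun a ha => hq (Module.mem_annihilator.2 fun z => ?_)
    obtain ⟨⟨m, s⟩, hm⟩ := IsLocalizedModule.surj p.primeCompl (LocalizedModule.mkLinearMap p.primeCompl M) z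
    refine (IsLocalization.map_units (Localization.AtPrime p) s).smul_left_cancel.1 ?_
    rw [smul_zero, smul_comm, algebraMap_smul, algebraMap_smul]
    refine (congrArg (a • ·) hm).trans ?_
    show a • LocalizedModule.mkLinearMap p.primeCompl M m = 0
    rw [← map_smul, Module.mem_annihilator.1 ha m, map_zero]
  refine Order.krullDim_le_of_strictMono (fun q => ⟨_, hmem q.1 q.2⟩) fun x y h => ?_
  exact (IsLocalization.orderEmbedding p.primeCompl (Localization.AtPrime p)).strictMono
    (show x.1.asIdeal < y.1.asIdeal from h)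

omit [IsNoetherianRing A] in
theorem supportDim_mono {P q : PrimeSpectrum A} (h : P.asIdeal ≤ q.asIdeal) :
    Module.supportDim (Localization.AtPrime P.asIdeal) (LocalizedModule P.asIdeal.primeCompl M) ≤
      Module.supportDim (Localization.AtPrime q.asIdeal) (LocalizedModule q.asIdeal.primeCompl M) := by
  let R := Localization q.asIdeal.primeCompl
  haveI : Module.Finite R (LocalizedModule q.asIdeal.primeCompl M) :=
    Module.Finite.of_isLocalizedModule q.asIdeal.primeCompl (LocalizedModule.mkLinearMap _ M)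
  have hd : Disjoint (q.asIdeal.primeCompl : Set A) (P.asIdeal : Set A) := (Alg6.disjoint_primeCompl_iff _ _).2 h
  haveI hQ : (P.asIdeal.map (algebraMap A R)).IsPrime :=
    IsLocalization.isPrime_of_isPrime_disjoint q.asIdeal.primeCompl R _ P.isPrime hd
  have key : ∀ (P' : Ideal A) [P'.IsPrime], (P.asIdeal.map (algebraMap A R)).comap (algebraMap A R) = P' →
      Module.supportDim (Localization.AtPrime P') (LocalizedModule P'.primeCompl M) ≤
        Module.supportDim (Localization.AtPrime q.asIdeal) (LocalizedModule q.asIdeal.primeCompl M) := by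
    intro P' _ e
    subst e
    rw [← Alg6.supportDim_locLoc q.asIdeal.primeCompl M (P.asIdeal.map (algebraMap A R))]
    exact supportDim_localized_le (LocalizedModule q.asIdeal.primeCompl M) _
  exact key P.asIdeal (IsLocalization.under_map_of_isPrime_disjoint q.asIdeal.primeCompl R P.isPrime hd)

theorem exists_nat (p : PrimeSpectrum A) (hp : p ∈ Module.support A M) :
    ∃ d δ : ℕ, Module.supportDim (Localization.AtPrime p.asIdeal) (LocalizedModule p.asIdeal.primeCompl M) = d ∧
      LocCoh.depth (Localization.AtPrime p.asIdeal) (LocalizedModule p.asIdeal.primeCompl M) = δ := by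
  haveI : IsNoetherianRing (Localization.AtPrime p.asIdeal) :=
    IsLocalization.isNoetherianRing p.asIdeal.primeCompl _ inferInstance
  haveI : Nontrivial (LocalizedModule p.asIdeal.primeCompl M) := Module.mem_support_iff.1 hp
  haveI : Module.Finite (Localization.AtPrime p.asIdeal) (LocalizedModule p.asIdeal.primeCompl M) :=
    Module.Finite.of_isLocalizedModule p.asIdeal.primeCompl (LocalizedModule.mkLinearMap _ M)
  obtain ⟨d, hd⟩ := LC.exists_supportDim_eq_nat (R := Localization.AtPrime p.asIdeal)
    (M := LocalizedModule p.asIdeal.primeCompl M)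
  obtain ⟨δ, hδ⟩ := LC.exists_depth_eq_nat (R := Localization.AtPrime p.asIdeal)
    (M := LocalizedModule p.asIdeal.primeCompl M)
  exact ⟨d, δ, hd, hδ⟩

omit [IsNoetherianRing A] [Module.Finite A M] in
theorem supportDim_eq_bot (p : PrimeSpectrum A) (hp : p ∉ Module.support A M) :
    Module.supportDim (Localization.AtPrime p.asIdeal) (LocalizedModule p.asIdeal.primeCompl M) = ⊥ := by
  haveI := Module.notMem_support_iff.1 hp
  exact Module.supportDim_eq_bot_of_subsingleton _ _

omit [IsNoetherianRing A] [Module.Finite A M] in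
theorem codLE_iff {m d δ : ℕ} {p : PrimeSpectrum A}
    (hd : Module.supportDim (Localization.AtPrime p.asIdeal) (LocalizedModule p.asIdeal.primeCompl M) = d)
    (hδ : LocCoh.depth (Localization.AtPrime p.asIdeal) (LocalizedModule p.asIdeal.primeCompl M) = δ) :
    CodLE M m p ↔ d ≤ δ + m := by
  unfold CodLE
  rw [hd, hδ]
  exact ⟨fun h => Nat.cast_le.1 (show (d : WithBot ℕ∞) ≤ ((δ + m : ℕ) : WithBot ℕ∞) by
      rw [Nat.cast_add]; exact h),
    fun h => le_of_le_of_eq (Nat.cast_le.2 h) (Nat.cast_add δ m)⟩

omit [IsNoetherianRing A] [Module.Finite A M] in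
theorem codLE_of_notMem {m : ℕ} {p : PrimeSpectrum A} (hp : p ∉ Module.support A M) : CodLE M m p := by
  unfold CodLE
  rw [supportDim_eq_bot M p hp]
  exact bot_le

/-- Serre's conditions define open sets when the codepth loci are open. -/
theorem isOpen_hasSkAt (hopen : ∀ m : ℕ, IsOpen {p : PrimeSpectrum A | CodLE M m p}) (n : ℕ) :
    IsOpen {p : PrimeSpectrum A | EGA4.HasSkAt n A M p.asIdeal} := by
  classical
  have hmono : Monotone fun m : ℕ => {p : PrimeSpectrum A | CodLE M m p} := fun a b hab p hp =>
    show CodLE M b p from le_trans (show CodLE M a p from hp) (add_le_add le_rfl (Nat.cast_le.2 hab))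
  have hcov : (Set.univ : Set (PrimeSpectrum A)) ⊆ ⋃ m : ℕ, {p | CodLE M m p} := fun p _ => by
    by_cases hp : p ∈ Module.support A M
    · obtain ⟨d, δ, hd, hδ⟩ := exists_nat M p hp
      exact Set.mem_iUnion.2 ⟨d, (codLE_iff M hd hδ).2 (Nat.le_add_left d δ)⟩
    · exact Set.mem_iUnion.2 ⟨0, codLE_of_notMem M hp⟩
  obtain ⟨m₀, hm₀⟩ := isCompact_univ.elim_directed_cover _ hopen hcov hmono.directed_le
  have hcl : ∀ m : ℕ, ∃ I : Ideal A, ∀ p : PrimeSpectrum A, I ≤ p.asIdeal ↔ ¬ CodLE M m p := fun m => by
    obtain ⟨I, hI⟩ := (PrimeSpectrum.isClosed_iff_zeroLocus_ideal _).1 (hopen m).isClosed_compl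
    exact ⟨I, fun p => by
      have := congrArg (p ∈ ·) hI
      simp only [Set.mem_compl_iff, Set.mem_ofPred_eq, PrimeSpectrum.mem_zeroLocus, SetLike.coe_subset_coe,
        eq_iff_iff] at this
      exact this.symm⟩
  choose I hI using hcl
  let Bad : ℕ → PrimeSpectrum A → Prop := fun m P => ¬ CodLE M m P ∧
    Module.supportDim (Localization.AtPrime P.asIdeal) (LocalizedModule P.asIdeal.primeCompl M) ≤ (m + n : ℕ)
  let F : Set (PrimeSpectrum A) := {P | ∃ m ∈ Finset.range m₀, P.asIdeal ∈ (I m).minimalPrimes ∧ Bad m P}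
  have hF : F.Finite := by
    refine Set.Finite.subset ((Set.Finite.biUnion (Finset.range m₀).finite_toSet fun m _ =>
      Ideal.finite_minimalPrimes_of_isNoetherianRing A (I m)).preimage
        (f := PrimeSpectrum.asIdeal) (fun x _ y _ h => PrimeSpectrum.ext h)) ?_
    rintro P ⟨m, hm, hP, -⟩
    exact Set.mem_biUnion hm hP
  have key : {p : PrimeSpectrum A | EGA4.HasSkAt n A M p.asIdeal}ᶜ =
      ⋃ P ∈ F, PrimeSpectrum.zeroLocus (P.asIdeal : Set A) := by
    ext p
    simp only [Set.mem_compl_iff, Set.mem_ofPred_eq, Set.mem_iUnion, exists_prop, PrimeSpectrum.mem_zeroLocus,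
      SetLike.coe_subset_coe, EGA4.HasSkAt, Alg6.hasSk_localization_iff, not_forall]
    constructor
    · rintro ⟨q, hq, hdis, hbad⟩
      let Q : PrimeSpectrum A := ⟨q, hq⟩
      have hQ : Q ∈ Module.support A M := by
        by_contra hQ
        exact hbad (by rw [supportDim_eq_bot M Q hQ]; exact le_trans (min_le_right _ _) bot_le)
      obtain ⟨d, δ, hd, hδ⟩ := exists_nat M Q hQ
      rw [hd, hδ, min_le_iff, not_or] at hbad
      have h1 : δ < n := by
        by_contra hc
        exact hbad.1 (by exact_mod_cast not_lt.1 hc)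
      have h2 : δ < d := by
        by_contra hc
        exact hbad.2 (by exact_mod_cast not_lt.1 hc)
      have hcod : ¬ CodLE M (d - δ - 1) Q := fun hc => by
        have := (codLE_iff M hd hδ).1 hc
        omega
      obtain ⟨P, hP, hPq⟩ := Ideal.exists_minimalPrimes_le ((hI _ Q).2 hcod)
      have hlt : d - δ - 1 < m₀ := by
        by_contra hc
        exact hcod (hmono (not_lt.1 hc) (hm₀ (Set.mem_univ Q)))
      refine ⟨⟨P, hP.isPrime⟩, ⟨d - δ - 1, Finset.mem_range.2 hlt, hP, (hI _ ⟨P, hP.isPrime⟩).1 hP.1.2,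
        (supportDim_mono M hPq).trans (hd.le.trans (Nat.cast_le.2 (by omega)))⟩, ?_⟩
      exact hPq.trans ((Alg6.disjoint_primeCompl_iff _ _).1 hdis)
    · rintro ⟨P, ⟨m, -, -, hcod, hdim⟩, hPp⟩
      refine ⟨P.asIdeal, P.isPrime, (Alg6.disjoint_primeCompl_iff _ _).2 hPp, fun h => ?_⟩
      have hP : P ∈ Module.support A M := by
        by_contra hP
        exact hcod (codLE_of_notMem M hP)
      obtain ⟨d, δ, hd, hδ⟩ := exists_nat M P hP
      rw [hd, hδ, min_le_iff] at h
      rw [hd] at hdim
      have h1 : d ≤ m + n := Nat.cast_le.1 hdim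
      have h2 : ¬ d ≤ δ + m := fun hc => hcod ((codLE_iff M hd hδ).2 hc)
      rcases h with h | h
      · have : n ≤ δ := by exact_mod_cast h
        omega
      · have : d ≤ δ := by exact_mod_cast h
        omega
  rw [← isClosed_compl_iff, key]
  exact hF.isClosed_biUnion fun P _ => PrimeSpectrum.isClosed_zeroLocus _

end Groth.Agent.ZClosLib.SkCodepth
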