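import Groth.Agent.ZClosLib.Pure
import Groth.Agent.Alg6.LocLoc

/-!
# Z-closedness at a point and depth at least two
-/

set_option linter.style.haveILetI false

universe u

open CategoryTheory CategoryTheory.Limits AlgebraicGeometry TopologicalSpace Opposite

namespace Groth.Agent.ZClosLib

variable {X : Scheme.{u}} [IsLocallyNoetherian X] {Z : Set X} {F : X.Modules}

open IsLocalRing in
theorem depth_stalk_eq (hF : Coh.IsQCoh F) {V : X.Opens} (hV : IsAffineOpen V) {x : X} (hx : x ∈ V) :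
    LocCoh.depth (Localization.AtPrime (hV.primeIdealOf ⟨x, hx⟩).asIdeal)
        (LocalizedModule (hV.primeIdealOf ⟨x, hx⟩).asIdeal.primeCompl Γ(F, V)) =
      LocCoh.depth (X.presheaf.stalk x) (F.presheaf.stalk x) := by
  set p := (hV.primeIdealOf ⟨x, hx⟩).asIdeal
  letI := QCoh.stalkAlg (X := X) hx
  letI := QCoh.stalkModule F hx
  haveI := QCoh.isScalarTower_stalk F hx
  haveI := QCoh.isLocalization_stalk' hV hx
  haveI := QCoh.isLocalizedModule_germLin hF hV hx
  let σ : Localization.AtPrime p ≃ₐ[Γ(X, V)] X.presheaf.stalk x := IsLocalization.algEquiv p.primeCompl _ _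
  letI : Module (Localization.AtPrime p) (F.presheaf.stalk x) := Module.compHom _ σ.toRingEquiv.toRingHom
  haveI : IsScalarTower Γ(X, V) (Localization.AtPrime p) (F.presheaf.stalk x) :=
    IsScalarTower.of_algebraMap_smul fun r z => by
      show σ (algebraMap Γ(X, V) (Localization.AtPrime p) r) • z = _
      rw [σ.commutes, algebraMap_smul]
  let e := (IsLocalizedModule.iso p.primeCompl (QCoh.germLin F hx)).extendScalarsOfIsLocalization
    p.primeCompl (Localization.AtPrime p)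
  exact Alg6.depth_eq_of_semilinear σ.toRingEquiv.toRingHom σ.surjective e.toAddEquiv
    (fun r z => map_smul e r z)

theorem germ_res' {U V : X.Opens} (h : U ≤ V) {x : X} (hx : x ∈ U) (r : Γ(X, V)) :
    X.presheaf.germ U x hx (X.presheaf.map (homOfLE h).op r) = X.presheaf.germ V x (h hx) r :=
  X.presheaf.germ_res_apply (homOfLE h) x hx r

theorem isUnit_germ_of_mem {V : X.Opens} {f : Γ(X, V)} {y : X} (hy : y ∈ X.basicOpen f) :
    IsUnit (X.presheaf.germ V y (X.basicOpen_le f hy) f) :=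
  (X.mem_basicOpen f y (X.basicOpen_le f hy)).1 hy

/-- A section of the module on a basic open with prescribed product by the function. -/
theorem exists_div {V O : X.Opens} (a : Γ(X, V)) (hO : O ≤ X.basicOpen a) (u : Γ(F, V)) :
    ∃ σ : Γ(F, O), ∀ y (hy : y ∈ O),
      X.presheaf.germ V y (X.basicOpen_le a (hO hy)) a • F.presheaf.germ O y hy σ =
        F.presheaf.germ V y (X.basicOpen_le a (hO hy)) u := by
  have hle : O ≤ V := hO.trans (X.basicOpen_le a)
  have hu : IsUnit (X.presheaf.map (homOfLE hle).op a) := by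
    have := (X.toRingedSpace.isUnit_res_basicOpen a).map (X.presheaf.map (homOfLE hO).op).hom
    rw [show (homOfLE hle).op = (homOfLE (X.basicOpen_le a)).op ≫ (homOfLE hO).op from rfl, Functor.map_comp,
      ConcreteCategory.comp_apply]
    exact this
  obtain ⟨b, hb⟩ := hu.exists_right_inv
  refine ⟨b • res F hle u, fun y hy => ?_⟩
  rw [QCoh.germ_smul', germ_res, ← mul_smul, ← germ_res' hle hy a, ← map_mul, hb, map_one, one_smul]

/-- A section vanishing at the associated points of its domain vanishes. -/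
theorem eq_zero_of_germ_ass_open (hF : Coh.IsQCoh F) {O : X.Opens} (s : Γ(F, O))
    (h : ∀ y (hy : y ∈ O), y ∈ AssSch.Ass F → F.presheaf.germ O y hy s = 0) : s = 0 := by
  refine section_ext F _ _ fun x hx => ?_
  obtain ⟨W, hW, hxW, hle⟩ := exists_isAffineOpen_mem_and_subset (x := x) (U := O) hx
  have : res F (show W ≤ O from hle) s = 0 :=
    AssLib.eq_zero_of_germ_ass hF hW _ fun y hy hya => by rw [germ_res]; exact h y (hle hy) hya
  rw [map_zero, ← germ_res F (show W ≤ O from hle) hxW s, this, map_zero]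

theorem finite_sections (hF : Coh.IsCoh F) {V : X.Opens} (hV : IsAffineOpen V) :
    Module.Finite Γ(X, V) Γ(F, V) :=
  (QCoh.isCoh_iff.1 hF).2 ⟨V, hV⟩

variable (hF : Coh.IsCoh F) (hZ : StableUnderSpecialization Z)
include hF hZ

/-- Near a point where `F` is pure, no associated point lies in `Z`. -/
theorem exists_pure_nhd {x : X} (h : ∀ y ∈ AssSch.Ass F, y ⤳ x → y ∉ Z) {U : X.Opens} (hx : x ∈ U) :
    ∃ V : X.Opens, IsAffineOpen V ∧ x ∈ V ∧ V ≤ U ∧ ∀ y ∈ V, y ∈ AssSch.Ass F → y ∉ Z := by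
  obtain ⟨U', hU', hxU', hle⟩ := exists_isAffineOpen_mem_and_subset (x := x) (U := U) hx
  obtain ⟨V, hV, hxV, hVU, hgen⟩ := exists_nhd_ass_generize hF hU' hxU'
  exact ⟨V, hV, hxV, hVU.trans hle, fun y hy hya => h y hya (hgen y hy hya)⟩

theorem two_le_depth_of_isZClosedAt {x x' : X} (hxx : x' ⤳ x) (hx'Z : x' ∈ Z) (h : ZClos.IsZClosedAt Z F x) :
    (2 : ℕ∞) ≤ LocCoh.depth (X.presheaf.stalk x') (F.presheaf.stalk x') := by
  have hp := (isZPureAt_iff_ass hF hZ x).1 h.1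
  obtain ⟨V, hV, hxV, -, hgood⟩ := exists_pure_nhd hF hZ hp (U := ⊤) (x := x) trivial
  have hx'V : x' ∈ V := hxx.mem_open V.2 hxV
  haveI : IsNoetherianRing Γ(X, V) := IsLocallyNoetherian.component_noetherian ⟨V, hV⟩
  haveI := finite_sections hF hV
  rw [← depth_stalk_eq hF.1 hV hx'V]
  set p := (hV.primeIdealOf ⟨x', hx'V⟩).asIdeal with hp_def
  obtain ⟨t, htp, ht⟩ := (Alg6.exists_isSMulRegular_mem_iff (M := Γ(F, V)) p).2 fun P hP hle => by
    obtain ⟨y, hyV, hy⟩ := QCoh.exists_point hV ⟨P, IsAssociatedPrime.isPrime (AssociatedPrimes.mem_iff.mp hP)⟩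
    have hyP : (hV.primeIdealOf ⟨y, hyV⟩).asIdeal = P := by rw [hy]
    refine hgood y hyV ((AssLib.mem_ass_iff hF.1 hV hyV).2 (by rw [hyP]; exact hP)) (hZ ?_ hx'Z)
    exact (AssLib.primeIdealOf_le_iff hV hyV hx'V).1 (hyP.symm ▸ hle)
  rw [Alg6.two_le_depth_atPrime_iff p htp ht]
  intro hP
  obtain ⟨-, zb, hz⟩ := Alg6.mem_ass_iff.mp hP
  obtain ⟨z, rfl⟩ := Submodule.Quotient.mk_surjective _ zb
  choose! u hu using fun a (ha : a ∈ p) =>
    Alg6.mem_pointwise_smul_top_iff.mp ((Submodule.Quotient.mk_smul _ a z).trans ((hz a).mp ha))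
  let T : ZClos.Cl Z := ⟨⟨closure {x'}, isClosed_closure⟩, fun w hw => hZ (specializes_iff_mem_closure.2 hw) hx'Z⟩
  set O := img T.U V
  choose σ hσ using fun a : p => exists_div (F := F) a.1 (O := O ⊓ X.basicOpen a.1) inf_le_right (u a.1)
  have hcov : ∀ y ∈ O, ∃ a : p, y ∈ O ⊓ X.basicOpen a.1 := fun y hy => by
    obtain ⟨a, ha, hay⟩ := Set.not_subset.1 fun hsub => (mem_img.1 hy).1
      (specializes_iff_mem_closure.1 ((AssLib.primeIdealOf_le_iff hV (mem_img.1 hy).2 hx'V).1 hsub))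
    exact ⟨⟨a, ha⟩, hy, (QCoh.mem_basicOpen_iff_notMem hV (mem_img.1 hy).2 a).2 hay⟩
  obtain ⟨s, hs⟩ := exists_glue F (fun a : p => O ⊓ X.basicOpen a.1) (fun a => inf_le_left) hcov σ fun a b => by
    refine section_ext F _ _ fun y hy => ?_
    have ha := isUnit_germ_of_mem hy.1.2
    have hb := isUnit_germ_of_mem hy.2.2
    have hyV : y ∈ V := X.basicOpen_le _ hy.1.2
    rw [germ_res, germ_res, ← (ha.mul hb).smul_left_cancel, mul_smul, mul_smul,
      smul_comm (X.presheaf.germ V y _ a.1), hσ a y hy.1, hσ b y hy.2, ← QCoh.germ_smul', ← QCoh.germ_smul']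
    refine congrArg _ (ht (show t • (b.1 • u a.1) = t • (a.1 • u b.1) from ?_))
    rw [smul_comm t, hu a.1 a.2, smul_comm t, hu b.1 b.2, smul_comm]
  have hts : ∀ y (hy : y ∈ O), X.presheaf.germ V y (mem_img.1 hy).2 t • F.presheaf.germ O y hy s =
      F.presheaf.germ V y (mem_img.1 hy).2 z := fun y hy => by
    obtain ⟨a, ha⟩ := hcov y hy
    have h1 : F.presheaf.germ O y hy s = F.presheaf.germ _ y ha (σ a) := by rw [← hs a, germ_res]
    rw [← (isUnit_germ_of_mem ha.2).smul_left_cancel, h1, smul_comm, hσ a y ha, ← QCoh.germ_smul',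
      hu a.1 a.2, QCoh.germ_smul']
  obtain ⟨w', hw'⟩ := h.2 (((ZClos.H0 Z).obj F).presheaf.germ V x hxV (cls T V s))
  obtain ⟨U, hxU, w, rfl⟩ := TopCat.Presheaf.germ_exist F.presheaf w'
  rw [germ_rho] at hw'
  obtain ⟨W₀, h₁, h₂, hxW₀, e⟩ := exists_res_eq_of_germ_eq _ hxU hxV _ _ hw'
  obtain ⟨g, hg, hxg⟩ := hV.exists_basicOpen_le ⟨x, hxW₀⟩ hxV
  set W := X.basicOpen g
  have hgU : W ≤ U := hg.trans h₁
  have hgV : W ≤ V := hg.trans h₂
  obtain ⟨n, t₀, ht₀⟩ := QCoh.exists_pow_smul_eq_map hF.1 hV g (res F hgU w)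
  have e1 : cls T W (res F (img_mono le_rfl hgV) s) =
      cls T W ((ZClos.toDiagram Z F T).app W (res F hgU w)) := by
    rw [← cls_res T hgV s, ← res_res _ hg h₂ (cls T V s), ← e, res_res, cls, ← ConcreteCategory.comp_apply,
      ← Scheme.Modules.Hom.comp_app, toDiagram_toH0, app_res]
  obtain ⟨T', hT, e2⟩ := cls_eq (hV.basicOpen g).isCompact e1
  set d := g ^ n • z - t • t₀
  have hd : res F (X.basicOpen_le g) d = 0 := eq_zero_of_germ_ass_open hF.1 _ fun y hy hya => by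
    have hyV : y ∈ V := X.basicOpen_le g hy
    have hyT : y ∉ (T.1 : Set X) := fun hh => hgood y hyV hya (T.2 hh)
    have hyT' : y ∉ (T'.1 : Set X) := fun hh => hgood y hyV hya (T'.2 hh)
    have hy' : y ∈ img T'.U W := mem_img.2 ⟨hyT', hy⟩
    have hyO : y ∈ O := mem_img.2 ⟨hyT, hyV⟩
    have hsw : F.presheaf.germ O y hyO s = F.presheaf.germ U y (hgU hy) w := by
      have hh := congrArg (F.presheaf.germ (img T'.U W) y hy') e2
      rw [germ_res, germ_res, germ_res] at hh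
      refine hh.trans ?_
      show F.presheaf.germ (img T.U W) y _ (res F (img_le T.U W) (res F hgU w)) = _
      rw [germ_res, germ_res]
    have ht0 : F.presheaf.germ V y hyV t₀ = X.presheaf.germ V y hyV g ^ n • F.presheaf.germ U y (hgU hy) w := by
      rw [← germ_res F (X.basicOpen_le g) hy t₀, show res F (X.basicOpen_le g) t₀ = _ from ht₀,
        QCoh.germ_smul', map_pow, germ_res', germ_res]
    rw [germ_res, map_sub, QCoh.germ_smul', QCoh.germ_smul', map_pow, ← hts y hyO, hsw, ht0, smul_comm, sub_self]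
  have hx'g : x' ∈ X.basicOpen g := hxx.mem_open (X.basicOpen g).2 hxg
  obtain ⟨r, hr, hr0⟩ := (QCoh.germ_eq_zero_iff hF.1 hV hx'V d).1
    (by rw [← germ_res F (X.basicOpen_le g) hx'g d, hd, map_zero])
  rw [QCoh.mem_basicOpen_iff_notMem hV hx'V] at hr hx'g
  have : r * g ^ n ∈ p := (hz _).mpr (by
    rw [← Submodule.Quotient.mk_smul]
    refine Alg6.mem_pointwise_smul_top_iff.mpr ⟨r • t₀, ?_⟩
    rw [smul_sub, sub_eq_zero, smul_comm r t] at hr0
    rw [mul_smul, hr0])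
  exact p.primeCompl.mul_mem hr (pow_mem (S := p.primeCompl) hx'g n) this

theorem isZClosedAt_of_two_le_depth {x : X}
    (h : ∀ x' : X, x' ⤳ x → x' ∈ Z → (2 : ℕ∞) ≤ LocCoh.depth (X.presheaf.stalk x') (F.presheaf.stalk x')) :
    ZClos.IsZClosedAt Z F x := by
  have hpure : ZClos.IsZPureAt Z F x :=
    (isZPureAt_iff_depth hF hZ x).2 fun x' h1 h2 => le_trans (by decide) (h x' h1 h2)
  refine ⟨hpure, fun zz => ?_⟩
  obtain ⟨U, hxU, s, rfl⟩ := TopCat.Presheaf.germ_exist ((ZClos.H0 Z).obj F).presheaf zz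
  obtain ⟨V, hV, hxV, hVU, hgood⟩ := exists_pure_nhd hF hZ ((isZPureAt_iff_ass hF hZ x).1 hpure) hxU
  haveI : IsNoetherianRing Γ(X, V) := IsLocallyNoetherian.component_noetherian ⟨V, hV⟩
  haveI := finite_sections hF hV
  obtain ⟨T, a, ha⟩ := exists_cls hV.isCompact (res ((ZClos.H0 Z).obj F) hVU s)
  let J : Ideal Γ(X, V) := ⨅ y : {y : X // y ∈ V ∧ y ∈ (T.1 : Set X)}, (hV.primeIdealOf ⟨y.1, y.2.1⟩).asIdeal
  obtain ⟨x₀, hx₀J, hx₀⟩ := (Alg6.exists_isSMulRegular_mem_iff (M := Γ(F, V)) J).2 fun P hP hle => by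
    obtain ⟨y, hyV, hy⟩ := QCoh.exists_point hV ⟨P, IsAssociatedPrime.isPrime (AssociatedPrimes.mem_iff.mp hP)⟩
    have hyP : (hV.primeIdealOf ⟨y, hyV⟩).asIdeal = P := by rw [hy]
    have hyT : y ∈ V ⊓ T.U :=
      ⟨hyV, fun hh => hgood y hyV ((AssLib.mem_ass_iff hF.1 hV hyV).2 (by rw [hyP]; exact hP)) (T.2 hh)⟩
    obtain ⟨f, hf, hyf⟩ := hV.exists_basicOpen_le ⟨y, hyT⟩ hyV
    refine (QCoh.mem_basicOpen_iff_notMem hV hyV f).1 hyf (hyP.symm ▸ hle ?_)
    exact Submodule.mem_iInf _ |>.2 fun w => by_contra fun hw =>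
      (hf ((QCoh.mem_basicOpen_iff_notMem hV w.2.1 f).2 hw)).2 w.2.2
  have hDT : X.basicOpen x₀ ≤ img T.U V := fun y hy => mem_img.2 ⟨fun hh =>
    (QCoh.mem_basicOpen_iff_notMem hV (X.basicOpen_le _ hy) x₀).1 hy
      (Submodule.mem_iInf _ |>.1 hx₀J ⟨y, X.basicOpen_le _ hy, hh⟩), X.basicOpen_le _ hy⟩
  have hassD : ∀ y (hyV : y ∈ V), y ∈ AssSch.Ass F → y ∈ X.basicOpen x₀ := fun y hyV hya =>
    (QCoh.mem_basicOpen_iff_notMem hV hyV x₀).2
      (Alg6.isSMulRegular_iff_forall_ass.mp hx₀ _ ((AssLib.mem_ass_iff hF.1 hV hyV).1 hya))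
  obtain ⟨n, m, hm⟩ := QCoh.exists_pow_smul_eq_map hF.1 hV x₀ (res F hDT a)
  have hne : img T.U V ≤ V := img_le T.U V
  have hfull : ∀ y (hy : y ∈ img T.U V),
      F.presheaf.germ V y (hne hy) m = X.presheaf.germ V y (hne hy) x₀ ^ n • F.presheaf.germ _ y hy a := by
    intro y hy
    have hD : res F hne m - X.presheaf.map (homOfLE hne).op x₀ ^ n • a = 0 :=
      eq_zero_of_germ_ass_open hF.1 _ fun w hw hwa => by
        have hwD := hassD w (hne hw) hwa
        rw [map_sub, germ_res, QCoh.germ_smul', map_pow, germ_res', ← germ_res F (X.basicOpen_le x₀) hwD m,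
          show res F (X.basicOpen_le x₀) m = _ from hm, QCoh.germ_smul', map_pow, germ_res', germ_res, sub_self]
    have := congrArg (F.presheaf.germ _ y hy) (sub_eq_zero.1 hD)
    rwa [germ_res, QCoh.germ_smul', map_pow, germ_res'] at this
  set q := (hV.primeIdealOf ⟨x, hxV⟩).asIdeal
  obtain ⟨g, hgq, w, hw⟩ : ∃ g ∉ q, ∃ w : Γ(F, V), x₀ ^ n • w = g • m := by
    by_contra hcon
    push Not at hcon
    have hne0 : LocalizedModule.mkLinearMap q.primeCompl (QuotSMulTop (x₀ ^ n) Γ(F, V))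
        (Submodule.Quotient.mk m) ≠ 0 := by
      intro h0
      obtain ⟨c, hc⟩ := (IsLocalizedModule.eq_zero_iff q.primeCompl
        (LocalizedModule.mkLinearMap q.primeCompl (QuotSMulTop (x₀ ^ n) Γ(F, V)))).1 h0
      obtain ⟨w, hw⟩ := Alg6.mem_pointwise_smul_top_iff.mp ((Submodule.Quotient.mk_smul _ (c : Γ(X, V)) m).trans hc)
      exact hcon c c.2 w hw
    obtain ⟨P', hP', hle⟩ := Alg6.exists_ass_ge (R := Localization.AtPrime q) hne0
    have hPp := IsAssociatedPrime.isPrime (AssociatedPrimes.mem_iff.mp hP')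
    have hPass : P'.comap (algebraMap Γ(X, V) (Localization.AtPrime q)) ∈
        associatedPrimes Γ(X, V) (QuotSMulTop (x₀ ^ n) Γ(F, V)) := by
      have := Module.associatedPrimes.preimage_comap_associatedPrimes_eq_associatedPrimes_of_isLocalizedModule
        q.primeCompl (Localization.AtPrime q)
        (LocalizedModule.mkLinearMap q.primeCompl (QuotSMulTop (x₀ ^ n) Γ(F, V)))
      rw [← this] at hP'
      exact hP'
    obtain ⟨y, hyV, hy⟩ := QCoh.exists_point hV
      ⟨P'.comap (algebraMap Γ(X, V) (Localization.AtPrime q)), Ideal.comap_isPrime _ _⟩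
    have hyP : (hV.primeIdealOf ⟨y, hyV⟩).asIdeal = P'.comap (algebraMap Γ(X, V) (Localization.AtPrime q)) := by
      rw [hy]
    have hyx : y ⤳ x := (AssLib.primeIdealOf_le_iff hV hxV hyV).1 fun c hc => by
      by_contra hcq
      rw [hyP] at hc
      exact hPp.ne_top (Ideal.eq_top_of_isUnit_mem _ hc (IsLocalization.map_units _ (⟨c, hcq⟩ : q.primeCompl)))
    have hann : ∀ c : Γ(X, V), (∃ w : Γ(F, V), x₀ ^ n • w = c • m) →
        c ∈ (hV.primeIdealOf ⟨y, hyV⟩).asIdeal := fun c hc => by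
      rw [hyP]
      refine hle _ ?_
      rw [algebraMap_smul, ← map_smul, ← Submodule.Quotient.mk_smul,
        Alg6.mem_pointwise_smul_top_iff.mpr hc, map_zero]
    by_cases hyT : y ∈ (T.1 : Set X)
    · have h2 := h y hyx (T.2 hyT)
      rw [← depth_stalk_eq hF.1 hV hyV,
        Alg6.two_le_depth_atPrime_iff _ (hann (x₀ ^ n) ⟨m, rfl⟩) (hx₀.pow n)] at h2
      exact h2 (by rw [hyP]; exact hPass)
    · have hyO : y ∈ img T.U V := mem_img.2 ⟨hyT, hyV⟩
      letI := QCoh.stalkAlg (X := X) hyV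
      letI := QCoh.stalkModule F hyV
      haveI := QCoh.isLocalizedModule_germLin hF.1 hV hyV
      obtain ⟨⟨w, g'⟩, hw⟩ := IsLocalizedModule.surj (hV.primeIdealOf ⟨y, hyV⟩).asIdeal.primeCompl
        (QCoh.germLin F hyV) (F.presheaf.germ _ y hyO a)
      have hw' : X.presheaf.germ V y hyV (g' : Γ(X, V)) • F.presheaf.germ _ y hyO a = F.presheaf.germ V y hyV w := hw
      have h0 : F.presheaf.germ V y hyV ((g' : Γ(X, V)) • m - x₀ ^ n • w) = 0 := by
        rw [map_sub, QCoh.germ_smul', QCoh.germ_smul', map_pow, hfull y hyO, ← hw', smul_comm, sub_self]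
      obtain ⟨r, hr, hr0⟩ := (QCoh.germ_eq_zero_iff hF.1 hV hyV _).1 h0
      rw [QCoh.mem_basicOpen_iff_notMem hV hyV] at hr
      refine (hV.primeIdealOf ⟨y, hyV⟩).asIdeal.primeCompl.mul_mem hr g'.2 (hann _ ⟨r • w, ?_⟩)
      rw [smul_sub, sub_eq_zero] at hr0
      rw [mul_smul, hr0, smul_comm]
  have hxW : x ∈ X.basicOpen g := (QCoh.mem_basicOpen_iff_notMem hV hxV g).2 hgq
  obtain ⟨σ, hσ⟩ := exists_div (F := F) g (O := X.basicOpen g) le_rfl w
  refine ⟨F.presheaf.germ _ x hxW σ, ?_⟩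
  have key : res F (img_mono le_rfl (X.basicOpen_le g)) a = res F (img_le T.U (X.basicOpen g)) σ := by
    refine sub_eq_zero.1 (eq_zero_of_germ_ass_open hF.1 _ fun y hy hya => ?_)
    have hyg : y ∈ X.basicOpen g := (mem_img.1 hy).2
    have hyV : y ∈ V := X.basicOpen_le g hyg
    have hyO : y ∈ img T.U V := mem_img.2 ⟨(mem_img.1 hy).1, hyV⟩
    rw [map_sub, germ_res, germ_res, sub_eq_zero,
      ← ((isUnit_germ_of_mem (hassD y hyV hya)).pow n).smul_left_cancel, ← (isUnit_germ_of_mem hyg).smul_left_cancel,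
      ← hfull y hyO, smul_comm (X.presheaf.germ V y hyV g), hσ y hyg, ← map_pow, ← QCoh.germ_smul', ← QCoh.germ_smul', hw]
  rw [germ_rho, ← germ_res _ hVU hxV s, ← germ_res _ (X.basicOpen_le g) hxW (res _ hVU s), ← ha, cls_res, key, cls]
  refine congrArg _ ?_
  rw [← toDiagram_toH0 T, Scheme.Modules.Hom.comp_app, ConcreteCategory.comp_apply]
  rfl

theorem isZClosedAt_iff_depth (x : X) :
    ZClos.IsZClosedAt Z F x ↔
      ∀ x' : X, x' ⤳ x → x' ∈ Z → (2 : ℕ∞) ≤ LocCoh.depth (X.presheaf.stalk x') (F.presheaf.stalk x') :=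
  ⟨fun h _ h1 h2 => two_le_depth_of_isZClosedAt hF hZ h1 h2 h, isZClosedAt_of_two_le_depth hF hZ⟩

end Groth.Agent.ZClosLib
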