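import Mathlib
import Groth.Prelude.Def_FlatCA
import Groth.Prelude.Def_CAlgX
import Groth.Agent.FlatModel.FibreEss
import Groth.Agent.AssFiber.Basic

/-!
# Multiplication by an element regular on the closed fibre is universally injective
-/

set_option autoImplicit false
set_option linter.style.haveILetI false

universe u

open TensorProduct IsLocalRing Polynomial

namespace Groth.Agent.ZClosLib.NzdUnivInj

/-- Modules over a uniformised domain are flat when the uniformizer is regular. -/
theorem flat_of_uniformizer {A : Type u} [CommRing A] [Nontrivial A] (π : A) (hreg : IsSMulRegular A π)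
    (hall : ∀ a : A, a = 0 ∨ ∃ (n : ℕ) (u : A), IsUnit u ∧ a = u * π ^ n)
    (M : Type u) [AddCommGroup M] [Module A M] (hM : IsSMulRegular M π) : Module.Flat A M := by
  have hne : ∀ n (u : A), IsUnit u → u * π ^ n ≠ 0 := fun n u hu h => by
    rw [hu.mul_right_eq_zero] at h
    have h1 : π ^ n • (1 : A) = π ^ n • (0 : A) := by rw [smul_zero, smul_eq_mul, mul_one, h]
    exact one_ne_zero (hreg.pow n h1)
  haveI : NoZeroDivisors A := ⟨fun {a b} hab => by
    rcases hall a with rfl | ⟨n, u, hu, rfl⟩
    · exact Or.inl rfl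
    rcases hall b with rfl | ⟨m, v, hv, rfl⟩
    · exact Or.inr rfl
    exact absurd (show u * v * π ^ (n + m) = 0 by rw [← hab]; ring) (hne _ _ (hu.mul hv))⟩
  haveI : IsDomain A := NoZeroDivisors.to_isDomain A
  haveI : PreValuationRing A := by
    refine ⟨fun a b => ?_⟩
    rcases hall a with rfl | ⟨n, u, hu, rfl⟩
    · exact ⟨0, Or.inr (mul_zero b)⟩
    rcases hall b with rfl | ⟨m, v, hv, rfl⟩
    · exact ⟨0, Or.inl (mul_zero _)⟩
    obtain ⟨u', hu'⟩ := hu.exists_left_inv
    obtain ⟨v', hv'⟩ := hv.exists_left_inv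
    rcases le_total n m with h | h
    · refine ⟨v * u' * π ^ (m - n), Or.inl ?_⟩
      rw [show u * π ^ n * (v * u' * π ^ (m - n)) = (u' * u) * v * (π ^ n * π ^ (m - n)) by ring, hu', one_mul,
        ← pow_add, Nat.add_sub_cancel' h]
    · refine ⟨u * v' * π ^ (n - m), Or.inr ?_⟩
      rw [show v * π ^ m * (u * v' * π ^ (n - m)) = (v' * v) * u * (π ^ m * π ^ (n - m)) by ring, hv', one_mul,
        ← pow_add, Nat.add_sub_cancel' h]
  haveI : ValuationRing A := {}
  haveI : Module.IsTorsionFree A M := ⟨fun r hr => by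
    rcases hall r with rfl | ⟨n, u, hu, rfl⟩
    · exact absurd hr.ne_zero (by simp)
    exact (IsSMulRegular.mul (hu.isSMulRegular M) (hM.pow n))⟩
  rw [Module.Flat.flat_iff_torsion_eq_bot_of_isBezout, ← Submodule.isTorsionFree_iff_torsion_eq_bot]
  infer_instance

theorem exists_X_pow_mul {R : Type u} [CommRing R] [IsLocalRing R] : ∀ f : R[X],
    f ∈ (maximalIdeal R).map (C : R →+* R[X]) ∨
      ∃ (n : ℕ) (h : R[X]), h.coeff 0 ∉ maximalIdeal R ∧ f - X ^ n * h ∈ (maximalIdeal R).map (C : R →+* R[X]) := by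
  intro f
  induction hd : f.natDegree using Nat.strong_induction_on generalizing f with
  | _ d ih =>
  by_cases h0 : f.coeff 0 ∈ maximalIdeal R
  swap
  · exact Or.inr ⟨0, f, h0, by simp⟩
  have hC : C (f.coeff 0) ∈ (maximalIdeal R).map (C : R →+* R[X]) := Ideal.mem_map_of_mem _ h0
  by_cases hdeg : f.natDegree = 0
  · rw [eq_C_of_natDegree_eq_zero hdeg]; exact Or.inl hC
  have hlt : f.divX.natDegree < d := by
    rw [natDegree_divX_eq_natDegree_tsub_one, hd]; omega
  rcases ih _ hlt f.divX rfl with h | ⟨n, h, hh, hmem⟩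
  · refine Or.inl ?_
    rw [← divX_mul_X_add f]
    exact add_mem (Ideal.mul_mem_right _ _ h) hC
  · refine Or.inr ⟨n + 1, h, hh, ?_⟩
    have e : f - X ^ (n + 1) * h = (f.divX - X ^ n * h) * X + C (f.coeff 0) := by
      nth_rw 1 [← divX_mul_X_add f]
      ring
    rw [e]
    exact add_mem (Ideal.mul_mem_right _ _ hmem) hC

/-- The rTensor of multiplication by the variable is injective. -/
theorem injective_X_smul {R : Type u} [CommRing R] (Q : Type u) [AddCommGroup Q] [Module R Q] :
    Function.Injective (fun z : R[X] ⊗[R] Q => (X : R[X]) • z) := by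
  let dX : R[X] →ₗ[R] R[X] :=
    { toFun := fun p => p.divX, map_add' := fun p q => divX_add, map_smul' := fun r p => by ext n; simp [coeff_divX] }
  have key : ∀ z : R[X] ⊗[R] Q, dX.rTensor Q ((X : R[X]) • z) = z := by
    intro z
    induction z using TensorProduct.induction_on with
    | zero => rw [smul_zero, map_zero]
    | tmul p q =>
      rw [smul_tmul', LinearMap.rTensor_tmul, smul_eq_mul]
      exact congrArg (· ⊗ₜ[R] q) (by ext n; simp [dX, coeff_divX, coeff_X_mul])
    | add a b ha hb => rw [smul_add, map_add, ha, hb]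
  exact fun a b h => by rw [← key a, ← key b]; exact congrArg _ h

set_option maxHeartbeats 1000000 in
/-- The key statement. -/
theorem smul_injective {R S M : Type u} [CommRing R] [IsLocalRing R] [CommRing S] [IsLocalRing S] [Algebra R S]
    [IsLocalHom (algebraMap R S)] (hS : CAlgX.IsEssFinitePresentation R S) [AddCommGroup M] [Module S M]
    [Module R M] [IsScalarTower R S M] [Module.FinitePresentation S M] [Module.Flat R M] (s : S)
    (hs : IsSMulRegular (M ⧸ (maximalIdeal R).map (algebraMap R S) • (⊤ : Submodule S M)) s)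
    (Q : Type u) [AddCommGroup Q] [Module R Q] : Function.Injective (fun z : M ⊗[R] Q => s • z) := by
  by_cases hu : IsUnit s
  · exact fun a b h => hu.smul_left_cancel.1 h
  rcases subsingleton_or_nontrivial M with hM | hM
  · haveI : Subsingleton (M ⊗[R] Q) := subsingleton_of_forall_eq 0 fun z => by
      induction z using TensorProduct.induction_on with
      | zero => rfl
      | tmul m q => rw [Subsingleton.elim m 0, zero_tmul]
      | add a b ha hb => rw [ha, hb, add_zero]
    exact fun a b _ => Subsingleton.elim a b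
  have hsm : s ∈ maximalIdeal S := hu
  let ε : R[X] →ₐ[R] S := aeval s
  let P : Ideal R[X] := (maximalIdeal S).comap ε
  haveI : P.IsPrime := Ideal.IsPrime.comap _
  have hcoeff : ∀ h : R[X], h.coeff 0 ∉ maximalIdeal R → h ∉ P := by
    intro h h0 hP
    refine h0 ?_
    have h1 : ε h = ε h.divX * s + algebraMap R S (h.coeff 0) := by
      conv_lhs => rw [← divX_mul_X_add h]
      simp [ε]
    have h2 : algebraMap R S (h.coeff 0) ∈ maximalIdeal S := by
      rw [eq_sub_of_add_eq' h1.symm]
      exact sub_mem hP (Ideal.mul_mem_left _ _ hsm)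
    intro hu0
    exact h2 (hu0.map _)
  let L := Localization.AtPrime P
  have hunit : ∀ x : P.primeCompl, IsUnit (ε x) := fun x => by
    by_contra h; exact x.2 h
  let φ : L →ₐ[R] S := IsLocalization.liftAlgHom (M := P.primeCompl) hunit
  have hφ : ∀ x : R[X], φ (algebraMap R[X] L x) = ε x := fun x => IsLocalization.lift_eq _ x
  letI : Algebra L S := φ.toRingHom.toAlgebra
  haveI : IsScalarTower R L S := IsScalarTower.of_algebraMap_eq fun r => (φ.commutes r).symm
  haveI : IsLocalHom (algebraMap L S) := ⟨fun z hz => by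
    obtain ⟨⟨f, g⟩, hfg⟩ := IsLocalization.surj P.primeCompl z
    by_contra hz'
    have hf : f ∈ P := by
      by_contra hf
      refine hz' (isUnit_of_mul_isUnit_left (y := algebraMap R[X] L g) ?_)
      rw [hfg]
      exact IsLocalization.map_units L (⟨f, hf⟩ : P.primeCompl)
    have h1 := congrArg φ hfg
    rw [map_mul, hφ, hφ] at h1
    have h2 : IsUnit (φ z * ε g) := hz.mul (hunit g)
    rw [h1] at h2
    exact hf h2⟩
  haveI : IsLocalHom (algebraMap R L) := ⟨fun r hr => by
    have := hr.map φ
    rw [φ.commutes] at this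
    exact isUnit_of_map_unit _ r this⟩
  haveI : Algebra.EssFiniteType R[X] L := Algebra.EssFiniteType.of_isLocalization L P.primeCompl
  haveI : Algebra.EssFiniteType R L := Algebra.EssFiniteType.comp R R[X] L
  letI : Module L M := Module.compHom M (algebraMap L S)
  haveI : IsScalarTower L S M := IsScalarTower.of_algebraMap_smul fun _ _ => rfl
  haveI : IsScalarTower R L M := IsScalarTower.to₁₂₄ R L S M
  -- the closed fibre of `L`
  let mR := maximalIdeal R
  let mL := mR.map (algebraMap R L)
  have hmL : mL = (mR.map (C : R →+* R[X])).map (algebraMap R[X] L) := by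
    rw [Ideal.map_map]; rfl
  have hπ : algebraMap L S (algebraMap R[X] L X) = s := by
    show φ _ = s
    rw [hφ]; simp [ε]
  let π : L ⧸ mL := Ideal.Quotient.mk mL (algebraMap R[X] L X)
  haveI : Nontrivial (L ⧸ mL) := Ideal.Quotient.nontrivial_iff.2 fun h => by
    refine (maximalIdeal.isMaximal L).ne_top (top_le_iff.1 ?_)
    rw [← h]
    exact Ideal.map_le_iff_le_comap.2 fun r hr => map_nonunit (algebraMap R L) r hr
  have hreg : IsSMulRegular (L ⧸ mL) π := by
    rw [isSMulRegular_iff_right_eq_zero_of_smul]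
    intro z hz
    obtain ⟨z, rfl⟩ := Ideal.Quotient.mk_surjective z
    rw [smul_eq_mul, ← map_mul, Ideal.Quotient.eq_zero_iff_mem, hmL,
      IsLocalization.mem_map_algebraMap_iff P.primeCompl] at hz
    obtain ⟨⟨⟨e, he⟩, g⟩, hz⟩ := hz
    obtain ⟨⟨f, g'⟩, hf⟩ := IsLocalization.surj P.primeCompl z
    have h1 : algebraMap R[X] L (X * (f * (g : R[X]))) = algebraMap R[X] L (e * (g' : R[X])) := by
      rw [map_mul, map_mul, map_mul, ← hf, ← hz]
      ring
    obtain ⟨⟨c, hcP⟩, hc⟩ := (IsLocalization.eq_iff_exists P.primeCompl _).1 h1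
    have h2 : X * (c * (f * (g : R[X]))) ∈ mR.map (C : R →+* R[X]) := by
      rw [mul_left_comm, hc]
      exact Ideal.mul_mem_left _ _ (Ideal.mul_mem_right _ _ he)
    have h3 : c * (f * (g : R[X])) ∈ mR.map (C : R →+* R[X]) := Ideal.mem_map_C_iff.2 fun n => by
      have := Ideal.mem_map_C_iff.1 h2 (n + 1)
      rwa [coeff_X_mul] at this
    rw [Ideal.Quotient.eq_zero_iff_mem, hmL, IsLocalization.mem_map_algebraMap_iff P.primeCompl]
    refine ⟨⟨⟨_, h3⟩, ⟨c, hcP⟩ * g * g'⟩, ?_⟩
    simp only [Submonoid.coe_mul, map_mul, ← hf]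
    ring
  have hall : ∀ a : L ⧸ mL, a = 0 ∨ ∃ (n : ℕ) (u : L ⧸ mL), IsUnit u ∧ a = u * π ^ n := by
    intro a
    obtain ⟨a, rfl⟩ := Ideal.Quotient.mk_surjective a
    obtain ⟨⟨f, g⟩, hfg⟩ := IsLocalization.surj P.primeCompl a
    have hgu : IsUnit (Ideal.Quotient.mk mL (algebraMap R[X] L g)) := (IsLocalization.map_units L g).map _
    obtain ⟨gi, hgi, hgiu⟩ : ∃ gi, gi * Ideal.Quotient.mk mL (algebraMap R[X] L g) = 1 ∧ IsUnit gi :=
      ⟨_, hgu.val_inv_mul, Units.isUnit _⟩
    have hagi : Ideal.Quotient.mk mL a = gi * Ideal.Quotient.mk mL (algebraMap R[X] L f) := by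
      rw [← hfg, map_mul]
      linear_combination (-(Ideal.Quotient.mk mL a)) * hgi
    rcases exists_X_pow_mul f with h | ⟨n, h, hh, hmem⟩
    · left
      rw [hagi, Ideal.Quotient.eq_zero_iff_mem.2 (hmL ▸ Ideal.mem_map_of_mem (algebraMap R[X] L) h), mul_zero]
    · refine Or.inr ⟨n, gi * Ideal.Quotient.mk mL (algebraMap R[X] L h), ?_, ?_⟩
      · exact hgiu.mul ((IsLocalization.map_units L (⟨h, hcoeff h hh⟩ : P.primeCompl)).map _)
      · rw [hagi, mul_assoc]
        congr 1
        rw [← map_pow, ← map_mul, Ideal.Quotient.eq, ← map_pow, ← map_mul, ← map_sub, hmL, mul_comm h]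
        exact Ideal.mem_map_of_mem _ hmem
  let N := mL • (⊤ : Submodule L M)
  have hN : ∀ m : M, m ∈ N ↔ m ∈ (mR.map (algebraMap R S)) • (⊤ : Submodule S M) := by
    intro m
    exact ⟨fun h => AssFiber.smul_mem_pN (S := S) mR M (AssFiber.mem_smul_top_of_mem_pN (S := L) mR M h),
      fun h => AssFiber.smul_mem_pN (S := L) mR M (AssFiber.mem_smul_top_of_mem_pN (S := S) mR M h)⟩
  have hMreg : IsSMulRegular (M ⧸ N) π := by
    rw [isSMulRegular_iff_right_eq_zero_of_smul]
    intro z hz
    obtain ⟨m, rfl⟩ := Submodule.Quotient.mk_surjective _ z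
    change Submodule.Quotient.mk ((algebraMap R[X] L X) • m) = 0 at hz
    rw [Submodule.Quotient.mk_eq_zero, hN, ← algebraMap_smul S (algebraMap R[X] L X) m, hπ] at hz
    rw [Submodule.Quotient.mk_eq_zero, hN, ← Submodule.Quotient.mk_eq_zero]
    refine hs.right_eq_zero_of_smul ?_
    rw [← Submodule.Quotient.mk_smul, Submodule.Quotient.mk_eq_zero]
    exact hz
  have hfib : Module.Flat (L ⧸ mL) (M ⧸ N) := flat_of_uniformizer π hreg hall _ hMreg
  haveI : Module.Flat L M := (FlatModel.flat_of_fibre_essFP (R := R) (S := L) (S' := S) hS hfib).2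
  haveI : Module.Flat R[X] L := IsLocalization.flat L P.primeCompl
  -- injectivity
  have h1 : Function.Injective (fun z : L ⊗[R] Q => (algebraMap R[X] L X) • z) := by
    let e := AlgebraTensorModule.cancelBaseChange R R[X] R[X] L Q
    let mX : R[X] ⊗[R] Q →ₗ[R[X]] R[X] ⊗[R] Q := LinearMap.lsmul R[X] _ X
    have hi : Function.Injective (mX.lTensor L) :=
      Module.Flat.lTensor_preserves_injective_linearMap mX (injective_X_smul Q)
    have hcomm : ∀ z, mX.lTensor L z = (X : R[X]) • z := by
      intro z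
      induction z using TensorProduct.induction_on with
      | zero => rw [map_zero, smul_zero]
      | tmul a b => rw [LinearMap.lTensor_tmul]; exact (tmul_smul _ _ _)
      | add a b ha hb => rw [map_add, smul_add, ha, hb]
    intro a b hab
    change algebraMap R[X] L X • a = algebraMap R[X] L X • b at hab
    rw [algebraMap_smul, algebraMap_smul] at hab
    apply e.symm.injective
    apply hi
    rw [hcomm, hcomm, ← map_smul, ← map_smul, hab]
  let e := AlgebraTensorModule.cancelBaseChange R L L M Q
  let mX : L ⊗[R] Q →ₗ[L] L ⊗[R] Q := LinearMap.lsmul L _ (algebraMap R[X] L X)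
  have hi : Function.Injective (mX.lTensor M) :=
    Module.Flat.lTensor_preserves_injective_linearMap mX h1
  have hcomm : ∀ z, mX.lTensor M z = (algebraMap R[X] L X) • z := by
    intro z
    induction z using TensorProduct.induction_on with
    | zero => rw [map_zero, smul_zero]
    | tmul a b => rw [LinearMap.lTensor_tmul]; exact (tmul_smul _ _ _)
    | add a b ha hb => rw [map_add, smul_add, ha, hb]
  have hact : ∀ z : M ⊗[R] Q, s • z = (algebraMap R[X] L X) • z := by
    intro z
    induction z using TensorProduct.induction_on with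
    | zero => rw [smul_zero, smul_zero]
    | tmul a b => rw [smul_tmul', smul_tmul', ← hπ, algebraMap_smul]
    | add a b ha hb => rw [smul_add, smul_add, ha, hb]
  intro a b hab
  change s • a = s • b at hab
  rw [hact, hact] at hab
  apply e.symm.injective
  apply hi
  rw [hcomm, hcomm, ← map_smul, ← map_smul, hab]

end Groth.Agent.ZClosLib.NzdUnivInj
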