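import Mathlib
import Groth.Agent.ZClosLib.NzdUnivInj
import Groth.Agent.ZClosLib.PurityBC
import Groth.Agent.ZClosLib.FibAssIdeal
import Groth.Agent.WeakAss.Basic

/-!
# Elements outside the relative assassin
-/

set_option autoImplicit false
set_option linter.style.haveILetI false

universe u

open TensorProduct

namespace Groth.Agent.ZClosLib.NzdUnivInj

attribute [local instance] Algebra.TensorProduct.rightAlgebra

section

variable {R S : Type u} [CommRing R] [CommRing S] [Algebra R S] (p : Ideal R) [p.IsPrime]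
  (N : Type u) [AddCommGroup N] [Module S N] [Module R N] [IsScalarTower R S N]

theorem finite_fiberMod [Module.Finite S N] : Module.Finite (p.Fiber S) (FlatCA.fiberMod p S N) :=
  inferInstanceAs (Module.Finite (p.Fiber S) ((p.Fiber S) ⊗[S] N))

omit [Module S N] [IsScalarTower R S N] in
/-- A prime over `p` is the contraction of a prime of the fibre ring. -/
theorem exists_prime_fiber (q : Ideal S) [hqp : q.IsPrime] [hq : q.LiesOver p] :
    ∃ Q : {Q : Ideal (p.Fiber S) // Q.IsPrime}, Q.1.comap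
        (Algebra.TensorProduct.includeRight (R := R) (A := p.ResidueField) (B := S)).toRingHom = q := by
  let P : PrimeSpectrum (p.Fiber S) :=
    PrimeSpectrum.preimageEquivFiber R S ⟨p, inferInstance⟩ ⟨⟨q, hqp⟩, PrimeSpectrum.ext hq.over.symm⟩
  refine ⟨⟨P.asIdeal, P.isPrime⟩, ?_⟩
  have h := congrArg (fun x => x.1.asIdeal) ((PrimeSpectrum.preimageEquivFiber R S ⟨p, inferInstance⟩).symm_apply_apply
    ⟨⟨q, hqp⟩, PrimeSpectrum.ext hq.over.symm⟩)
  exact h

/-- The extension of a prime over `p` to the fibre ring is prime. -/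
theorem isPrime_fiberIdeal (q : Ideal S) [q.IsPrime] [hq : q.LiesOver p] : (FlatCA.fiberIdeal p q).IsPrime := by
  obtain ⟨⟨Q, hQ⟩, hQ'⟩ := exists_prime_fiber p q
  rw [← FibAssIdeal.eq_fiberIdeal p hQ']
  exact hQ

set_option maxHeartbeats 1000000 in
/-- An ideal not inside the relevant associated primes contains an element outside all of them. -/
theorem exists_avoid [IsNoetherianRing (p.Fiber S)] [Module.Finite S N] (Pr : Ideal (p.Fiber S) → Prop) (J : Ideal S)
    (h : ∀ r ∈ associatedPrimes (p.Fiber S) (FlatCA.fiberMod p S N), Pr r → ¬ J ≤ r.comap (algebraMap S (p.Fiber S))) :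
    ∃ s ∈ J, ∀ r ∈ associatedPrimes (p.Fiber S) (FlatCA.fiberMod p S N), Pr r → algebraMap S (p.Fiber S) s ∉ r := by
  classical
  haveI := finite_fiberMod p (S := S) N
  have hfin := associatedPrimes.finite (p.Fiber S) (FlatCA.fiberMod p S N)
  let T := hfin.toFinset.filter Pr
  have hT : ∀ r ∈ T, (r.comap (algebraMap S (p.Fiber S))).IsPrime := fun r hr => by
    haveI : r.IsPrime := (hfin.mem_toFinset.1 (Finset.mem_filter.1 hr).1).1
    exact Ideal.IsPrime.comap _
  by_contra hc
  push Not at hc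
  have hsub : (J : Set S) ⊆ ⋃ r ∈ (↑T : Set (Ideal (p.Fiber S))), (r.comap (algebraMap S (p.Fiber S)) : Set S) := by
    intro x hx
    obtain ⟨r, hr, hP, hm⟩ := hc x hx
    exact Set.mem_biUnion (Finset.mem_filter.2 ⟨hfin.mem_toFinset.2 hr, hP⟩) hm
  obtain ⟨r, hr, hle⟩ := (Ideal.subset_union_prime (f := fun r => r.comap (algebraMap S (p.Fiber S))) ⊥ ⊥
    fun r hr _ _ => hT r hr).1 hsub
  exact h r (hfin.mem_toFinset.1 (Finset.mem_filter.1 hr).1) (Finset.mem_filter.1 hr).2 hle

/-- An element outside the associated primes of the fibre below `q` has no torsion in the fibre at `q`. -/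
theorem exists_notMem_smul_eq_zero [IsNoetherianRing (p.Fiber S)] (q : Ideal S) [q.IsPrime] [q.LiesOver p] {s : S}
    (hs : ∀ r ∈ associatedPrimes (p.Fiber S) (FlatCA.fiberMod p S N),
      r ≤ FlatCA.fiberIdeal p q → algebraMap S (p.Fiber S) s ∉ r)
    {n : N} (hn : FlatCA.toFiberMod p (S := S) N (s • n) = 0) :
    ∃ g ∉ q, FlatCA.toFiberMod p (S := S) N (g • n) = 0 := by
  haveI := isPrime_fiberIdeal p q
  let x := FlatCA.toFiberMod p (S := S) N n
  let I : Ideal (p.Fiber S) := WeakAss.annEl (p.Fiber S) x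
  have hsI : algebraMap S (p.Fiber S) s ∈ I := by
    rw [WeakAss.mem_annEl, AssFiber.algebraMap_smul_fiberMod, ← map_smul, hn]
  have hI : ¬ I ≤ FlatCA.fiberIdeal p q := fun hle => by
    obtain ⟨r, hr, hrle⟩ := Ideal.exists_minimalPrimes_le (I := I) (J := FlatCA.fiberIdeal p q) hle
    have hra := WeakAss.mem_ass_of_mem_weakAss_of_fg (IsNoetherian.noetherian r)
      (WeakAss.mem_weakAss_iff.2 ⟨x, hr⟩)
    exact hs r (FibAssIdeal.mem_associatedPrimes_of_mem_ass hra) hrle (hr.1.2 hsI)
  obtain ⟨b, hb, hbq⟩ := SetLike.not_le_iff_exists.1 hI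
  obtain ⟨r, hr, g, hg⟩ := AssFiber.exists_smul_eq_includeRight p b
  have hg' : algebraMap S (p.Fiber S) g = algebraMap S (p.Fiber S) (algebraMap R S r) * b := hg.symm
  refine ⟨g, fun hgq => ?_, ?_⟩
  · have h1 : algebraMap S (p.Fiber S) g ∈ FlatCA.fiberIdeal p q := Ideal.mem_map_of_mem _ hgq
    rw [hg'] at h1
    exact hbq ((Ideal.unit_mul_mem_iff_mem _ (PurityBC.isUnit_algebraMap_fiber p hr)).1 h1)
  · rw [map_smul, ← AssFiber.algebraMap_smul_fiberMod, hg', mul_smul, WeakAss.mem_annEl.1 hb, smul_zero]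

/-- Associated primes of the fibre give points of the relative assassin. -/
theorem comap_spec {r : Ideal (p.Fiber S)} (hr : r ∈ associatedPrimes (p.Fiber S) (FlatCA.fiberMod p S N))
    [IsNoetherianRing (p.Fiber S)] :
    (r.comap (algebraMap S (p.Fiber S))).IsPrime ∧ (r.comap (algebraMap S (p.Fiber S))).LiesOver p ∧
      FlatCA.fiberIdeal p (r.comap (algebraMap S (p.Fiber S))) = r ∧
      r.comap (algebraMap S (p.Fiber S)) ∈ associatedPrimes S (FlatCA.fiberMod p S N) := by
  haveI : r.IsPrime := hr.1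
  refine ⟨Ideal.IsPrime.comap _, PurityBC.liesOver_comap p r, (FibAssIdeal.eq_fiberIdeal p rfl).symm,
    FibAssIdeal.mem_associatedPrimes_of_mem_ass ?_⟩
  rw [AssFiber.ass_fiberMod_eq]
  exact ⟨r, FibAssIdeal.mem_ass_of_mem_associatedPrimes hr, rfl⟩

end

/-- An element killing nothing in the closed fibre is regular on the reduction. -/
theorem isSMulRegular_quot_maximal {R S : Type u} [CommRing R] [IsLocalRing R] [CommRing S] [Algebra R S]
    (N : Type u) [AddCommGroup N] [Module S N] [Module R N] [IsScalarTower R S N] {s : S}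
    (hs : ∀ x : FlatCA.fiberMod (IsLocalRing.maximalIdeal R) S N, s • x = 0 → x = 0) :
    IsSMulRegular (N ⧸ (IsLocalRing.maximalIdeal R).map (algebraMap R S) • (⊤ : Submodule S N)) s := by
  rw [isSMulRegular_iff_right_eq_zero_of_smul]
  intro z hz
  obtain ⟨n, rfl⟩ := Submodule.Quotient.mk_surjective _ z
  rw [← Submodule.Quotient.mk_smul, Submodule.Quotient.mk_eq_zero] at hz
  have h0 := hs (FlatCA.toFiberMod (IsLocalRing.maximalIdeal R) (S := S) N n) (by
    rw [← map_smul]; exact AssFiber.toFiberMod_eq_zero_of_mem _ N hz)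
  obtain ⟨r, hr, hmem⟩ := (PurityBC.toFiberMod_eq_zero_iff _ N n).1 h0
  rw [Submodule.Quotient.mk_eq_zero]
  have hu : IsUnit r := by_contra fun hu => hr hu
  have h1 := Submodule.smul_mem _ ((hu.unit⁻¹ : Rˣ) : R) hmem
  rw [smul_smul, hu.val_inv_mul, one_smul] at h1
  exact AssFiber.smul_mem_pN _ N h1

/-- An element with vanishing image in a flat base change has annihilator generating the unit ideal. -/
theorem map_annihilator_eq_top {S S' M : Type u} [CommRing S] [CommRing S'] [Algebra S S'] [Module.Flat S S']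
    [AddCommGroup M] [Module S M] {z : M} (hz : (1 : S') ⊗ₜ[S] z = 0) :
    (WeakAss.annEl S z).map (algebraMap S S') = ⊤ := by
  let J := WeakAss.annEl S z
  let ι : (S ⧸ J) →ₗ[S] M := Submodule.liftQ J (LinearMap.toSpanSingleton S M z) fun x hx => WeakAss.mem_annEl.1 hx
  have hι : Function.Injective ι := by
    rw [← LinearMap.ker_eq_bot]
    exact Submodule.ker_liftQ_eq_bot _ _ _ fun x hx => WeakAss.mem_annEl.2 hx
  have hinj := Module.Flat.lTensor_preserves_injective_linearMap (M := S') ι hι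
  have h1 : (1 : S') ⊗ₜ[S] (Submodule.Quotient.mk 1 : S ⧸ J) = 0 := by
    apply hinj
    rw [LinearMap.lTensor_tmul, map_zero, show ι (Submodule.Quotient.mk 1) = z from one_smul S z]
    exact hz
  have h2 := congrArg (TensorProduct.tensorQuotEquivQuotSMul S' J) h1
  rw [map_zero, show (Submodule.Quotient.mk 1 : S ⧸ J) = Ideal.Quotient.mk J 1 from rfl, TensorProduct.tensorQuotEquivQuotSMul_tmul_mk, one_smul,
    Submodule.Quotient.mk_eq_zero, Ideal.smul_top_eq_map] at h2
  exact (Ideal.eq_top_iff_one _).2 h2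

end Groth.Agent.ZClosLib.NzdUnivInj
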