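import Mathlib
import Groth.Agent.ZClosLib.PurityDescent
import Groth.Agent.ZClosLib.NzdAssoc

/-!
# Impurities along quasi-finite maps
-/

set_option autoImplicit false
set_option linter.style.haveILetI false

universe u

open TensorProduct

namespace Groth.Agent.ZClosLib.PurityQF

attribute [local instance] Algebra.TensorProduct.rightAlgebra

section Fiber

variable {R S : Type u} [CommRing R] [CommRing S] [Algebra R S] (p : Ideal R) [p.IsPrime]
  (N : Type u) [AddCommGroup N] [Module S N] [Module R N] [IsScalarTower R S N]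

theorem one_tmul_eq_zero_iff (n : N) :
    (1 : p.ResidueField) ⊗ₜ[R] n = 0 ↔ FlatCA.toFiberMod p (S := S) N n = 0 := by
  refine ⟨PurityBC.toFiberMod_eq_zero_of_one_tmul p N n, fun h => ?_⟩
  obtain ⟨r, hr, hmem⟩ := (PurityBC.toFiberMod_eq_zero_iff p N n).1 h
  have h0 : (1 : p.ResidueField) ⊗ₜ[R] (r • n) = 0 := by
    refine Submodule.smul_induction_on hmem (fun a ha y _ => ?_) (fun a b ha hb => ?_)
    · rw [← smul_tmul, Algebra.smul_def, Ideal.algebraMap_residueField_eq_zero.2 ha, zero_mul, zero_tmul]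
    · rw [tmul_add, ha, hb, add_zero]
  rw [tmul_smul, ← algebraMap_smul p.ResidueField r,
    smul_eq_zero_iff_right (fun h' => hr (Ideal.algebraMap_residueField_eq_zero.1 h'))] at h0
  exact h0

/-- Up to a scalar outside `p` every element of `κ(p) ⊗ N` is elementary. -/
theorem exists_smul_eq_one_tmul {N : Type u} [AddCommGroup N] [Module R N] (x : p.ResidueField ⊗[R] N) :
    ∃ r ∉ p, ∃ m : N, r • x = (1 : p.ResidueField) ⊗ₜ[R] m := by
  induction x using TensorProduct.induction_on with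
  | zero => exact ⟨1, fun h => ‹p.IsPrime›.ne_top ((Ideal.eq_top_iff_one _).2 h), 0, by simp⟩
  | tmul c m =>
    haveI := AssFiber.isLocalizedModule_residueField p
    obtain ⟨⟨a, r⟩, hra⟩ := IsLocalizedModule.surj p.primeCompl
      ((Algebra.linearMap (R ⧸ p) p.ResidueField).restrictScalars R) c
    obtain ⟨a, rfl⟩ := Ideal.Quotient.mk_surjective a
    refine ⟨r, r.2, a • m, ?_⟩
    rw [smul_tmul', ← Submonoid.smul_def, hra, ← smul_tmul]
    congr 1
    rw [Algebra.smul_def, mul_one]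
    exact (IsScalarTower.algebraMap_apply R (R ⧸ p) p.ResidueField a).symm
  | add a b ha hb =>
    obtain ⟨r, hr, m, hm⟩ := ha
    obtain ⟨r', hr', m', hm'⟩ := hb
    refine ⟨r * r', fun h => (‹p.IsPrime›.mem_or_mem h).elim hr hr', r' • m + r • m', ?_⟩
    rw [smul_add, tmul_add, tmul_smul, tmul_smul, ← hm, ← hm', smul_smul, smul_smul, mul_comm r' r]

end Fiber

/-- A point of the relative assassin of a base change maps into the relative assassin. -/
theorem assoc_contract {A C B B' : Type u} [CommRing A] [CommRing C] [CommRing B] [CommRing B']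
    [Algebra A C] [Algebra A B] [Algebra B B'] [Algebra C B'] [Algebra A B'] [IsScalarTower A B B']
    [IsScalarTower A C B'] [Algebra.FiniteType A B]
    {N N' : Type u} [AddCommGroup N] [Module B N] [Module A N] [IsScalarTower A B N]
    [AddCommGroup N'] [Module B' N'] [Module C N'] [IsScalarTower C B' N'] [Module B N']
    [IsScalarTower B B' N'] [Module A N'] [IsScalarTower A C N'] [IsScalarTower A B N']
    (g : N →ₗ[B] N') (hg : IsBaseChange C (g.restrictScalars A))
    (s : Ideal A) [s.IsPrime] (s' : Ideal C) [s'.IsPrime] [hs : s'.LiesOver s]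
    (P : Ideal B') [P.IsPrime] [hP : P.LiesOver s']
    (hass : FlatCA.fiberIdeal s' P ∈ associatedPrimes (s'.Fiber B') (FlatCA.fiberMod s' B' N')) :
    (P.comap (algebraMap B B')).LiesOver s ∧
    FlatCA.fiberIdeal s (P.comap (algebraMap B B')) ∈ associatedPrimes (s.Fiber B) (FlatCA.fiberMod s B N) := by
  classical
  set P₁ := P.comap (algebraMap B B') with hP₁
  haveI hover : P₁.LiesOver s := ⟨by
    rw [Ideal.under_def, hP₁, Ideal.comap_comap, ← IsScalarTower.algebraMap_eq, IsScalarTower.algebraMap_eq A C B',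
      ← Ideal.comap_comap]
    show s = (P.under C).under A
    rw [← hP.over, ← hs.over]⟩
  refine ⟨hover, ?_⟩
  obtain ⟨hQp, x, hx⟩ := hass
  haveI := AssFiber.isLocalizedModule_quotToFiber s' (S := B') N'
  obtain ⟨⟨y, ⟨_, r₀, hr₀, rfl⟩⟩, hy⟩ :=
    IsLocalizedModule.surj (Algebra.algebraMapSubmonoid B' s'.primeCompl) (AssFiber.quotToFiber s' (S := B') N') x
  obtain ⟨n, rfl⟩ := Submodule.Quotient.mk_surjective _ y
  have hy' : algebraMap B' (s'.Fiber B') (algebraMap C B' r₀) • x = FlatCA.toFiberMod s' (S := B') N' n := by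
    rw [AssFiber.algebraMap_smul_fiberMod]; exact hy
  -- annihilator of the class of `n`
  have hcomap : (FlatCA.fiberIdeal s' P).comap (algebraMap B' (s'.Fiber B')) = P := by
    obtain ⟨⟨Q, hQ1⟩, hQ2⟩ := NzdUnivInj.exists_prime_fiber s' P
    rw [← FibAssIdeal.eq_fiberIdeal s' hQ2]
    exact hQ2
  have hn : ∀ b : B', (b ∈ P → ∃ k : ℕ, FlatCA.toFiberMod s' (S := B') N' (b ^ k • n) = 0) ∧
      (FlatCA.toFiberMod s' (S := B') N' (b • n) = 0 → b ∈ P) := by
    intro b
    refine ⟨fun hb => ?_, fun hb => ?_⟩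
    · have h1 : algebraMap B' (s'.Fiber B') b ∈ FlatCA.fiberIdeal s' P := Ideal.mem_map_of_mem _ hb
      rw [hx] at h1
      obtain ⟨k, hk⟩ := h1
      refine ⟨k, ?_⟩
      rw [Submodule.mem_colon_singleton, Submodule.mem_bot] at hk
      rw [map_smul, ← AssFiber.algebraMap_smul_fiberMod, ← hy', map_pow, smul_comm, hk, smul_zero]
    · rw [← hcomap, Ideal.mem_comap, hx]
      rw [map_smul, ← AssFiber.algebraMap_smul_fiberMod, ← hy', smul_comm] at hb
      refine Ideal.le_radical ?_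
      rw [Submodule.mem_colon_singleton, Submodule.mem_bot]
      exact (PurityBC.isUnit_algebraMap_fiber s' hr₀).smul_eq_zero.1 hb
  -- pass to `κ(s') ⊗ N`
  let L := s'.ResidueField
  let Φ : N' →ₗ[C] L ⊗[A] N := (hg.tensorEquiv L).toLinearMap.restrictScalars C ∘ₗ TensorProduct.mk C L N' 1
  have hΦ0 : ∀ m : N', Φ m = 0 ↔ FlatCA.toFiberMod s' (S := B') N' m = 0 := fun m => by
    rw [← one_tmul_eq_zero_iff s' N' m]
    exact (hg.tensorEquiv L).map_eq_zero_iff
  have hΦg : ∀ m : N, Φ (g m) = (1 : L) ⊗ₜ[A] m := fun m => by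
    show hg.tensorEquiv L ((1 : L) ⊗ₜ[C] g m) = _
    rw [← LinearEquiv.eq_symm_apply]
    simp [IsBaseChange.tensorEquiv, IsBaseChange.equiv_symm_apply]
  let μ : B → N →ₗ[A] N := fun b => (LinearMap.lsmul B N b).restrictScalars A
  have hΦb : ∀ (b : B) (m : N'), Φ (b • m) = (μ b).lTensor L (Φ m) := by
    intro b m
    induction m using hg.inductionOn with
    | zero => simp
    | tmul m =>
      show Φ (b • g m) = (μ b).lTensor L (Φ (g m))
      rw [← map_smul g, hΦg, hΦg, LinearMap.lTensor_tmul]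
      rfl
    | smul c m hm =>
      have h1 : ∀ w : L ⊗[A] N, (μ b).lTensor L (c • w) = c • (μ b).lTensor L w := by
        intro w
        induction w using TensorProduct.induction_on with
        | zero => simp
        | tmul l m => rfl
        | add a a' ha ha' => simp only [smul_add, map_add, ha, ha']
      have h2 : b • (c • m) = c • (b • m) := by
        rw [← algebraMap_smul B' c m, ← algebraMap_smul B' c (b • m), ← algebraMap_smul B' b, ← algebraMap_smul B' b m,
          smul_comm]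
      rw [h2, Φ.map_smul, Φ.map_smul, hm, h1]
    | add a a' ha ha' => rw [smul_add, map_add, map_add, map_add, ha, ha']
  let v := Φ n
  have hv1 : ∀ a ∈ P₁, ∃ k : ℕ, (μ (a ^ k)).lTensor L v = 0 := by
    intro a ha
    obtain ⟨k, hk⟩ := (hn _).1 ha
    refine ⟨k, ?_⟩
    rw [← hΦb, hΦ0, ← algebraMap_smul B' (a ^ k), map_pow]
    exact hk
  have hv2 : ∀ b : B, (μ b).lTensor L v = 0 → b ∈ P₁ := by
    intro b hb
    rw [← hΦb, hΦ0, ← algebraMap_smul B' b] at hb
    exact (hn _).2 hb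
  -- coordinates over `κ(s)`
  let K := s.ResidueField
  letI : Algebra K L := (Ideal.ResidueField.mapₐ s s' (Algebra.ofId A C) hs.over).toRingHom.toAlgebra
  haveI : IsScalarTower A K L :=
    IsScalarTower.of_algebraMap_eq' ((Ideal.ResidueField.mapₐ s s' (Algebra.ofId A C) hs.over).comp_algebraMap).symm
  let bas := Module.Free.chooseBasis K L
  let E : L ⊗[A] N →ₗ[A] (Module.Free.ChooseBasisIndex K L →₀ K ⊗[A] N) :=
    (TensorProduct.finsuppLeft A A K N _).toLinearMap ∘ₗ ((bas.repr.toLinearMap.restrictScalars A).rTensor N)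
  have hEinj : Function.Injective E :=
    (TensorProduct.finsuppLeft A A K N _).injective.comp
      (LinearEquiv.rTensor N (bas.repr.restrictScalars A)).injective
  have hE : ∀ (b : B) (w : L ⊗[A] N) i, E ((μ b).lTensor L w) i = (μ b).lTensor K (E w i) := by
    intro b w i
    induction w using TensorProduct.induction_on with
    | zero => simp
    | tmul l m => simp [E, TensorProduct.finsuppLeft_apply_tmul_apply]
    | add a a' ha ha' => simp only [map_add, Finsupp.add_apply, ha, ha']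
  obtain ⟨i, hi⟩ : ∃ i, ∀ b : B, (μ b).lTensor K (E v i) = 0 → b ∈ P₁ := by
    by_contra hcon
    push Not at hcon
    choose b hb hbP using hcon
    let β := ∏ i ∈ (E v).support, b i
    have hβ : β ∉ P₁ := fun h => by
      obtain ⟨i, _, h⟩ := (Ideal.IsPrime.prod_mem_iff (p := P₁)).1 h
      exact hbP i h
    refine hβ (hv2 β (hEinj ?_))
    rw [map_zero]
    ext i
    rw [hE, Finsupp.zero_apply]
    by_cases hi : i ∈ (E v).support
    · obtain ⟨c, hc⟩ := Finset.dvd_prod_of_mem b hi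
      have : μ β = μ c ∘ₗ μ (b i) := LinearMap.ext fun m => by
        show β • m = c • b i • m
        rw [smul_smul, mul_comm c]; exact congrArg (· • m) hc
      rw [this, LinearMap.lTensor_comp_apply, hb, map_zero]
    · rw [Finsupp.notMem_support_iff.1 hi, map_zero]
  obtain ⟨r, hr, m, hm⟩ := exists_smul_eq_one_tmul s (E v i)
  have hm1 : ∀ a ∈ P₁, ∃ k : ℕ, FlatCA.toFiberMod s (S := B) N (a ^ k • m) = 0 := by
    intro a ha
    obtain ⟨k, hk⟩ := hv1 a ha
    refine ⟨k, (one_tmul_eq_zero_iff s N _).1 ?_⟩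
    show (μ (a ^ k)).lTensor K ((1 : K) ⊗ₜ m) = 0
    rw [← hm, map_smul, ← hE, hk, map_zero, Finsupp.zero_apply, smul_zero]
  have hm2 : ∀ b : B, FlatCA.toFiberMod s (S := B) N (b • m) = 0 → b ∈ P₁ := by
    intro b hb
    refine hi b ?_
    have h1 := (one_tmul_eq_zero_iff s N _).2 hb
    change (μ b).lTensor K ((1 : K) ⊗ₜ m) = 0 at h1
    rw [← hm, map_smul, ← algebraMap_smul K r, smul_eq_zero_iff_right
      (fun h' => hr (Ideal.algebraMap_residueField_eq_zero.1 h'))] at h1
    exact h1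
  -- conclude in the fibre
  let y₁ := FlatCA.toFiberMod s (S := B) N m
  let I := WeakAss.annEl (s.Fiber B) y₁
  haveI := NzdUnivInj.isPrime_fiberIdeal s P₁
  haveI : IsNoetherianRing (s.Fiber B) := Algebra.FiniteType.isNoetherianRing s.ResidueField _
  have hcomap₁ : (FlatCA.fiberIdeal s P₁).comap (algebraMap B (s.Fiber B)) = P₁ := by
    obtain ⟨⟨Q, hQ1⟩, hQ2⟩ := NzdUnivInj.exists_prime_fiber s P₁
    rw [← FibAssIdeal.eq_fiberIdeal s hQ2]
    exact hQ2
  have hle : I ≤ FlatCA.fiberIdeal s P₁ := by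
    intro z hz
    obtain ⟨ρ, hρ, b, hb⟩ := AssFiber.exists_smul_eq_includeRight s z
    have hb' : algebraMap B (s.Fiber B) b = algebraMap B (s.Fiber B) (algebraMap A B ρ) * z := hb.symm
    have h1 : FlatCA.toFiberMod s (S := B) N (b • m) = 0 := by
      rw [map_smul, ← AssFiber.algebraMap_smul_fiberMod, hb', mul_smul, WeakAss.mem_annEl.1 hz, smul_zero]
    have h2 : algebraMap B (s.Fiber B) b ∈ FlatCA.fiberIdeal s P₁ := Ideal.mem_map_of_mem _ (hm2 b h1)
    rw [hb'] at h2
    exact (Ideal.unit_mul_mem_iff_mem _ (PurityBC.isUnit_algebraMap_fiber s hρ)).1 h2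
  have hmin : FlatCA.fiberIdeal s P₁ ∈ I.minimalPrimes := by
    refine ⟨⟨inferInstance, hle⟩, fun q hq _ => ?_⟩
    refine Ideal.map_le_iff_le_comap.2 fun a ha => ?_
    obtain ⟨k, hk⟩ := hm1 a ha
    refine Ideal.mem_comap.2 (hq.1.mem_of_pow_mem k (hq.2 (WeakAss.mem_annEl.2 ?_)))
    show algebraMap B (s.Fiber B) a ^ k • y₁ = 0
    rw [← map_pow, AssFiber.algebraMap_smul_fiberMod, ← map_smul]
    exact hk
  exact FibAssIdeal.mem_associatedPrimes_of_mem_ass (WeakAss.mem_ass_of_mem_weakAss_of_fg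
    (IsNoetherian.noetherian _) (WeakAss.mem_weakAss_iff.2 ⟨y₁, hmin⟩))

/-- An impurity over a finite algebra with one point above `r` gives one over the base. -/
theorem descend_finite {A B : Type u} [CommRing A] [CommRing B] [Algebra A B] [Algebra.FiniteType A B]
    {N : Type u} [AddCommGroup N] [Module B N] {p : Ideal A} [p.IsPrime]
    (R B₁ N₁ : Type u) [CommRing R] [CommRing B₁] [Algebra A R] [Algebra B B₁] [Algebra R B₁] [Algebra A B₁]
    [IsScalarTower A B B₁] [IsScalarTower A R B₁] [h₁ : Algebra.IsPushout A B R B₁]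
    [AddCommGroup N₁] [Module B₁ N₁] [Module B N₁] [IsScalarTower B B₁ N₁] [Module R N₁] [IsScalarTower R B₁ N₁]
    (f₁ : N →ₗ[B] N₁) (hf₁ : IsBaseChange B₁ f₁) (r : Ideal R) [r.IsPrime] [r.LiesOver p]
    {C B' N' : Type u} [CommRing C] [CommRing B'] [Algebra R C] [Module.Finite R C] [Algebra C B'] [Algebra B₁ B']
    [Algebra R B'] [IsScalarTower R C B'] [IsScalarTower R B₁ B'] [h₂ : Algebra.IsPushout R B₁ C B']
    [AddCommGroup N'] [Module B' N'] [Module B₁ N'] [IsScalarTower B₁ B' N'] [Module C N'] [IsScalarTower C B' N']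
    (g : N₁ →ₗ[B₁] N') (hg : IsBaseChange B' g) (s' s : Ideal C) [s'.IsPrime] [s.IsPrime]
    (hss : s' ≤ s) [hs : s.LiesOver r] (huniq : ∀ Q : Ideal C, Q.IsPrime → Q.LiesOver r → Q = s)
    (P : Ideal B') [P.IsPrime] [hP : P.LiesOver s']
    (hass : FlatCA.fiberIdeal s' P ∈ associatedPrimes (s'.Fiber B') (FlatCA.fiberMod s' B' N'))
    (hno : ∀ (P' : Ideal B') [P'.IsPrime], P ≤ P' → ¬ P'.LiesOver s) :
    ∃ (r' : Ideal R) (_ : r'.IsPrime) (P₁ : Ideal B₁) (_ : P₁.IsPrime),
      FlatCA.IsImpurity A B N p R B₁ N₁ f₁ r' r P₁ := by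
  letI : Module R N' := Module.compHom N' (algebraMap R C)
  haveI : IsScalarTower R C N' := IsScalarTower.of_algebraMap_smul fun _ _ => rfl
  haveI : IsScalarTower R B' N' := IsScalarTower.of_algebraMap_smul fun x m => by
    show algebraMap R B' x • m = algebraMap R C x • m
    rw [IsScalarTower.algebraMap_apply R C B', algebraMap_smul]
  haveI : IsScalarTower R B₁ N' := IsScalarTower.to₁₂₄ R B₁ B' N'
  haveI : Algebra.FiniteType R B₁ := PurityBC.finiteType_of_isPushout A B R B₁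
  haveI : (s'.under R).IsPrime := inferInstance
  haveI : s'.LiesOver (s'.under R) := ⟨rfl⟩
  haveI : Algebra.IsPushout R C B₁ B' := h₂.symm
  obtain ⟨hover, hass₁⟩ := assoc_contract (A := R) (C := C) g (QCart13.isBaseChange_of_pushout g hg)
    (s'.under R) s' P hass
  haveI : Module.Finite B₁ B' := Module.Finite.equiv h₂.out.equiv
  refine ⟨s'.under R, inferInstance, P.comap (algebraMap B₁ B'), inferInstance, h₁, hf₁,
    (Ideal.comap_mono hss).trans hs.over.ge, inferInstance, hover, hass₁, fun P' hP' hle hP'r => ?_⟩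
  haveI : Algebra.IsIntegral B₁ B' := Algebra.IsIntegral.of_finite B₁ B'
  obtain ⟨Q, hPQ, hQ, hQP⟩ := Ideal.exists_ideal_over_prime_of_isIntegral P' P hle
  refine hno Q hPQ ⟨(huniq (Q.under C) inferInstance ⟨?_⟩).symm⟩
  rw [Ideal.under_def, Ideal.under_def, Ideal.comap_comap, ← IsScalarTower.algebraMap_eq,
    IsScalarTower.algebraMap_eq R B₁ B', ← Ideal.comap_comap, hQP]
  exact hP'r.over

/-- An impurity transported to given models over a finite algebra over an étale neighbourhood contradicts purity. -/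
theorem not_impurity_over_models {A B : Type u} [CommRing A] [CommRing B] [Algebra A B] [Algebra.FiniteType A B]
    {N : Type u} [AddCommGroup N] [Module B N] {p : Ideal A} [p.IsPrime] (h : FlatCA.IsPureAlong A B N p)
    {A₁ B₁ N₁ : Type u} [CommRing A₁] [CommRing B₁] [Algebra A A₁] [Algebra B B₁] [Algebra A₁ B₁]
    [Algebra A B₁] [IsScalarTower A B B₁] [IsScalarTower A A₁ B₁] [AddCommGroup N₁] [Module B₁ N₁]
    [Module B N₁] [IsScalarTower B B₁ N₁] [Module A₁ N₁] [IsScalarTower A₁ B₁ N₁]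
    {f₁ : N →ₗ[B] N₁} {t' t : Ideal A₁} [t'.IsPrime] [t.IsPrime] {P : Ideal B₁} [P.IsPrime]
    (himp : FlatCA.IsImpurity A B N p A₁ B₁ N₁ f₁ t' t P)
    (R B₂ N₂ : Type u) [CommRing R] [CommRing B₂] [Algebra A R] [Algebra B B₂] [Algebra R B₂] [Algebra A B₂]
    [IsScalarTower A B B₂] [IsScalarTower A R B₂] [hpush₂ : Algebra.IsPushout A B R B₂]
    [AddCommGroup N₂] [Module B₂ N₂] [Module B N₂] [IsScalarTower B B₂ N₂] [Module R N₂] [IsScalarTower R B₂ N₂]
    (f₂ : N →ₗ[B] N₂) (hf₂ : IsBaseChange B₂ f₂) (r : Ideal R) [r.IsPrime] [r.LiesOver p]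
    (het : FlatCA.IsEtaleNhd A R p r)
    (C : Type u) [CommRing C] [Algebra A C] [Algebra R C] [IsScalarTower A R C] [Algebra A₁ C] [IsScalarTower A A₁ C]
    [Module.Finite R C] (s' s : Ideal C) [s'.IsPrime] [s.IsPrime] [s'.LiesOver t'] [s.LiesOver t] [s.LiesOver r]
    (hss : s' ≤ s) (huniq : ∀ Q : Ideal C, Q.IsPrime → Q.LiesOver r → Q = s) 
    (B' N' : Type u) [CommRing B'] [Algebra C B'] [Algebra B₂ B'] [Algebra R B'] [IsScalarTower R C B']
    [IsScalarTower R B₂ B'] [Algebra B B'] [IsScalarTower B B₂ B'] [Algebra A B'] [IsScalarTower A B B']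
    [IsScalarTower A C B'] [IsScalarTower A B₂ B'] [hpushC : Algebra.IsPushout R B₂ C B']
    [AddCommGroup N'] [Module B' N'] [Module B₂ N'] [IsScalarTower B₂ B' N'] [Module C N'] [IsScalarTower C B' N']
    [Module B N'] [IsScalarTower B B₂ N'] [IsScalarTower B B' N']
    (g : N₂ →ₗ[B₂] N') (hg : IsBaseChange B' g) : False := by
  haveI hpush' : Algebra.IsPushout A B C B' := PurityBC.isPushout_comp A B R B₂ C B' hpush₂ hpushC
  obtain ⟨Q, _, -, -, -, -, hQ, hass, hno⟩ := PurityBC.IsImpurity.propagate himp C B' N'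
    (g.restrictScalars B ∘ₗ f₂) (hf₂.comp hg) s' s hss
  haveI := hQ
  obtain ⟨r', _, P₁, _, h₁⟩ := descend_finite (A := A) (p := p) R B₂ N₂ f₂ hf₂ r g hg s' s hss huniq Q hass hno
  exact h R B₂ N₂ f₂ r' r P₁ het h₁

/-- An impurity transported to a finite algebra over an étale neighbourhood contradicts purity. -/
theorem not_impurity_over_finite {A B : Type u} [CommRing A] [CommRing B] [Algebra A B] [Algebra.FiniteType A B]
    {N : Type u} [AddCommGroup N] [Module B N] {p : Ideal A} [p.IsPrime] (h : FlatCA.IsPureAlong A B N p)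
    {A₁ B₁ N₁ : Type u} [CommRing A₁] [CommRing B₁] [Algebra A A₁] [Algebra B B₁] [Algebra A₁ B₁]
    [Algebra A B₁] [IsScalarTower A B B₁] [IsScalarTower A A₁ B₁] [AddCommGroup N₁] [Module B₁ N₁]
    [Module B N₁] [IsScalarTower B B₁ N₁] [Module A₁ N₁] [IsScalarTower A₁ B₁ N₁]
    {f₁ : N →ₗ[B] N₁} {t' t : Ideal A₁} [t'.IsPrime] [t.IsPrime] {P : Ideal B₁} [P.IsPrime]
    (himp : FlatCA.IsImpurity A B N p A₁ B₁ N₁ f₁ t' t P)
    (R B₂ N₂ : Type u) [CommRing R] [CommRing B₂] [Algebra A R] [Algebra B B₂] [Algebra R B₂] [Algebra A B₂]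
    [IsScalarTower A B B₂] [IsScalarTower A R B₂] [hpush₂ : Algebra.IsPushout A B R B₂]
    [AddCommGroup N₂] [Module B₂ N₂] [Module B N₂] [IsScalarTower B B₂ N₂] [Module R N₂] [IsScalarTower R B₂ N₂]
    (f₂ : N →ₗ[B] N₂) (hf₂ : IsBaseChange B₂ f₂) (r : Ideal R) [r.IsPrime] [r.LiesOver p]
    (het : FlatCA.IsEtaleNhd A R p r)
    (C : Type u) [CommRing C] [Algebra A C] [Algebra R C] [IsScalarTower A R C] [Algebra A₁ C] [IsScalarTower A A₁ C]
    [Module.Finite R C] (s' s : Ideal C) [s'.IsPrime] [s.IsPrime] [s'.LiesOver t'] [s.LiesOver t] [s.LiesOver r]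
    (hss : s' ≤ s) (huniq : ∀ Q : Ideal C, Q.IsPrime → Q.LiesOver r → Q = s) : False := by
  haveI hpushC : Algebra.IsPushout R B₂ C (C ⊗[R] B₂) := Algebra.IsPushout.symm inferInstance
  letI : Algebra B (C ⊗[R] B₂) := ((algebraMap B₂ (C ⊗[R] B₂)).comp (algebraMap B B₂)).toAlgebra
  haveI : IsScalarTower B B₂ (C ⊗[R] B₂) := IsScalarTower.of_algebraMap_eq fun _ => rfl
  haveI : IsScalarTower A B₂ (C ⊗[R] B₂) := IsScalarTower.of_algebraMap_eq fun x => by
    rw [IsScalarTower.algebraMap_apply A R B₂, ← IsScalarTower.algebraMap_apply R B₂ (C ⊗[R] B₂),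
      IsScalarTower.algebraMap_apply R C (C ⊗[R] B₂), ← IsScalarTower.algebraMap_apply A R C,
      ← IsScalarTower.algebraMap_apply A C (C ⊗[R] B₂)]
  haveI : IsScalarTower A B (C ⊗[R] B₂) := IsScalarTower.of_algebraMap_eq fun x => by
    rw [IsScalarTower.algebraMap_apply B B₂ (C ⊗[R] B₂), ← IsScalarTower.algebraMap_apply A B B₂,
      ← IsScalarTower.algebraMap_apply A B₂ (C ⊗[R] B₂)]
  haveI : IsScalarTower B B₂ ((C ⊗[R] B₂) ⊗[B₂] N₂) := TensorProduct.isScalarTower_left
  haveI : IsScalarTower B (C ⊗[R] B₂) ((C ⊗[R] B₂) ⊗[B₂] N₂) := TensorProduct.isScalarTower_left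
  exact not_impurity_over_models h himp R B₂ N₂ f₂ hf₂ r het C s' s hss huniq (C ⊗[R] B₂) ((C ⊗[R] B₂) ⊗[B₂] N₂)
    (TensorProduct.mk B₂ (C ⊗[R] B₂) N₂ 1) (TensorProduct.isBaseChange B₂ N₂ (C ⊗[R] B₂))

/-- Purity passes to étale neighbourhoods of quasi-finite points. -/
theorem not_impurity_of_quasiFiniteAt {A B : Type u} [CommRing A] [CommRing B] [Algebra A B] [Algebra.FiniteType A B]
    {N : Type u} [AddCommGroup N] [Module B N] {p : Ideal A} [p.IsPrime] (h : FlatCA.IsPureAlong A B N p)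
    {A₁ B₁ N₁ : Type u} [CommRing A₁] [CommRing B₁] [Algebra A A₁] [Algebra B B₁] [Algebra A₁ B₁]
    [Algebra A B₁] [IsScalarTower A B B₁] [IsScalarTower A A₁ B₁] [AddCommGroup N₁] [Module B₁ N₁]
    [Module B N₁] [IsScalarTower B B₁ N₁] [Module A₁ N₁] [IsScalarTower A₁ B₁ N₁]
    {f₁ : N →ₗ[B] N₁} {t' t : Ideal A₁} [t'.IsPrime] [t.IsPrime] {P : Ideal B₁} [P.IsPrime]
    [Algebra.FiniteType A A₁] [Algebra.QuasiFiniteAt A t]
    (himp : FlatCA.IsImpurity A B N p A₁ B₁ N₁ f₁ t' t P) : False := by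
  haveI : t.LiesOver p := himp.2.2.2.1
  obtain ⟨R, _, _, _, r, _, _, e, he, P', _, _, hP't, heP', hbij, hfin, huniq⟩ :=
    Algebra.exists_etale_isIdempotentElem_forall_liesOver_eq (R := A) p t
  let A₂ := R ⊗[A] A₁
  haveI : P'.LiesOver t := ⟨hP't.symm⟩
  haveI : Algebra.IsPushout A A₁ R A₂ := Algebra.IsPushout.symm inferInstance
  haveI : Module.Flat A (Localization.AtPrime r) := Module.Flat.trans A R _
  haveI := PurityBC.flat_localization_of_isPushout (A := A) (A₁ := A₁) r P'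
  obtain ⟨t₂', _, ht₂', hle⟩ := PurityBC.exists_le_liesOver himp.2.2.1 P'
  let C := Localization.Away e
  let s' : Ideal C := t₂'.map (algebraMap A₂ C)
  let s : Ideal C := P'.map (algebraMap A₂ C)
  have hd : Disjoint (Submonoid.powers e : Set A₂) (P' : Set A₂) :=
    (Ideal.disjoint_powers_iff_notMem_of_isPrime e).2 heP'
  haveI : s'.IsPrime := IsLocalization.isPrime_of_isPrime_disjoint (Submonoid.powers e) C _ ‹_› (hd.mono_right hle)
  haveI : s.IsPrime := IsLocalization.isPrime_of_isPrime_disjoint (Submonoid.powers e) C _ ‹_› hd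
  have hs'c : s'.comap (algebraMap A₂ C) = t₂' :=
    IsLocalization.comap_map_of_isPrime_disjoint (Submonoid.powers e) C ‹_› (hd.mono_right hle)
  have hsc : s.comap (algebraMap A₂ C) = P' :=
    IsLocalization.comap_map_of_isPrime_disjoint (Submonoid.powers e) C ‹_› hd
  haveI : s'.LiesOver t' := ⟨by
    rw [Ideal.under_def, IsScalarTower.algebraMap_eq A₁ A₂ C, ← Ideal.comap_comap, hs'c]
    exact ht₂'.over⟩
  haveI : s.LiesOver t := ⟨by
    rw [Ideal.under_def, IsScalarTower.algebraMap_eq A₁ A₂ C, ← Ideal.comap_comap, hsc]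
    exact hP't.symm⟩
  haveI : s.LiesOver r := ⟨by
    rw [Ideal.under_def, IsScalarTower.algebraMap_eq R A₂ C, ← Ideal.comap_comap, hsc]
    exact Ideal.LiesOver.over⟩
  haveI hpush₂ : Algebra.IsPushout A B R (R ⊗[A] B) := Algebra.IsPushout.symm inferInstance
  have hss : s' ≤ s := Ideal.map_mono hle
  refine not_impurity_over_finite h himp R (R ⊗[A] B) ((R ⊗[A] B) ⊗[B] N) (TensorProduct.mk B (R ⊗[A] B) N 1)
    (TensorProduct.isBaseChange B N _) r ⟨inferInstance, inferInstance, hbij⟩ C s' s hss fun Q₁ hQ₁ hQ₁r => ?_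
  haveI := hQ₁
  have hne : e ∉ Q₁.comap (algebraMap A₂ C) := fun hmem => hQ₁.ne_top
    (Ideal.eq_top_of_isUnit_mem _ hmem (IsLocalization.Away.algebraMap_isUnit e))
  have h1 := huniq (Q₁.comap (algebraMap A₂ C)) inferInstance ⟨by
    rw [Ideal.under_def, Ideal.comap_comap, ← IsScalarTower.algebraMap_eq]; exact hQ₁r.over⟩ hne
  rw [← IsLocalization.map_comap (Submonoid.powers e) C Q₁]
  exact congrArg (Ideal.map (algebraMap A₂ C)) h1

end Groth.Agent.ZClosLib.PurityQF
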