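import Groth.Agent.ZClosLib.CohLocus
import Mathlib.RingTheory.KrullDimension.Module
import Mathlib.RingTheory.Support

/-!
# The condition `(S₂)` and the closure along codimension at least two
-/

set_option linter.style.haveILetI false

universe u

open CategoryTheory CategoryTheory.Limits AlgebraicGeometry TopologicalSpace Opposite

namespace Groth.Agent.ZClosLib

variable {X : Scheme.{u}} {F : X.Modules}

theorem dimGe_stable (n : ℕ) : StableUnderSpecialization (ZClos.dimGe X n) := fun a b hab ha => by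
  have : ringKrullDim (X.presheaf.stalk a) ≤ ringKrullDim (X.presheaf.stalk b) := by
    rw [ringKrullDim_stalk_eq_coheight, ringKrullDim_stalk_eq_coheight]
    exact WithBot.coe_le_coe.2 (Order.coheight_anti ((Scheme.le_iff_specializes).2 hab))
  exact le_trans (show ((n : ℕ) : WithBot ℕ∞) ≤ _ from ha) this

variable [IsLocallyNoetherian X] (hF : Coh.IsCoh F) (hsupp : ∀ x : X, Nontrivial (F.presheaf.stalk x))
include hF hsupp

theorem supportDim_stalk_eq (x : X) :
    Module.supportDim (X.presheaf.stalk x) (F.presheaf.stalk x) = ringKrullDim (X.presheaf.stalk x) := by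
  haveI : SheafOfModules.IsFiniteType (R := X.ringCatSheaf) F := hF.2
  haveI := FDescent.finite_stalk F x
  have huniv : Module.support (X.presheaf.stalk x) (F.presheaf.stalk x) = Set.univ := by
    refine Set.eq_univ_of_forall fun q => ?_
    rw [Module.mem_support_iff_exists_annihilator]
    obtain ⟨V, hV, hxV, -⟩ := exists_isAffineOpen_mem_and_subset (x := x) (U := ⊤) trivial
    letI := QCoh.stalkAlg (X := X) hxV
    letI := QCoh.stalkModule F hxV
    haveI := QCoh.isLocalization_stalk' hV hxV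
    obtain ⟨y, hyV, hy⟩ := QCoh.exists_point hV
      ⟨q.asIdeal.comap (X.presheaf.germ V x hxV).hom, Ideal.comap_isPrime _ _⟩
    letI := QCoh.stalkModule F hyV
    haveI := QCoh.isLocalizedModule_germLin hF.1 hV hyV
    obtain ⟨z, hz⟩ := (hsupp y).exists_pair_ne
    obtain ⟨m, hm⟩ : ∃ m : Γ(F, V), F.presheaf.germ V y hyV m ≠ 0 := by
      by_contra hall
      push Not at hall
      have hzero : ∀ w : F.presheaf.stalk y, w = 0 := fun w => by
        obtain ⟨⟨m, s⟩, hw⟩ := IsLocalizedModule.surj (hV.primeIdealOf ⟨y, hyV⟩).asIdeal.primeCompl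
          (QCoh.germLin F hyV) w
        have : s • w = 0 := hw.trans (hall m)
        exact IsLocalizedModule.smul_injective (QCoh.germLin F hyV) s (this.trans (smul_zero s).symm)
      obtain ⟨w, hw⟩ := hz
      exact hw ((hzero _).trans (hzero _).symm)
    refine ⟨F.presheaf.germ V x hxV m, fun c hc => by_contra fun hcq => hm ?_⟩
    rw [Submodule.mem_annihilator_span_singleton] at hc
    obtain ⟨⟨a, s⟩, hs⟩ := IsLocalization.surj (hV.primeIdealOf ⟨x, hxV⟩).asIdeal.primeCompl c
    have h1 : F.presheaf.germ V x hxV (a • m) = 0 := by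
      rw [QCoh.germ_smul', show X.presheaf.germ V x hxV a = algebraMap Γ(X, V) (X.presheaf.stalk x) a from rfl,
        ← hs, mul_comm, mul_smul, hc, smul_zero]
    obtain ⟨t, ht, ht0⟩ := (QCoh.germ_eq_zero_iff hF.1 hV hxV _).1 h1
    have hp : ∀ r : Γ(X, V), r ∈ (hV.primeIdealOf ⟨y, hyV⟩).asIdeal ↔ algebraMap Γ(X, V) (X.presheaf.stalk x) r ∈ q.asIdeal :=
      fun r => by rw [hy]; rfl
    refine (QCoh.germ_eq_zero_iff hF.1 hV hyV m).2 ⟨t * a, (QCoh.mem_basicOpen_iff_notMem hV hyV _).2 fun hta => ?_,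
      by rw [mul_smul]; exact ht0⟩
    rw [hp, map_mul] at hta
    rcases q.2.mem_or_mem hta with h | h
    · exact q.2.ne_top (Ideal.eq_top_of_isUnit_mem _ h
        (IsLocalization.map_units _ (⟨t, (QCoh.mem_basicOpen_iff_notMem hV hxV t).1 ht⟩ :
          (hV.primeIdealOf ⟨x, hxV⟩).asIdeal.primeCompl)))
    · rw [← hs] at h
      rcases q.2.mem_or_mem h with h | h
      · exact hcq h
      · exact q.2.ne_top (Ideal.eq_top_of_isUnit_mem _ h (IsLocalization.map_units _ s))
  rw [Module.supportDim, huniv]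
  exact Order.krullDim_eq_of_orderIso OrderIso.Set.univ

theorem s2_iff (hass : ∀ x ∈ AssSch.Ass F, ringKrullDim (X.presheaf.stalk x) ≠ 1) (x : X) :
    min (2 : WithBot ℕ∞) (Module.supportDim (X.presheaf.stalk x) (F.presheaf.stalk x)) ≤
        ((LocCoh.depth (X.presheaf.stalk x) (F.presheaf.stalk x) : ℕ∞) : WithBot ℕ∞) ↔
      (x ∈ ZClos.dimGe X 2 → (2 : ℕ∞) ≤ LocCoh.depth (X.presheaf.stalk x) (F.presheaf.stalk x)) := by
  rw [supportDim_stalk_eq hF hsupp x]
  constructor
  · intro h hx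
    rw [min_eq_left (show (2 : WithBot ℕ∞) ≤ _ from hx)] at h
    exact WithBot.coe_le_coe.1 h
  · intro h
    haveI : SheafOfModules.IsFiniteType (R := X.ringCatSheaf) F := hF.2
    haveI := FDescent.finite_stalk F x
    by_cases hx : x ∈ ZClos.dimGe X 2
    · exact (min_le_left _ _).trans (WithBot.coe_le_coe.2 (h hx))
    · refine (min_le_right _ _).trans ?_
      have hlt : ringKrullDim (X.presheaf.stalk x) < 2 := lt_of_not_ge hx
      by_cases hz : ringKrullDim (X.presheaf.stalk x) = 1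
      · rw [hz]
        exact WithBot.coe_le_coe.2 (Alg6.one_le_depth_iff.2 fun ha => hass x ha hz)
      · rw [ringKrullDim_stalk_eq_coheight] at hlt hz ⊢
        refine WithBot.coe_le_coe.2 (le_trans (le_of_eq ?_) zero_le)
        have h2 : Order.coheight x < (2 : ℕ∞) := WithBot.coe_lt_coe.1 hlt
        have h1 : Order.coheight x ≠ (1 : ℕ∞) := fun e => hz (by rw [e]; rfl)
        cases hc : Order.coheight x with
        | top => exact absurd (hc ▸ h2) (by simp)
        | coe n =>
          rw [hc] at h1 h2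
          norm_cast at h1 h2 ⊢
          omega

theorem min_le_depth_H0 (hass : ∀ x ∈ AssSch.Ass F, ringKrullDim (X.presheaf.stalk x) ≠ 1)
    (hH : Coh.IsCoh ((ZClos.H0 (ZClos.dimGe X 2)).obj F)) (x : X) :
    min (2 : WithBot ℕ∞) (Module.supportDim (X.presheaf.stalk x) (((ZClos.H0 (ZClos.dimGe X 2)).obj F).presheaf.stalk x)) ≤
      ((LocCoh.depth (X.presheaf.stalk x) (((ZClos.H0 (ZClos.dimGe X 2)).obj F).presheaf.stalk x) : ℕ∞) : WithBot ℕ∞) := by
  by_cases hx : x ∈ ZClos.dimGe X 2
  · exact (min_le_left _ _).trans (WithBot.coe_le_coe.2 (two_le_depth_H0 hH (dimGe_stable 2) hx))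
  · let e : F.presheaf.stalk x ≃ₗ[X.presheaf.stalk x] ((ZClos.H0 (ZClos.dimGe X 2)).obj F).presheaf.stalk x :=
      LinearEquiv.ofBijective ((DerSch.stalkFunctor X x).map (ZClos.rhoApp (ZClos.dimGe X 2) F)).hom
        (isZClosedAt_of_not_mem F hx)
    rw [← Module.supportDim_eq_of_equiv e,
      ← Alg6.depth_eq_of_semilinear (RingHom.id _) Function.surjective_id e.toAddEquiv (fun r z => map_smul e r z)]
    exact (s2_iff hF hsupp hass x).2 fun h => absurd h hx

theorem isOpen_s2 (hass : ∀ x ∈ AssSch.Ass F, ringKrullDim (X.presheaf.stalk x) ≠ 1)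
    (hH : Coh.IsCoh ((ZClos.H0 (ZClos.dimGe X 2)).obj F)) :
    IsOpen {x : X | ∀ x' : X, x' ⤳ x →
        min (2 : WithBot ℕ∞) (Module.supportDim (X.presheaf.stalk x') (F.presheaf.stalk x')) ≤
          ((LocCoh.depth (X.presheaf.stalk x') (F.presheaf.stalk x') : ℕ∞) : WithBot ℕ∞)} ∧
      ∀ x : X, (¬ ∀ x' : X, x' ⤳ x →
        min (2 : WithBot ℕ∞) (Module.supportDim (X.presheaf.stalk x') (F.presheaf.stalk x')) ≤
          ((LocCoh.depth (X.presheaf.stalk x') (F.presheaf.stalk x') : ℕ∞) : WithBot ℕ∞)) →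
        (2 : WithBot ℕ∞) ≤ ringKrullDim (X.presheaf.stalk x) := by
  obtain ⟨U, hU, hc, -⟩ := exists_closed_locus hF hH (dimGe_stable 2)
  simp only [s2_iff hF hsupp hass]
  refine ⟨hU ▸ U.2, fun x hx => hc fun hxU => hx ?_⟩
  rw [hU] at hxU
  exact hxU

end Groth.Agent.ZClosLib
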