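import Mathlib
import Groth.Agent.ZClosLib.NzdLocal
import Groth.Agent.FlatValCrit.Global

/-!
# Regular elements near a point for flat modules of finite type over a domain
-/

set_option autoImplicit false
set_option linter.style.haveILetI false

universe u

open TensorProduct MvPolynomial

namespace Groth.Agent.ZClosLib.DomainLocal

attribute [local instance] Algebra.TensorProduct.rightAlgebra

section FP

variable {R : Type u} [CommRing R] [IsDomain R] {n : ℕ} (Y : Type u) [AddCommGroup Y]
  [Module (MvPolynomial (Fin n) R) Y] [Module R Y] [IsScalarTower R (MvPolynomial (Fin n) R) Y]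
  [Module.Finite (MvPolynomial (Fin n) R) Y]

/-- A finite module over a polynomial ring over a domain is finitely presented near a point of flatness. -/
theorem finitePresentation_localized (Q : Ideal (MvPolynomial (Fin n) R)) [Q.IsPrime]
    (hflat : Module.Flat R (LocalizedModule Q.primeCompl Y)) :
    Module.FinitePresentation (Localization Q.primeCompl) (LocalizedModule Q.primeCompl Y) := by
  classical
  obtain ⟨a, π, hπ⟩ := Module.Finite.exists_fin' (MvPolynomial (Fin n) R) Y
  let e := LinearMap.quotKerEquivOfSurjective π hπ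
  have hK : Module.Flat R (LocalizedModule Q.primeCompl (FlatModel.V a n R ⧸ LinearMap.ker π)) :=
    FlatValCrit.flat_localized_of_surjective e.symm.toLinearMap e.symm.surjective _
      (fun x hx => ⟨1, one_mem _, by rw [one_smul]; exact e.symm.injective (hx.trans (map_zero _).symm)⟩) hflat
  obtain ⟨g, hg, G, hGK, hGpow, -⟩ := FlatValCrit.exists_fp_nhd (LinearMap.ker π) Q hK
  let fV := LocalizedModule.mkLinearMap Q.primeCompl (Fin a → MvPolynomial (Fin n) R)
  let fY := LocalizedModule.mkLinearMap Q.primeCompl Y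
  let L := Localization Q.primeCompl
  have hsurj : Function.Surjective (LocalizedModule.map Q.primeCompl π) := LocalizedModule.map_surjective _ π hπ
  refine Module.finitePresentation_of_surjective (LocalizedModule.map Q.primeCompl π) hsurj ?_
  have hker : LinearMap.ker (LocalizedModule.map Q.primeCompl π) =
      (Submodule.span (MvPolynomial (Fin n) R) (G : Set (FlatModel.V a n R))).localized' L Q.primeCompl fV := by
    refine le_antisymm (fun x hx => ?_) ?_
    · obtain ⟨⟨v, s⟩, hs⟩ := IsLocalizedModule.surj Q.primeCompl fV x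
      have h1 : fY (π v) = 0 := by
        rw [show fY (π v) = LocalizedModule.map Q.primeCompl π (fV v) from
            (LocalizedModule.map_mk Q.primeCompl π v 1).symm,
          ← hs, Submonoid.smul_def, LinearMap.map_smul_of_tower, LinearMap.mem_ker.1 hx, smul_zero]
      obtain ⟨c, hc⟩ := (IsLocalizedModule.eq_zero_iff Q.primeCompl fY).1 h1
      obtain ⟨k, hk⟩ := hGpow ((c : MvPolynomial (Fin n) R) • v) (by
        rw [LinearMap.mem_ker, map_smul]; exact hc)
      rw [Submodule.mem_localized']
      refine ⟨_, hk, ⟨g ^ k, fun h => hg (Ideal.IsPrime.mem_of_pow_mem ‹_› k h)⟩ * c * s, ?_⟩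
      rw [IsLocalizedModule.mk'_eq_iff, map_smul, map_smul, ← hs]
      simp [Submonoid.smul_def, mul_smul]
    · rw [Submodule.localized'_span, Submodule.span_le]
      rintro _ ⟨v, hv, rfl⟩
      show LocalizedModule.map Q.primeCompl π (fV v) = 0
      rw [LocalizedModule.mkLinearMap_apply, LocalizedModule.map_mk, LinearMap.mem_ker.1 (hGK hv), LocalizedModule.zero_mk]
  rw [hker, Submodule.localized'_span]
  exact Submodule.fg_span ((G.finite_toSet).image _)

/-- An element regular on the closed fibre near `Q` is regular near `Q`. -/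
theorem exists_smul_eq_zero_poly (p : Ideal R) [p.IsPrime] (Q : Ideal (MvPolynomial (Fin n) R)) [Q.IsPrime]
    [hQ : Q.LiesOver p] (hflat : Module.Flat R (LocalizedModule Q.primeCompl Y)) {s : MvPolynomial (Fin n) R}
    (hs : ∀ y : Y, (∃ r ∉ p, r • s • y ∈ p • (⊤ : Submodule R Y)) → ∃ g ∉ Q, ∃ r ∉ p, r • g • y ∈ p • (⊤ : Submodule R Y))
    {w : Y} (hw : s • w = 0) : ∃ c ∉ Q, c • w = 0 := by
  haveI : IsNoetherianRing (p.Fiber (MvPolynomial (Fin n) R)) := Algebra.FiniteType.isNoetherianRing p.ResidueField _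
  have hs' : ∀ r ∈ associatedPrimes (p.Fiber (MvPolynomial (Fin n) R)) (FlatCA.fiberMod p (MvPolynomial (Fin n) R) Y),
      r ≤ FlatCA.fiberIdeal p Q → algebraMap (MvPolynomial (Fin n) R) (p.Fiber (MvPolynomial (Fin n) R)) s ∉ r := by
    intro r hr hle hsr
    obtain ⟨hrp, x, hx⟩ := FibAssIdeal.mem_ass_of_mem_associatedPrimes hr
    haveI := AssFiber.isLocalizedModule_quotToFiber p (S := MvPolynomial (Fin n) R) Y
    obtain ⟨⟨y, ⟨_, r₀, hr₀, rfl⟩⟩, hy⟩ := IsLocalizedModule.surj (Algebra.algebraMapSubmonoid (MvPolynomial (Fin n) R) p.primeCompl)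
      (AssFiber.quotToFiber p (S := MvPolynomial (Fin n) R) Y) x
    obtain ⟨y, rfl⟩ := Submodule.Quotient.mk_surjective _ y
    have hy' : algebraMap (MvPolynomial (Fin n) R) (p.Fiber (MvPolynomial (Fin n) R)) (algebraMap R (MvPolynomial (Fin n) R) r₀) • x =
        FlatCA.toFiberMod p (S := MvPolynomial (Fin n) R) Y y := by
      rw [AssFiber.algebraMap_smul_fiberMod]; exact hy
    have hy0 : ∀ b : MvPolynomial (Fin n) R, FlatCA.toFiberMod p (S := MvPolynomial (Fin n) R) Y (b • y) = 0 ↔
        algebraMap (MvPolynomial (Fin n) R) (p.Fiber (MvPolynomial (Fin n) R)) b ∈ r := by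
      intro b
      rw [map_smul, ← AssFiber.algebraMap_smul_fiberMod, ← hy', smul_comm,
        (PurityBC.isUnit_algebraMap_fiber p hr₀).smul_eq_zero]
      conv_rhs => rw [hx]
      exact WeakAss.mem_annEl.symm
    obtain ⟨g, hg, r', hr', hmem⟩ := hs y ((PurityBC.toFiberMod_eq_zero_iff p Y _).1 ((hy0 s).2 hsr))
    have h1 := hle ((hy0 g).1 ((PurityBC.toFiberMod_eq_zero_iff p Y _).2 ⟨r', hr', hmem⟩))
    obtain ⟨⟨T, hT⟩, hTc⟩ := NzdUnivInj.exists_prime_fiber p Q
    rw [← FibAssIdeal.eq_fiberIdeal p hTc] at h1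
    exact hg (hTc.le h1)
  let φ := Localization.localRingHom p Q (algebraMap R (MvPolynomial (Fin n) R)) hQ.over
  letI : Algebra (Localization.AtPrime p) (Localization.AtPrime Q) := φ.toAlgebra
  haveI : IsScalarTower R (Localization.AtPrime p) (Localization.AtPrime Q) :=
    IsScalarTower.of_algebraMap_eq fun x => by
      rw [IsScalarTower.algebraMap_apply R (MvPolynomial (Fin n) R) (Localization.AtPrime Q)]
      exact (Localization.localRingHom_to_map p Q _ hQ.over x).symm
  haveI : IsLocalHom (algebraMap (Localization.AtPrime p) (Localization.AtPrime Q)) :=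
    Localization.isLocalHom_localRingHom p Q _ hQ.over
  letI : Module (Localization.AtPrime p) (LocalizedModule Q.primeCompl Y) :=
    Module.compHom _ (algebraMap (Localization.AtPrime p) (Localization.AtPrime Q))
  haveI : IsScalarTower (Localization.AtPrime p) (Localization.AtPrime Q) (LocalizedModule Q.primeCompl Y) :=
    IsScalarTower.of_algebraMap_smul fun _ _ => rfl
  haveI : IsScalarTower R (Localization.AtPrime Q) (LocalizedModule Q.primeCompl Y) :=
    IsScalarTower.to₁₃₄ R (MvPolynomial (Fin n) R) (Localization.AtPrime Q) _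
  haveI : IsScalarTower R (Localization.AtPrime p) (LocalizedModule Q.primeCompl Y) :=
    IsScalarTower.to₁₂₄ R (Localization.AtPrime p) (Localization.AtPrime Q) _
  haveI : Module.FinitePresentation (Localization.AtPrime Q) (LocalizedModule Q.primeCompl Y) :=
    finitePresentation_localized Y Q hflat
  haveI : Module.Flat (Localization.AtPrime p) (LocalizedModule Q.primeCompl Y) :=
    (Module.flat_iff_of_isLocalization (Localization.AtPrime p) p.primeCompl (LocalizedModule Q.primeCompl Y)).2 hflat
  have h0 : s • (w ⊗ₜ[R] (1 : R)) = 0 := by rw [smul_tmul', hw, zero_tmul]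
  obtain ⟨c, hc, hcw⟩ := NzdUnivInj.local_injective (Rp := Localization.AtPrime p) (Sq := Localization.AtPrime Q) p Q
    (FlatModel.isEssFinitePresentation_localization (R := R) Q p (Localization.AtPrime p) (Localization.AtPrime Q))
    (by rw [← Localization.AtPrime.map_eq_maximalIdeal, Ideal.map_map, ← IsScalarTower.algebraMap_eq])
    (LocalizedModule.mkLinearMap Q.primeCompl Y) hs' R (w ⊗ₜ[R] (1 : R)) h0
  refine ⟨c, hc, ?_⟩
  have := congrArg (TensorProduct.rid R Y) hcw
  simpa [smul_tmul'] using this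

end FP

/-- An element regular on the closed fibre near `q` is regular near `q`. -/
theorem exists_smul_eq_zero {R : Type u} [CommRing R] [IsDomain R] {S : Type u} [CommRing S] [Algebra R S]
    [Algebra.FiniteType R S] (Y : Type u) [AddCommGroup Y] [Module S Y] [Module R Y] [IsScalarTower R S Y]
    [Module.Finite S Y] (p : Ideal R) [p.IsPrime] (q : Ideal S) [q.IsPrime] [hq : q.LiesOver p]
    (hflat : Module.Flat R (LocalizedModule q.primeCompl Y)) {s : S}
    (hs : ∀ y : Y, (∃ r ∉ p, r • s • y ∈ p • (⊤ : Submodule R Y)) → ∃ g ∉ q, ∃ r ∉ p, r • g • y ∈ p • (⊤ : Submodule R Y))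
    {w : Y} (hw : s • w = 0) : ∃ c ∉ q, c • w = 0 := by
  obtain ⟨n, φ, hφ⟩ := Algebra.FiniteType.iff_quotient_mvPolynomial''.1 ‹Algebra.FiniteType R S›
  letI := φ.toRingHom.toAlgebra
  letI := Module.compHom Y φ.toRingHom
  haveI : IsScalarTower (MvPolynomial (Fin n) R) S Y := ⟨fun p s m => mul_smul (φ p) s m⟩
  haveI : IsScalarTower R (MvPolynomial (Fin n) R) Y := ⟨fun r p m => by
    show φ (r • p) • m = r • φ p • m
    rw [map_smul, smul_assoc]⟩
  haveI : IsScalarTower R (MvPolynomial (Fin n) R) S := IsScalarTower.of_algebraMap_eq fun r => (φ.commutes r).symm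
  haveI : Module.Finite (MvPolynomial (Fin n) R) S := Module.Finite.of_surjective (Algebra.linearMap _ S) hφ
  haveI : Module.Finite (MvPolynomial (Fin n) R) Y := Module.Finite.trans S Y
  let Q : Ideal (MvPolynomial (Fin n) R) := q.comap φ
  haveI : Q.IsPrime := Ideal.IsPrime.comap _
  haveI : Q.LiesOver p := ⟨by
    ext r
    show r ∈ p ↔ φ (algebraMap R _ r) ∈ q
    rw [φ.commutes, ← Ideal.mem_of_liesOver q p r]⟩
  obtain ⟨s', rfl⟩ := hφ s
  obtain ⟨c, hc, hcw⟩ := exists_smul_eq_zero_poly Y p Q
    ((FlatValCrit.flat_localized_comap (P := MvPolynomial (Fin n) R) hφ q.primeCompl).1 hflat)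
    (s := s') (fun y hy => by
      obtain ⟨g, hg, r, hr, h⟩ := hs y hy
      obtain ⟨g', rfl⟩ := hφ g
      exact ⟨g', hg, r, hr, h⟩) (w := w) hw
  exact ⟨φ c, hc, hcw⟩

end Groth.Agent.ZClosLib.DomainLocal
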