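import Mathlib
import Groth.Agent.ZClosLib.PurityQF

/-!
# Impurities descend to finitely presented base changes
-/

set_option autoImplicit false
set_option linter.style.haveILetI false

universe u

open TensorProduct

namespace Groth.Agent.ZClosLib.ImpurityFP

attribute [local instance] Algebra.TensorProduct.rightAlgebra

/-- Every element of an extended ideal already lifts over any algebra containing a suitable finite set. -/
theorem exists_finset_lift {A C B D : Type u} [CommRing A] [CommRing C] [CommRing B] [CommRing D] [Algebra A C]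
    [Algebra A B] [Algebra C D] [Algebra B D] [Algebra A D] [IsScalarTower A C D] [IsScalarTower A B D]
    [hpush : Algebra.IsPushout A B C D] (t : Ideal C) {z : D} (hz : z ∈ t.map (algebraMap C D)) :
    ∃ F : Finset C, ∀ (C₀ D₀ : Type u) [CommRing C₀] [CommRing D₀] [Algebra C₀ D₀] [Algebra B D₀]
      (φ : C₀ →+* C) (ψ : D₀ →+* D), (∀ c, ψ (algebraMap C₀ D₀ c) = algebraMap C D (φ c)) →
      (∀ b, ψ (algebraMap B D₀ b) = algebraMap B D b) → (∀ x ∈ F, x ∈ Set.range φ) →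
      ∃ z₀ ∈ (t.comap φ).map (algebraMap C₀ D₀), ψ z₀ = z := by
  classical
  have hrep : ∀ d : D, ∃ F : Finset C, ∀ (C₀ D₀ : Type u) [CommRing C₀] [CommRing D₀] [Algebra C₀ D₀] [Algebra B D₀]
      (φ : C₀ →+* C) (ψ : D₀ →+* D), (∀ c, ψ (algebraMap C₀ D₀ c) = algebraMap C D (φ c)) →
      (∀ b, ψ (algebraMap B D₀ b) = algebraMap B D b) → (∀ x ∈ F, x ∈ Set.range φ) → d ∈ Set.range ψ := by
    intro d
    haveI : Algebra.IsPushout A C B D := hpush.symm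
    induction d using (Algebra.IsPushout.out (R := A) (S := C) (R' := B) (S' := D)).inductionOn with
    | zero => exact ⟨∅, fun _ _ _ _ _ _ _ ψ _ _ _ => ⟨0, map_zero ψ⟩⟩
    | tmul b => exact ⟨∅, fun _ D₀ _ _ _ _ _ ψ _ hb _ => ⟨algebraMap B D₀ b, hb b⟩⟩
    | smul c d hd =>
      obtain ⟨F, hF⟩ := hd
      refine ⟨insert c F, fun C₀ D₀ _ _ _ _ φ ψ hc hb hr => ?_⟩
      obtain ⟨c₀, hc₀⟩ := hr c (Finset.mem_insert_self c F)
      obtain ⟨d₀, hd₀⟩ := hF C₀ D₀ φ ψ hc hb fun x hx => hr x (Finset.mem_insert_of_mem hx)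
      exact ⟨algebraMap C₀ D₀ c₀ * d₀, by rw [map_mul, hc, hc₀, hd₀, Algebra.smul_def]⟩
    | add d e hd he =>
      obtain ⟨F, hF⟩ := hd
      obtain ⟨G, hG⟩ := he
      refine ⟨F ∪ G, fun C₀ D₀ _ _ _ _ φ ψ hc hb hr => ?_⟩
      obtain ⟨d₀, hd₀⟩ := hF C₀ D₀ φ ψ hc hb fun x hx => hr x (Finset.mem_union_left _ hx)
      obtain ⟨e₀, he₀⟩ := hG C₀ D₀ φ ψ hc hb fun x hx => hr x (Finset.mem_union_right _ hx)
      exact ⟨d₀ + e₀, by rw [map_add, hd₀, he₀]⟩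
  induction hz using Submodule.span_induction with
  | mem x hx =>
    obtain ⟨c, hc, rfl⟩ := hx
    refine ⟨{c}, fun C₀ D₀ _ _ _ _ φ ψ h₁ h₂ hr => ?_⟩
    obtain ⟨c₀, hc₀⟩ := hr c (Finset.mem_singleton_self c)
    exact ⟨algebraMap C₀ D₀ c₀, Ideal.mem_map_of_mem _ (by rw [Ideal.mem_comap, hc₀]; exact hc), by rw [h₁, hc₀]⟩
  | zero => exact ⟨∅, fun _ _ _ _ _ _ _ ψ _ _ _ => ⟨0, zero_mem _, map_zero ψ⟩⟩
  | add x y _ _ hx hy =>
    obtain ⟨F, hF⟩ := hx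
    obtain ⟨G, hG⟩ := hy
    refine ⟨F ∪ G, fun C₀ D₀ _ _ _ _ φ ψ hc hb hr => ?_⟩
    obtain ⟨d₀, hd, hd₀⟩ := hF C₀ D₀ φ ψ hc hb fun x hx => hr x (Finset.mem_union_left _ hx)
    obtain ⟨e₀, he, he₀⟩ := hG C₀ D₀ φ ψ hc hb fun x hx => hr x (Finset.mem_union_right _ hx)
    exact ⟨d₀ + e₀, add_mem hd he, by rw [map_add, hd₀, he₀]⟩
  | smul a x _ hx =>
    obtain ⟨F, hF⟩ := hx
    obtain ⟨G, hG⟩ := hrep a
    refine ⟨F ∪ G, fun C₀ D₀ _ _ _ _ φ ψ hc hb hr => ?_⟩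
    obtain ⟨d₀, hd, hd₀⟩ := hF C₀ D₀ φ ψ hc hb fun x hx => hr x (Finset.mem_union_left _ hx)
    obtain ⟨e₀, he₀⟩ := hG C₀ D₀ φ ψ hc hb fun x hx => hr x (Finset.mem_union_right _ hx)
    exact ⟨e₀ * d₀, Ideal.mul_mem_left _ _ hd, by rw [map_mul, hd₀, he₀, smul_eq_mul]⟩

/-- The impurity on a finitely presented model carrying the relation `1 ∈ P + t`. -/
theorem hasImpurity_of_lift {A B : Type u} [CommRing A] [CommRing B] [Algebra A B] [Algebra.FiniteType A B]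
    {N : Type u} [AddCommGroup N] [Module B N] (p : Ideal A) [p.IsPrime]
    {A₂ B₂ N₂ : Type u} [CommRing A₂] [CommRing B₂] [Algebra A A₂] [Algebra B B₂] [Algebra A₂ B₂]
    [Algebra A B₂] [IsScalarTower A B B₂] [IsScalarTower A A₂ B₂] [AddCommGroup N₂] [Module B₂ N₂]
    [Module B N₂] [IsScalarTower B B₂ N₂] [Module A₂ N₂] [IsScalarTower A₂ B₂ N₂]
    [hpush : Algebra.IsPushout A B A₂ B₂] (f₂ : N →ₗ[B] N₂) (hf₂ : IsBaseChange B₂ f₂) (t' t : Ideal A₂)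
    [t'.IsPrime] [t.IsPrime] (hle : t' ≤ t) [htp : t.LiesOver p] (P : Ideal B₂) [P.IsPrime] [P.LiesOver t']
    (hass : FlatCA.fiberIdeal t' P ∈ associatedPrimes (t'.Fiber B₂) (FlatCA.fiberMod t' B₂ N₂))
    (C₀ D₀ N₀ : Type u) [CommRing C₀] [CommRing D₀] [Algebra A C₀] [Algebra.FinitePresentation A C₀]
    [Algebra B D₀] [Algebra C₀ D₀] [Algebra A D₀] [IsScalarTower A B D₀] [IsScalarTower A C₀ D₀]
    [hpush₀ : Algebra.IsPushout A B C₀ D₀]
    [AddCommGroup N₀] [Module D₀ N₀] [Module B N₀] [IsScalarTower B D₀ N₀] [Module C₀ N₀] [IsScalarTower C₀ D₀ N₀]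
    (f₀ : N →ₗ[B] N₀) (hf₀ : IsBaseChange D₀ f₀)
    [Algebra C₀ A₂] [IsScalarTower A C₀ A₂] [Algebra D₀ B₂] [Algebra C₀ B₂] [IsScalarTower C₀ A₂ B₂]
    [IsScalarTower C₀ D₀ B₂] [IsScalarTower B D₀ B₂] [IsScalarTower A D₀ B₂] [IsScalarTower A C₀ B₂]
    (z₀ : D₀) (hz₀ : z₀ ∈ (t.comap (algebraMap C₀ A₂)).map (algebraMap C₀ D₀))
    (hπ : algebraMap D₀ B₂ (1 - z₀) ∈ P) :
    FlatCA.HasImpurity A B N p
      (fun A' _ _ t => Algebra.FinitePresentation A A' ∧ (FlatCA.fiberIdeal p t).IsMaximal) := by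
  haveI : Algebra.IsPushout A C₀ B D₀ := hpush₀.symm
  haveI : Algebra.IsPushout A A₂ B B₂ := hpush.symm
  haveI hpush' : Algebra.IsPushout C₀ A₂ D₀ B₂ :=
    (Algebra.IsPushout.comp_iff A C₀ B D₀ (T := A₂) (T' := B₂)).1 inferInstance
  letI : Module D₀ N₂ := Module.compHom N₂ (algebraMap D₀ B₂)
  haveI : IsScalarTower D₀ B₂ N₂ := IsScalarTower.of_algebraMap_smul fun _ _ => rfl
  haveI : IsScalarTower B D₀ N₂ := IsScalarTower.to₁₂₄ B D₀ B₂ N₂
  letI : Module C₀ N₂ := Module.compHom N₂ (algebraMap C₀ A₂)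
  haveI : IsScalarTower C₀ A₂ N₂ := IsScalarTower.of_algebraMap_smul fun _ _ => rfl
  haveI : IsScalarTower C₀ B₂ N₂ := IsScalarTower.of_algebraMap_smul fun r m => by
    rw [IsScalarTower.algebraMap_apply C₀ A₂ B₂, algebraMap_smul]; rfl
  haveI : IsScalarTower C₀ D₀ N₂ := IsScalarTower.to₁₂₄ C₀ D₀ B₂ N₂
  let g : N₀ →ₗ[D₀] N₂ := hf₀.lift f₂
  have hg : IsBaseChange B₂ g := IsBaseChange.of_comp hf₀ (by rw [hf₀.lift_comp]; exact hf₂)
  let t₀ : Ideal C₀ := t.comap (algebraMap C₀ A₂)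
  let t₀' : Ideal C₀ := t'.comap (algebraMap C₀ A₂)
  haveI : t₀.LiesOver p := ⟨by
    rw [Ideal.under_def, Ideal.comap_comap, ← IsScalarTower.algebraMap_eq]; exact htp.over⟩
  haveI : t'.LiesOver t₀' := ⟨rfl⟩
  haveI : Algebra.FiniteType C₀ D₀ := PurityBC.finiteType_of_isPushout A B C₀ D₀
  obtain ⟨hover, hass₀⟩ := PurityQF.assoc_contract (A := C₀) (C := A₂) g (QCart13.isBaseChange_of_pushout g hg)
    t₀' t' P hass
  -- a closed point of the fibre above `t₀`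
  obtain ⟨⟨T, hT⟩, hTc⟩ := NzdUnivInj.exists_prime_fiber p t₀
  obtain ⟨M, hM, hTM⟩ := Ideal.exists_le_maximal T hT.ne_top
  haveI := hM.isPrime
  let s : Ideal C₀ := M.comap (Algebra.TensorProduct.includeRight (R := A) (A := p.ResidueField) (B := C₀)).toRingHom
  haveI : s.LiesOver p := PurityBC.liesOver_comap p M
  have hts : t₀ ≤ s := hTc.ge.trans (Ideal.comap_mono hTM)
  refine ⟨C₀, D₀, N₀, inferInstance, inferInstance, inferInstance, inferInstance, inferInstance, inferInstance,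
    inferInstance, inferInstance, inferInstance, inferInstance, inferInstance, inferInstance, inferInstance,
    inferInstance, f₀, t₀', s, inferInstance, inferInstance, P.comap (algebraMap D₀ B₂), inferInstance,
    ⟨hpush₀, hf₀, (Ideal.comap_mono hle).trans hts, inferInstance, hover, hass₀, fun P' hP' hPP' hP's => ?_⟩,
    inferInstance, ?_⟩
  · refine hP'.ne_top ((Ideal.eq_top_iff_one P').2 ?_)
    have h1 : (1 : D₀) - z₀ ∈ P' := hPP' hπ
    have h2 : z₀ ∈ P' := Ideal.map_le_iff_le_comap.2 (hts.trans hP's.over.le) hz₀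
    simpa using add_mem h1 h2
  · rw [← FibAssIdeal.eq_fiberIdeal p (rfl : M.comap _ = s)]
    exact hM

/-- The impurity on a finitely presented model with the standard module. -/
theorem hasImpurity_of_lift' {A B : Type u} [CommRing A] [CommRing B] [Algebra A B] [Algebra.FiniteType A B]
    {N : Type u} [AddCommGroup N] [Module B N] (p : Ideal A) [p.IsPrime]
    {A₂ B₂ N₂ : Type u} [CommRing A₂] [CommRing B₂] [Algebra A A₂] [Algebra B B₂] [Algebra A₂ B₂]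
    [Algebra A B₂] [IsScalarTower A B B₂] [IsScalarTower A A₂ B₂] [AddCommGroup N₂] [Module B₂ N₂]
    [Module B N₂] [IsScalarTower B B₂ N₂] [Module A₂ N₂] [IsScalarTower A₂ B₂ N₂]
    [hpush : Algebra.IsPushout A B A₂ B₂] (f₂ : N →ₗ[B] N₂) (hf₂ : IsBaseChange B₂ f₂) (t' t : Ideal A₂)
    [t'.IsPrime] [t.IsPrime] (hle : t' ≤ t) [htp : t.LiesOver p] (P : Ideal B₂) [P.IsPrime] [P.LiesOver t']
    (hass : FlatCA.fiberIdeal t' P ∈ associatedPrimes (t'.Fiber B₂) (FlatCA.fiberMod t' B₂ N₂))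
    (C₀ D₀ : Type u) [CommRing C₀] [CommRing D₀] [Algebra A C₀] [Algebra.FinitePresentation A C₀]
    [Algebra B D₀] [Algebra C₀ D₀] [Algebra A D₀] [IsScalarTower A B D₀] [IsScalarTower A C₀ D₀]
    [hpush₀ : Algebra.IsPushout A B C₀ D₀]
    [Algebra C₀ A₂] [IsScalarTower A C₀ A₂] [Algebra D₀ B₂] [Algebra C₀ B₂] [IsScalarTower C₀ A₂ B₂]
    [IsScalarTower C₀ D₀ B₂] [IsScalarTower B D₀ B₂] [IsScalarTower A D₀ B₂] [IsScalarTower A C₀ B₂]
    (z₀ : D₀) (hz₀ : z₀ ∈ (t.comap (algebraMap C₀ A₂)).map (algebraMap C₀ D₀))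
    (hπ : algebraMap D₀ B₂ (1 - z₀) ∈ P) :
    FlatCA.HasImpurity A B N p
      (fun A' _ _ t => Algebra.FinitePresentation A A' ∧ (FlatCA.fiberIdeal p t).IsMaximal) := by
  haveI : IsScalarTower C₀ D₀ (D₀ ⊗[B] N) := TensorProduct.isScalarTower_left
  exact hasImpurity_of_lift p f₂ hf₂ t' t hle P hass C₀ D₀ (D₀ ⊗[B] N) (TensorProduct.mk B D₀ N 1)
    (TensorProduct.isBaseChange B N D₀) z₀ hz₀ hπ

/-- If `P` and `t` generate the unit ideal the impurity comes from a finitely presented base change. -/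
theorem hasImpurity_of_sup_eq_top {A B : Type u} [CommRing A] [CommRing B] [Algebra A B] [Algebra.FiniteType A B]
    {N : Type u} [AddCommGroup N] [Module B N] (p : Ideal A) [p.IsPrime]
    {A₂ B₂ N₂ : Type u} [CommRing A₂] [CommRing B₂] [Algebra A A₂] [Algebra B B₂] [Algebra A₂ B₂]
    [Algebra A B₂] [IsScalarTower A B B₂] [IsScalarTower A A₂ B₂] [AddCommGroup N₂] [Module B₂ N₂]
    [Module B N₂] [IsScalarTower B B₂ N₂] [Module A₂ N₂] [IsScalarTower A₂ B₂ N₂]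
    [hpush : Algebra.IsPushout A B A₂ B₂] (f₂ : N →ₗ[B] N₂) (hf₂ : IsBaseChange B₂ f₂) (t' t : Ideal A₂)
    [t'.IsPrime] [t.IsPrime] (hle : t' ≤ t) [t.LiesOver p] (P : Ideal B₂) [P.IsPrime] [P.LiesOver t']
    (hass : FlatCA.fiberIdeal t' P ∈ associatedPrimes (t'.Fiber B₂) (FlatCA.fiberMod t' B₂ N₂))
    (htop : P ⊔ t.map (algebraMap A₂ B₂) = ⊤) :
    FlatCA.HasImpurity A B N p
      (fun A' _ _ t => Algebra.FinitePresentation A A' ∧ (FlatCA.fiberIdeal p t).IsMaximal) := by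
  classical
  obtain ⟨π, hπ, z, hz, hπz⟩ := Submodule.mem_sup.1 (htop.ge (Submodule.mem_top : (1 : B₂) ∈ _))
  obtain ⟨F, hF⟩ := exists_finset_lift (A := A) (B := B) t hz
  let φ : MvPolynomial F A →ₐ[A] A₂ := MvPolynomial.aeval fun x => (x : A₂)
  let ψ : MvPolynomial F A ⊗[A] B →ₐ[A] B₂ := Algebra.TensorProduct.lift ((IsScalarTower.toAlgHom A A₂ B₂).comp φ)
    (IsScalarTower.toAlgHom A B B₂) fun _ _ => .all _ _
  have hψl : ∀ c : MvPolynomial F A, ψ (c ⊗ₜ 1) = algebraMap A₂ B₂ (φ c) := fun c => by simp [ψ]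
  have hψr : ∀ b : B, ψ ((1 : MvPolynomial F A) ⊗ₜ b) = algebraMap B B₂ b := fun b => by simp [ψ]
  obtain ⟨z₀, hz₀, hψz⟩ := hF (MvPolynomial F A) (MvPolynomial F A ⊗[A] B) φ.toRingHom ψ.toRingHom hψl hψr
    fun x hx => ⟨MvPolynomial.X ⟨x, hx⟩, by simp [φ]⟩
  letI : Algebra (MvPolynomial F A) A₂ := φ.toRingHom.toAlgebra
  haveI : IsScalarTower A (MvPolynomial F A) A₂ := IsScalarTower.of_algebraMap_eq fun x => (φ.commutes x).symm
  letI : Algebra (MvPolynomial F A) B₂ := ((IsScalarTower.toAlgHom A A₂ B₂).comp φ).toRingHom.toAlgebra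
  haveI : IsScalarTower (MvPolynomial F A) A₂ B₂ := IsScalarTower.of_algebraMap_eq fun _ => rfl
  haveI : IsScalarTower A (MvPolynomial F A) B₂ := IsScalarTower.of_algebraMap_eq fun x =>
    (((IsScalarTower.toAlgHom A A₂ B₂).comp φ).commutes x).symm
  letI : Algebra (MvPolynomial F A ⊗[A] B) B₂ := ψ.toRingHom.toAlgebra
  haveI : IsScalarTower (MvPolynomial F A) (MvPolynomial F A ⊗[A] B) B₂ :=
    IsScalarTower.of_algebraMap_eq fun x => (hψl x).symm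
  haveI : IsScalarTower B (MvPolynomial F A ⊗[A] B) B₂ := IsScalarTower.of_algebraMap_eq fun x => (hψr x).symm
  haveI : IsScalarTower A (MvPolynomial F A ⊗[A] B) B₂ := IsScalarTower.of_algebraMap_eq fun x => (ψ.commutes x).symm
  haveI : Algebra.IsPushout A B (MvPolynomial F A) (MvPolynomial F A ⊗[A] B) := Algebra.IsPushout.symm inferInstance
  refine hasImpurity_of_lift' p f₂ hf₂ t' t hle P hass (MvPolynomial F A) (MvPolynomial F A ⊗[A] B) z₀ hz₀ ?_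
  show ψ (1 - z₀) ∈ P
  rw [map_sub, map_one, show ψ z₀ = z from hψz, ← hπz, add_sub_cancel_right]
  exact hπ

/-- After inverting an element outside `t` the point and the fibre generate the unit ideal. -/
theorem exists_sup_eq_top {A B : Type u} [CommRing A] [CommRing B] [Algebra A B] [Algebra.FiniteType A B]
    {N : Type u} [AddCommGroup N] [Module B N] {p : Ideal A} [p.IsPrime]
    {A₁ B₁ N₁ : Type u} [CommRing A₁] [CommRing B₁] [Algebra A A₁] [Algebra B B₁] [Algebra A₁ B₁]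
    [Algebra A B₁] [IsScalarTower A B B₁] [IsScalarTower A A₁ B₁] [AddCommGroup N₁] [Module B₁ N₁]
    [Module B N₁] [IsScalarTower B B₁ N₁] [Module A₁ N₁] [IsScalarTower A₁ B₁ N₁]
    {f₁ : N →ₗ[B] N₁} {t' t : Ideal A₁} [t'.IsPrime] [t.IsPrime] {P : Ideal B₁} [P.IsPrime]
    (himp : FlatCA.IsImpurity A B N p A₁ B₁ N₁ f₁ t' t P) :
    ∃ g ∉ t, algebraMap A₁ B₁ g ∈ P ⊔ t.map (algebraMap A₁ B₁) := by
  by_contra hcon
  push Not at hcon
  obtain ⟨Q, hQ, hIQ, hQd⟩ := Ideal.exists_le_prime_disjoint (P ⊔ t.map (algebraMap A₁ B₁))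
    (Algebra.algebraMapSubmonoid B₁ t.primeCompl) (Set.disjoint_right.2 fun _ ⟨g, hg, hgx⟩ hx =>
      hcon g hg (hgx ▸ hx))
  refine himp.2.2.2.2.2.2 Q (le_sup_left.trans hIQ) ⟨le_antisymm (Ideal.map_le_iff_le_comap.1 (le_sup_right.trans hIQ))
    fun g hg => ?_⟩
  by_contra hgt
  exact Set.disjoint_left.1 hQd hg ⟨g, hgt, rfl⟩

/-- The unit ideal relation passes to a base change in which `g` is invertible. -/
theorem hasImpurity_of_model {A B : Type u} [CommRing A] [CommRing B] [Algebra A B] [Algebra.FiniteType A B]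
    {N : Type u} [AddCommGroup N] [Module B N] (p : Ideal A) [p.IsPrime]
    {A₁ B₁ N₁ : Type u} [CommRing A₁] [CommRing B₁] [Algebra A A₁] [Algebra B B₁] [Algebra A₁ B₁]
    [Algebra A B₁] [IsScalarTower A B B₁] [IsScalarTower A A₁ B₁] [hpush₁ : Algebra.IsPushout A B A₁ B₁]
    [AddCommGroup N₁] [Module B₁ N₁] [Module B N₁] [IsScalarTower B B₁ N₁] [Module A₁ N₁] [IsScalarTower A₁ B₁ N₁]
    (f₁ : N →ₗ[B] N₁) (hf₁ : IsBaseChange B₁ f₁) {t' t : Ideal A₁} [t'.IsPrime] [t.IsPrime] [t.LiesOver p]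
    (P : Ideal B₁) [P.IsPrime] [P.LiesOver t']
    (hass : FlatCA.fiberIdeal t' P ∈ associatedPrimes (t'.Fiber B₁) (FlatCA.fiberMod t' B₁ N₁))
    (A₂ B₂ N₂ : Type u) [CommRing A₂] [CommRing B₂] [Algebra A A₂] [Algebra A₁ A₂] [IsScalarTower A A₁ A₂]
    [Algebra A₂ B₂] [Algebra B₁ B₂] [Algebra A₁ B₂] [IsScalarTower A₁ B₁ B₂] [IsScalarTower A₁ A₂ B₂]
    [hpush₂ : Algebra.IsPushout A₁ A₂ B₁ B₂]
    [AddCommGroup N₂] [Module B₂ N₂] [Module B₁ N₂] [IsScalarTower B₁ B₂ N₂] [Module A₂ N₂] [IsScalarTower A₂ B₂ N₂]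
    (g₂ : N₁ →ₗ[B₁] N₂) (hg₂ : IsBaseChange B₂ g₂) (t₂' t₂ : Ideal A₂) [t₂'.IsPrime] [t₂.IsPrime]
    [t₂'.LiesOver t'] [ht₂ : t₂.LiesOver t] (hle : t₂' ≤ t₂) {g : A₁}
    (hg : algebraMap A₁ B₁ g ∈ P ⊔ t.map (algebraMap A₁ B₁)) (hu : IsUnit (algebraMap A₁ A₂ g)) :
    FlatCA.HasImpurity A B N p
      (fun A' _ _ t => Algebra.FinitePresentation A A' ∧ (FlatCA.fiberIdeal p t).IsMaximal) := by
  letI : Algebra A B₂ := ((algebraMap A₂ B₂).comp (algebraMap A A₂)).toAlgebra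
  haveI : IsScalarTower A A₂ B₂ := IsScalarTower.of_algebraMap_eq fun _ => rfl
  letI : Algebra B B₂ := ((algebraMap B₁ B₂).comp (algebraMap B B₁)).toAlgebra
  haveI : IsScalarTower B B₁ B₂ := IsScalarTower.of_algebraMap_eq fun _ => rfl
  haveI : IsScalarTower A B B₂ := IsScalarTower.of_algebraMap_eq fun x => by
    show algebraMap A₂ B₂ (algebraMap A A₂ x) = algebraMap B₁ B₂ (algebraMap B B₁ (algebraMap A B x))
    rw [← IsScalarTower.algebraMap_apply A B B₁, IsScalarTower.algebraMap_apply A A₁ B₁,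
      IsScalarTower.algebraMap_apply A A₁ A₂, ← IsScalarTower.algebraMap_apply A₁ A₂ B₂,
      ← IsScalarTower.algebraMap_apply A₁ B₁ B₂]
  haveI hpush : Algebra.IsPushout A B A₂ B₂ := PurityBC.isPushout_comp A B A₁ B₁ A₂ B₂ hpush₁ hpush₂.symm
  letI : Module B N₂ := Module.compHom N₂ (algebraMap B B₁)
  haveI : IsScalarTower B B₁ N₂ := IsScalarTower.of_algebraMap_smul fun _ _ => rfl
  haveI : IsScalarTower B B₂ N₂ := IsScalarTower.of_algebraMap_smul fun b z => algebraMap_smul B₂ (algebraMap B B₁ b) z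
  letI : Module A₁ N₂ := Module.compHom N₂ (algebraMap A₁ A₂)
  haveI : IsScalarTower A₁ A₂ N₂ := IsScalarTower.of_algebraMap_smul fun _ _ => rfl
  haveI : IsScalarTower A₁ B₂ N₂ := IsScalarTower.of_algebraMap_smul fun r m => by
    rw [IsScalarTower.algebraMap_apply A₁ A₂ B₂, algebraMap_smul]; rfl
  haveI : IsScalarTower A₁ B₁ N₂ := IsScalarTower.to₁₂₄ A₁ B₁ B₂ N₂
  haveI : Algebra.FiniteType A₂ B₂ := PurityBC.finiteType_of_isPushout A B A₂ B₂
  obtain ⟨Q, hQ, hPQ, hQt, hQass⟩ := PurityBC.exists_assoc_over (A' := A₂) (B' := B₂) g₂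
    (QCart13.isBaseChange_of_pushout g₂ hg₂) t' t₂' P hass
  haveI : t₂.LiesOver p := Ideal.LiesOver.trans t₂ t p
  refine hasImpurity_of_sup_eq_top p (g₂.restrictScalars B ∘ₗ f₁) (hf₁.comp hg₂) t₂' t₂ hle Q hQass ?_
  refine Ideal.eq_top_of_isUnit_mem _ ?_ (hu.map (algebraMap A₂ B₂))
  rw [← IsScalarTower.algebraMap_apply, IsScalarTower.algebraMap_apply A₁ B₁ B₂]
  have h1 : (P ⊔ t.map (algebraMap A₁ B₁)).map (algebraMap B₁ B₂) ≤ Q ⊔ t₂.map (algebraMap A₂ B₂) := by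
    rw [Ideal.map_sup, sup_le_iff, Ideal.map_le_iff_le_comap, Ideal.map_map, Ideal.map_le_iff_le_comap]
    refine ⟨fun x hx => Ideal.mem_sup_left (hPQ hx), fun c hc => ?_⟩
    rw [← IsScalarTower.algebraMap_eq, Ideal.mem_comap, IsScalarTower.algebraMap_apply A₁ A₂ B₂]
    rw [ht₂.over] at hc
    exact Ideal.mem_sup_right (Ideal.mem_map_of_mem _ hc)
  exact h1 (Ideal.mem_map_of_mem _ hg)

/-- The standard model over `A₂`. -/
theorem hasImpurity_of_model' {A B : Type u} [CommRing A] [CommRing B] [Algebra A B] [Algebra.FiniteType A B]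
    {N : Type u} [AddCommGroup N] [Module B N] (p : Ideal A) [p.IsPrime]
    {A₁ B₁ N₁ : Type u} [CommRing A₁] [CommRing B₁] [Algebra A A₁] [Algebra B B₁] [Algebra A₁ B₁]
    [Algebra A B₁] [IsScalarTower A B B₁] [IsScalarTower A A₁ B₁] [hpush₁ : Algebra.IsPushout A B A₁ B₁]
    [AddCommGroup N₁] [Module B₁ N₁] [Module B N₁] [IsScalarTower B B₁ N₁] [Module A₁ N₁] [IsScalarTower A₁ B₁ N₁]
    (f₁ : N →ₗ[B] N₁) (hf₁ : IsBaseChange B₁ f₁) {t' t : Ideal A₁} [t'.IsPrime] [t.IsPrime] [t.LiesOver p]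
    (P : Ideal B₁) [P.IsPrime] [P.LiesOver t']
    (hass : FlatCA.fiberIdeal t' P ∈ associatedPrimes (t'.Fiber B₁) (FlatCA.fiberMod t' B₁ N₁))
    (A₂ B₂ : Type u) [CommRing A₂] [CommRing B₂] [Algebra A A₂] [Algebra A₁ A₂] [IsScalarTower A A₁ A₂]
    [Algebra A₂ B₂] [Algebra B₁ B₂] [Algebra A₁ B₂] [IsScalarTower A₁ B₁ B₂] [IsScalarTower A₁ A₂ B₂]
    [hpush₂ : Algebra.IsPushout A₁ A₂ B₁ B₂] (t₂' t₂ : Ideal A₂) [t₂'.IsPrime] [t₂.IsPrime]
    [t₂'.LiesOver t'] [ht₂ : t₂.LiesOver t] (hle : t₂' ≤ t₂) {g : A₁}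
    (hg : algebraMap A₁ B₁ g ∈ P ⊔ t.map (algebraMap A₁ B₁)) (hu : IsUnit (algebraMap A₁ A₂ g)) :
    FlatCA.HasImpurity A B N p
      (fun A' _ _ t => Algebra.FinitePresentation A A' ∧ (FlatCA.fiberIdeal p t).IsMaximal) := by
  haveI : IsScalarTower A₂ B₂ (B₂ ⊗[B₁] N₁) := TensorProduct.isScalarTower_left
  exact hasImpurity_of_model p f₁ hf₁ P hass A₂ B₂ (B₂ ⊗[B₁] N₁) (TensorProduct.mk B₁ B₂ N₁ 1)
    (TensorProduct.isBaseChange B₁ N₁ B₂) t₂' t₂ hle hg hu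

/-- Any impurity gives one on a finitely presented base change at a closed point of the fibre. -/
theorem hasImpurity_fp {A B : Type u} [CommRing A] [CommRing B] [Algebra A B] [Algebra.FiniteType A B]
    {N : Type u} [AddCommGroup N] [Module B N] {p : Ideal A} [p.IsPrime]
    {A₁ B₁ N₁ : Type u} [CommRing A₁] [CommRing B₁] [Algebra A A₁] [Algebra B B₁] [Algebra A₁ B₁]
    [Algebra A B₁] [IsScalarTower A B B₁] [IsScalarTower A A₁ B₁] [AddCommGroup N₁] [Module B₁ N₁]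
    [Module B N₁] [IsScalarTower B B₁ N₁] [Module A₁ N₁] [IsScalarTower A₁ B₁ N₁]
    {f₁ : N →ₗ[B] N₁} {t' t : Ideal A₁} [t'.IsPrime] [t.IsPrime] {P : Ideal B₁} [P.IsPrime]
    (himp : FlatCA.IsImpurity A B N p A₁ B₁ N₁ f₁ t' t P) :
    FlatCA.HasImpurity A B N p
      (fun A' _ _ t => Algebra.FinitePresentation A A' ∧ (FlatCA.fiberIdeal p t).IsMaximal) := by
  obtain ⟨g, hgt, hg⟩ := exists_sup_eq_top himp
  haveI := himp.1
  haveI := himp.2.2.2.1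
  haveI := himp.2.2.2.2.1
  let A₂ := Localization.Away g
  have hd : Disjoint (Submonoid.powers g : Set A₁) (t : Set A₁) :=
    (Ideal.disjoint_powers_iff_notMem_of_isPrime g).2 hgt
  have hd' : Disjoint (Submonoid.powers g : Set A₁) (t' : Set A₁) := hd.mono_right himp.2.2.1
  let t₂ : Ideal A₂ := t.map (algebraMap A₁ A₂)
  let t₂' : Ideal A₂ := t'.map (algebraMap A₁ A₂)
  haveI : t₂.IsPrime := IsLocalization.isPrime_of_isPrime_disjoint (Submonoid.powers g) _ _ ‹_› hd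
  haveI : t₂'.IsPrime := IsLocalization.isPrime_of_isPrime_disjoint (Submonoid.powers g) _ _ ‹_› hd'
  haveI : t₂.LiesOver t := ⟨(IsLocalization.comap_map_of_isPrime_disjoint (Submonoid.powers g) A₂ ‹_› hd).symm⟩
  haveI : t₂'.LiesOver t' := ⟨(IsLocalization.comap_map_of_isPrime_disjoint (Submonoid.powers g) A₂ ‹_› hd').symm⟩
  exact hasImpurity_of_model' p f₁ himp.2.1 P himp.2.2.2.2.2.1 A₂ (A₂ ⊗[A₁] B₁) t₂' t₂ (Ideal.map_mono himp.2.2.1) hg
    (IsLocalization.Away.algebraMap_isUnit g)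

end Groth.Agent.ZClosLib.ImpurityFP
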