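import Mathlib
import Groth.Agent.ZClosLib.ImpurityFP
import Groth.Agent.GenFree.Basic
import Groth.Agent.S1213

/-!
# Over a Noetherian base impurities are witnessed by quasi-finite base changes
-/

set_option autoImplicit false
set_option linter.style.haveILetI false

universe u

open TensorProduct

namespace Groth.Agent.ZClosLib.ImpurityQF

attribute [local instance] Algebra.TensorProduct.rightAlgebra

/-- Between `⊥` and `t` nothing lies if every intermediate prime contains a fixed nonzero element. -/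
theorem no_prime_between {E : Type u} [CommRing E] [IsDomain E] [IsNoetherianRing E] (t : Ideal E) [t.IsPrime]
    {f : E} (hf : f ≠ 0) (h : ∀ a : Ideal E, a.IsPrime → a ≤ t → a ≠ ⊥ → f ∈ a)
    (a : Ideal E) [ha : a.IsPrime] (hat : a ≤ t) (ha0 : a ≠ ⊥) : a = t := by
  classical
  by_contra hne
  have h1 : (⊥ : Ideal E).height < a.height := Ideal.height_strict_mono_of_isPrime (bot_lt_iff_ne_bot.2 ha0)
  have h2 : a.height < t.height := Ideal.height_strict_mono_of_isPrime (lt_of_le_of_ne hat hne)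
  have ht1 : ¬ t.height ≤ 1 := fun ht => by
    have h3 : a.height < 1 := h2.trans_le ht
    rw [Order.lt_one_iff] at h3
    rw [h3] at h1
    exact not_lt_zero h1
  have hht : ∀ (b : Ideal E), b.IsPrime → b ≠ ⊥ → ∀ (c : Ideal E), c.IsPrime → c ≤ b → c ≠ ⊥ → b.height ≤ 1 → c = b := by
    intro b hb hb0 c hc hcb hc0 hle
    haveI := hb; haveI := hc
    by_contra hcb'
    have h3 : c.height < 1 := (Ideal.height_strict_mono_of_isPrime (lt_of_le_of_ne hcb hcb')).trans_le hle
    have h4 : (⊥ : Ideal E).height < c.height := Ideal.height_strict_mono_of_isPrime (bot_lt_iff_ne_bot.2 hc0)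
    rw [Order.lt_one_iff] at h3
    rw [h3] at h4
    exact not_lt_zero h4
  let T := (Ideal.finite_minimalPrimes_of_isNoetherianRing E (Ideal.span {f})).toFinset
  have hT : ∀ Q ∈ T, Q.IsPrime ∧ Q.height ≤ 1 ∧ Q ≠ ⊥ := fun Q hQ => by
    rw [Set.Finite.mem_toFinset] at hQ
    refine ⟨hQ.1.1, Ideal.height_le_one_of_isPrincipal_of_mem_minimalPrimes _ Q hQ, fun h0 => hf ?_⟩
    have := hQ.1.2 (Ideal.subset_span (Set.mem_singleton f))
    rwa [h0, Ideal.mem_bot] at this
  obtain ⟨x, hxt, hx⟩ : ∃ x ∈ t, ∀ Q ∈ T, x ∉ Q := by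
    by_contra hc
    push Not at hc
    obtain ⟨Q, hQ, hle⟩ := (Ideal.subset_union_prime (s := T) (f := id) ⊥ ⊥ fun i hi _ _ => (hT i hi).1).1
      (show (t : Set E) ⊆ ⋃ i ∈ (↑T : Set (Ideal E)), (id i : Set E) from fun x hx => by
        obtain ⟨Q, hQ, hxQ⟩ := hc x hx
        exact Set.mem_biUnion hQ hxQ)
    exact ht1 ((Ideal.height_mono hle).trans (hT Q hQ).2.1)
  have hx0 : x ≠ 0 := by
    rintro rfl
    obtain ⟨Q, hQ, -⟩ := Ideal.exists_minimalPrimes_le (I := Ideal.span {f}) (J := t)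
      ((Ideal.span_singleton_le_iff_mem t).2 (hat (h a ha hat ha0)))
    exact hx Q ((Set.Finite.mem_toFinset _).2 hQ) (zero_mem _)
  obtain ⟨R', hR', hR't⟩ := Ideal.exists_minimalPrimes_le (I := Ideal.span {x}) (J := t)
    ((Ideal.span_singleton_le_iff_mem t).2 hxt)
  have hxR : x ∈ R' := hR'.1.2 (Ideal.subset_span (Set.mem_singleton x))
  have hR0 : R' ≠ ⊥ := fun h0 => hx0 (by rwa [h0, Ideal.mem_bot] at hxR)
  have hR1 := Ideal.height_le_one_of_isPrincipal_of_mem_minimalPrimes _ R' hR'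
  haveI := hR'.1.1
  obtain ⟨Q, hQ, hQR⟩ := Ideal.exists_minimalPrimes_le (I := Ideal.span {f}) (J := R')
    ((Ideal.span_singleton_le_iff_mem R').2 (h R' hR'.1.1 hR't hR0))
  have hQT : Q ∈ T := (Set.Finite.mem_toFinset _).2 hQ
  exact hx Q hQT ((hht R' hR'.1.1 hR0 Q (hT Q hQT).1 hQR (hT Q hQT).2.2 hR1).symm ▸ hxR)

/-- A point with no generization or specialization in its fibre is a point of quasi-finiteness. -/
theorem quasiFiniteAt_of_isolated {A E : Type u} [CommRing A] [CommRing E] [Algebra A E] [Algebra.FiniteType A E]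
    (p : Ideal A) [p.IsPrime] (t : Ideal E) [t.IsPrime] [ht : t.LiesOver p]
    (hmax : ∀ q : Ideal E, q.IsPrime → q.LiesOver p → t ≤ q → q = t)
    (hmin : ∀ q : Ideal E, q.IsPrime → q.LiesOver p → q ≤ t → q = t) : Algebra.QuasiFiniteAt A t := by
  let x : PrimeSpectrum E := ⟨t, inferInstance⟩
  refine (Algebra.quasiFiniteAt_iff_isOpen_singleton_fiber x).2 ?_
  let p' := PrimeSpectrum.comap (algebraMap A E) x
  have hp' : p'.asIdeal = p := ht.over.symm
  let e := PrimeSpectrum.preimageHomeomorphFiber A E p'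
  haveI : IsNoetherianRing (p'.asIdeal.Fiber E) := Algebra.FiniteType.isNoetherianRing p'.asIdeal.ResidueField _
  haveI : IsJacobsonRing (p'.asIdeal.Fiber E) := isJacobsonRing_of_finiteType (A := p'.asIdeal.ResidueField)
  rw [← e.isOpen_image, Set.image_singleton]
  let o := PrimeSpectrum.preimageOrderIsoFiber A E p'
  have hover : ∀ q : PrimeSpectrum.comap (algebraMap A E) ⁻¹' {p'}, q.1.asIdeal.LiesOver p := fun q => ⟨hp'.symm.trans
    (congrArg PrimeSpectrum.asIdeal (show PrimeSpectrum.comap (algebraMap A E) q.1 = p' from q.2)).symm⟩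
  refine ((PrimeSpectrum.isOpen_singleton_tfae_of_isNoetherian_of_isJacobsonRing (e ⟨x, rfl⟩)).out 2 0 rfl rfl).1
    ⟨?_, ?_⟩
  · rw [PrimeSpectrum.isClosed_singleton_iff_isMaximal, ← PrimeSpectrum.isMax_iff]
    show IsMax (o ⟨x, rfl⟩)
    rw [OrderIso.isMax_apply]
    intro q hq
    exact (hmax q.1.asIdeal q.1.isPrime (hover q) hq).le
  · rw [PrimeSpectrum.stableUnderGeneralization_singleton, ← PrimeSpectrum.isMin_iff]
    show IsMin (o ⟨x, rfl⟩)
    rw [OrderIso.isMin_apply]
    intro q hq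
    exact (hmin q.1.asIdeal q.1.isPrime (hover q) hq).ge

/-- A point of the assassin over the generic point of a domain is an annihilator. -/
theorem exists_annEl_eq {D BD ND : Type u} [CommRing D] [IsDomain D] [CommRing BD] [Algebra D BD]
    [IsNoetherianRing BD] [AddCommGroup ND] [Module BD ND] [Module D ND] [IsScalarTower D BD ND]
    [IsNoetherianRing ((⊥ : Ideal D).Fiber BD)] (P : Ideal BD) [P.IsPrime] [hP : P.LiesOver (⊥ : Ideal D)]
    (hass : FlatCA.fiberIdeal (⊥ : Ideal D) P ∈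
      associatedPrimes ((⊥ : Ideal D).Fiber BD) (FlatCA.fiberMod (⊥ : Ideal D) BD ND)) :
    ∃ m : ND, WeakAss.annEl BD m = P := by
  classical
  obtain ⟨hQp, x, hx⟩ := FibAssIdeal.mem_ass_of_mem_associatedPrimes hass
  haveI := AssFiber.isLocalizedModule_quotToFiber (⊥ : Ideal D) (S := BD) ND
  obtain ⟨⟨y, ⟨_, r₀, hr₀, rfl⟩⟩, hy⟩ :=
    IsLocalizedModule.surj (Algebra.algebraMapSubmonoid BD (⊥ : Ideal D).primeCompl)
      (AssFiber.quotToFiber (⊥ : Ideal D) (S := BD) ND) x
  obtain ⟨n, rfl⟩ := Submodule.Quotient.mk_surjective _ y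
  have hy' : algebraMap BD ((⊥ : Ideal D).Fiber BD) (algebraMap D BD r₀) • x =
      FlatCA.toFiberMod (⊥ : Ideal D) (S := BD) ND n := by
    rw [AssFiber.algebraMap_smul_fiberMod]; exact hy
  have hcomap : (FlatCA.fiberIdeal (⊥ : Ideal D) P).comap (algebraMap BD ((⊥ : Ideal D).Fiber BD)) = P := by
    obtain ⟨⟨Q, hQ1⟩, hQ2⟩ := NzdUnivInj.exists_prime_fiber (⊥ : Ideal D) P
    rw [← FibAssIdeal.eq_fiberIdeal (⊥ : Ideal D) hQ2]
    exact hQ2
  have hn : ∀ b : BD, FlatCA.toFiberMod (⊥ : Ideal D) (S := BD) ND (b • n) = 0 ↔ b ∈ P := by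
    intro b
    rw [map_smul, ← AssFiber.algebraMap_smul_fiberMod, ← hy', smul_comm,
      (PurityBC.isUnit_algebraMap_fiber (⊥ : Ideal D) hr₀).smul_eq_zero]
    conv_rhs => rw [← hcomap, Ideal.mem_comap, hx]
    exact WeakAss.mem_annEl.symm
  obtain ⟨G, hG⟩ := (IsNoetherian.noetherian P : P.FG)
  have hex : ∀ b ∈ G, ∃ r : D, r ≠ 0 ∧ r • b • n = 0 := fun b hb => by
    obtain ⟨r, hr, hmem⟩ := (PurityBC.toFiberMod_eq_zero_iff (⊥ : Ideal D) ND (b • n)).1
      ((hn b).2 (hG ▸ Submodule.subset_span hb))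
    refine ⟨r, fun h0 => hr (by rw [h0]; exact zero_mem _), ?_⟩
    rwa [Submodule.bot_smul, Submodule.mem_bot] at hmem
  choose! r hr0 hrn using hex
  let R₀ := ∏ b ∈ G, r b
  have hR₀ : R₀ ≠ 0 := Finset.prod_ne_zero_iff.2 hr0
  refine ⟨R₀ • n, le_antisymm (fun b hb => ?_) ?_⟩
  · rw [WeakAss.mem_annEl, ← algebraMap_smul BD R₀ n, smul_smul] at hb
    have h1 : b * algebraMap D BD R₀ ∈ P := (hn _).1 (by rw [hb, map_zero])
    refine (‹P.IsPrime›.mem_or_mem h1).resolve_right fun h2 => hR₀ ?_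
    have h3 : R₀ ∈ (⊥ : Ideal D) := by rw [hP.over]; exact h2
    simpa using h3
  · rw [← hG]
    refine Submodule.span_le.2 fun b hb => WeakAss.mem_annEl.2 ?_
    obtain ⟨c, hc⟩ := Finset.dvd_prod_of_mem r hb
    rw [show R₀ = c * r b from hc.trans (mul_comm _ _), mul_smul, smul_comm b c, smul_comm b (r b), hrn b hb, smul_zero]

/-- Over an open set of the base a point of the generic assassin specializes into the assassins. -/
theorem exists_assoc_specialization {D BD ND : Type u} [CommRing D] [IsDomain D] [IsNoetherianRing D] [CommRing BD]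
    [Algebra D BD] [Algebra.FiniteType D BD] [AddCommGroup ND] [Module BD ND] [Module D ND] [IsScalarTower D BD ND]
    [Module.Finite BD ND] (P : Ideal BD) [P.IsPrime] [hP : P.LiesOver (⊥ : Ideal D)] {m : ND}
    (hm : WeakAss.annEl BD m = P) :
    ∃ f : D, f ≠ 0 ∧ ∀ s : Ideal D, ∀ (_ : s.IsPrime), f ∉ s → ∃ (Q : Ideal BD) (_ : Q.IsPrime),
      P ≤ Q ∧ Q.LiesOver s ∧ FlatCA.fiberIdeal s Q ∈ associatedPrimes (s.Fiber BD) (FlatCA.fiberMod s BD ND) := by
  classical
  let i : (BD ⧸ P) →ₗ[BD] ND := Submodule.liftQ P (LinearMap.toSpanSingleton BD ND m) fun x hx =>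
    WeakAss.mem_annEl.1 (hm.ge hx)
  have hi : Function.Injective i := by
    rw [← LinearMap.ker_eq_bot]
    exact Submodule.ker_liftQ_eq_bot _ _ _ fun x hx => hm.le (WeakAss.mem_annEl.2 hx)
  obtain ⟨f₁, hf₁, hg₁⟩ := GenFree.exists_gfree (R := D) (M := ND ⧸ LinearMap.range i) BD
  obtain ⟨f₂, hf₂, hg₂⟩ := GenFree.exists_gfree (R := D) (M := BD ⧸ P) BD
  obtain ⟨ι₁, φ₁, hφ₁, hr₁⟩ := hg₁.of_dvd (dvd_mul_right f₁ f₂)
  obtain ⟨ι₂, φ₂, hφ₂, hr₂⟩ := hg₂.of_dvd (dvd_mul_left f₂ f₁)
  refine ⟨f₁ * f₂, mul_ne_zero hf₁ hf₂, fun s _ hfs => ?_⟩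
  let f := f₁ * f₂
  have hfpow : ∀ k : ℕ, f ^ k ∉ s := fun k h => hfs (‹s.IsPrime›.mem_of_pow_mem k h)
  choose ψ₀ hψ₀ using fun j : ι₁ => Submodule.Quotient.mk_surjective _ (φ₁ (Finsupp.single j 1))
  let ψ : (ι₁ →₀ D) →ₗ[D] ND := Finsupp.linearCombination D ψ₀
  let π : ND →ₗ[D] ND ⧸ LinearMap.range i := (Submodule.mkQ (LinearMap.range i)).restrictScalars D
  let iD : (BD ⧸ P) →ₗ[D] ND := i.restrictScalars D
  have hπi : ∀ e, π (iD e) = 0 := fun e => (Submodule.Quotient.mk_eq_zero _).2 ⟨e, rfl⟩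
  have hψπ : π ∘ₗ ψ = φ₁ := by
    refine Finsupp.lhom_ext fun j d => ?_
    rw [LinearMap.comp_apply, Finsupp.linearCombination_single, map_smul, ← mul_one d, ← smul_eq_mul,
      ← Finsupp.smul_single, map_smul, smul_eq_mul, mul_one]
    exact congrArg (d • ·) (hψ₀ j)
  -- decompose after inverting `f`
  have hdec : ∀ y ∈ s • (⊤ : Submodule D ND), ∃ (k : ℕ) (c : ι₁ →₀ D) (e : BD ⧸ P),
      e ∈ s • (⊤ : Submodule D (BD ⧸ P)) ∧ f ^ k • y = ψ c + iD e := by
    intro y hy
    refine Submodule.smul_induction_on hy (fun a ha v _ => ?_) fun a b ha hb => ?_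
    · obtain ⟨k, c, hc⟩ := hr₁ (π v)
      obtain ⟨e, he⟩ : f ^ k • v - ψ c ∈ LinearMap.range i := by
        rw [← Submodule.Quotient.mk_eq_zero]
        show π (f ^ k • v - ψ c) = 0
        rw [map_sub, map_smul, ← LinearMap.comp_apply π ψ c, hψπ, hc, sub_self]
      refine ⟨k, a • c, a • e, Submodule.smul_mem_smul ha Submodule.mem_top, ?_⟩
      rw [map_smul, map_smul, ← smul_add, smul_comm]
      congr 1
      exact (add_sub_cancel (ψ c) _).symm.trans (congrArg (ψ c + ·) he.symm)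
    · obtain ⟨k, c, e, he, hke⟩ := ha
      obtain ⟨l, c', e', he', hle⟩ := hb
      refine ⟨k + l, f ^ l • c + f ^ k • c', f ^ l • e + f ^ k • e',
        add_mem (Submodule.smul_mem _ _ he) (Submodule.smul_mem _ _ he'), ?_⟩
      rw [smul_add, pow_add, mul_smul, mul_smul, smul_comm (f ^ k) (f ^ l) a, hke, hle, map_add, map_add, map_smul,
        map_smul, map_smul, map_smul, smul_add, smul_add]
      abel
  -- the class of `m` survives at `s`
  have hy : FlatCA.toFiberMod s (S := BD) ND m ≠ 0 := by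
    intro h0
    obtain ⟨r, hr, hmem⟩ := (PurityBC.toFiberMod_eq_zero_iff s ND m).1 h0
    obtain ⟨k, c, e, he, hke⟩ := hdec _ hmem
    have him : iD (Submodule.Quotient.mk 1) = m := one_smul BD m
    have hc : c = 0 := by
      refine hφ₁ ?_
      rw [map_zero, ← hψπ, LinearMap.comp_apply, show ψ c = f ^ k • r • m - iD e from eq_sub_of_add_eq hke.symm,
        map_sub, map_smul, map_smul, hπi, sub_zero, ← him, hπi, smul_zero, smul_zero]
    rw [hc, map_zero, zero_add, ← him, ← map_smul, ← map_smul] at hke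
    have h1 : (f ^ k * r) • (Submodule.Quotient.mk 1 : BD ⧸ P) ∈ s • (⊤ : Submodule D (BD ⧸ P)) := by
      rw [mul_smul, hi hke]; exact he
    -- a basis element
    obtain ⟨l, c₁, hc₁⟩ := hr₂ (Submodule.Quotient.mk (1 : BD))
    obtain ⟨j, -⟩ : ∃ j, c₁ j ≠ 0 := by
      by_contra hc
      push Not at hc
      have h2 : c₁ = 0 := Finsupp.ext hc
      rw [h2, map_zero, ← algebraMap_smul BD, ← Submodule.Quotient.mk_smul, eq_comm, Submodule.Quotient.mk_eq_zero,
        smul_eq_mul, mul_one] at hc₁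
      have h3 : (f₁ * f₂) ^ l ∈ (⊥ : Ideal D) := by rw [hP.over]; exact hc₁
      exact pow_ne_zero l (mul_ne_zero hf₁ hf₂) h3
    obtain ⟨β, hβ⟩ := Submodule.Quotient.mk_surjective _ (φ₂ (Finsupp.single j 1))
    let μ : (BD ⧸ P) →ₗ[D] BD ⧸ P := (LinearMap.lsmul BD (BD ⧸ P) β).restrictScalars D
    have hμ : μ (Submodule.Quotient.mk 1) = φ₂ (Finsupp.single j 1) := by
      rw [← hβ]
      show β • (Submodule.Quotient.mk 1 : BD ⧸ P) = _
      rw [← Submodule.Quotient.mk_smul, smul_eq_mul, mul_one]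
    have h4 : (f ^ k * r) • φ₂ (Finsupp.single j 1) ∈ s • (⊤ : Submodule D (BD ⧸ P)) := by
      rw [← hμ, ← map_smul]
      have h5 := Submodule.mem_map_of_mem (f := μ) h1
      rw [Submodule.map_smul''] at h5
      exact Submodule.smul_mono le_rfl le_top h5
    have hcoord : ∀ y ∈ s • (⊤ : Submodule D (BD ⧸ P)), ∃ (K : ℕ) (d : ι₂ →₀ D), d j ∈ s ∧ f ^ K • y = φ₂ d := by
      intro y hy
      refine Submodule.smul_induction_on hy (fun a ha v _ => ?_) fun a b ha hb => ?_
      · obtain ⟨K, d, hd⟩ := hr₂ v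
        exact ⟨K, a • d, s.mul_mem_right _ ha, by rw [map_smul, hd, smul_comm]⟩
      · obtain ⟨K, d, hd, hKd⟩ := ha
        obtain ⟨L, d', hd', hLd⟩ := hb
        refine ⟨K + L, f ^ L • d + f ^ K • d', add_mem (s.mul_mem_left _ hd) (s.mul_mem_left _ hd'), ?_⟩
        rw [smul_add, pow_add, mul_smul, mul_smul, smul_comm (f ^ K) (f ^ L) a, hKd, hLd, map_add, map_smul, map_smul]
    obtain ⟨K, d, hd, hKd⟩ := hcoord _ h4
    rw [smul_smul, ← map_smul] at hKd
    have h6 := congrArg (fun c : ι₂ →₀ D => c j) (hφ₂ hKd)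
    simp only [Finsupp.smul_apply, Finsupp.single_eq_same, smul_eq_mul, mul_one] at h6
    rw [← h6] at hd
    rcases ‹s.IsPrime›.mem_or_mem hd with h | h
    · exact hfpow K h
    · rcases ‹s.IsPrime›.mem_or_mem h with h | h
      · exact hfpow k h
      · exact hr h
  haveI : IsNoetherianRing (s.Fiber BD) := Algebra.FiniteType.isNoetherianRing s.ResidueField _
  obtain ⟨Qh, hQh, hle⟩ := exists_le_isAssociatedPrime_of_isNoetherianRing (s.Fiber BD) _ hy
  haveI := hQh.1
  refine ⟨Qh.comap (Algebra.TensorProduct.includeRight (R := D) (A := s.ResidueField) (B := BD)).toRingHom,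
    inferInstance, fun a ha => hle ?_, PurityBC.liesOver_comap s Qh, ?_⟩
  · rw [Submodule.mem_colon_singleton, Submodule.mem_bot]
    show algebraMap BD (s.Fiber BD) a • _ = 0
    rw [AssFiber.algebraMap_smul_fiberMod, ← map_smul, WeakAss.mem_annEl.1 (hm.ge ha), map_zero]
  · rw [← FibAssIdeal.eq_fiberIdeal s rfl]
    exact hQh

/-- No impurity over a local algebra over the residue field at `p`. -/
theorem not_impurity_of_field {A B : Type u} [CommRing A] [CommRing B] [Algebra A B] [Algebra.FiniteType A B]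
    {N : Type u} [AddCommGroup N] [Module B N] [Module.Finite B N] {p : Ideal A} [p.IsPrime]
    (R S M : Type u) [CommRing R] [IsDomain R] [IsLocalRing R] [IsNoetherianRing R] [CommRing S] [Algebra A R]
    [Algebra B S] [Algebra R S] [Algebra A S] [IsScalarTower A B S] [IsScalarTower A R S]
    [AddCommGroup M] [Module S M] [Module B M] [IsScalarTower B S M] [Module R M] [IsScalarTower R S M]
    (f : N →ₗ[B] M) (t' : Ideal R) [t'.IsPrime] (ht' : t' = ⊥) (hp : ∀ a ∈ p, algebraMap A R a = 0)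
    (P : Ideal S) [P.IsPrime]
    (himp : FlatCA.IsImpurity A B N p R S M f t' (IsLocalRing.maximalIdeal R) P) : False := by
  subst ht'
  obtain ⟨hpush, hf, -, htp, hPt, hass, hno⟩ := himp
  haveI := hpush; haveI := htp; haveI := hPt
  haveI : Algebra.FiniteType R S := PurityBC.finiteType_of_isPushout A B R S
  haveI : IsNoetherianRing S := Algebra.FiniteType.isNoetherianRing R S
  haveI : IsNoetherianRing ((⊥ : Ideal R).Fiber S) := Algebra.FiniteType.isNoetherianRing (⊥ : Ideal R).ResidueField _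
  obtain ⟨m, hm⟩ := exists_annEl_eq P hass
  have htop : P ⊔ (IsLocalRing.maximalIdeal R).map (algebraMap R S) = ⊤ := by
    by_contra hne
    obtain ⟨Q, hQ, hle⟩ := Ideal.exists_le_maximal _ hne
    haveI := hQ.isPrime
    refine hno Q (le_sup_left.trans hle) ⟨?_⟩
    exact (IsLocalRing.maximalIdeal.isMaximal R).eq_of_le (Ideal.IsPrime.comap _).ne_top
      (Ideal.map_le_iff_le_comap.1 (le_sup_right.trans hle))
  -- `R` is an algebra over `κ(p)`
  have hu : p.primeCompl ≤ (IsUnit.submonoid R).comap (algebraMap A R) := fun a ha => by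
    show IsUnit (algebraMap A R a)
    by_contra h
    exact ha ((Ideal.mem_of_liesOver (IsLocalRing.maximalIdeal R) p a).2 h)
  letI : Algebra p.ResidueField R := (Ideal.ResidueField.lift p (algebraMap A R) hp hu).toAlgebra
  haveI : IsScalarTower A p.ResidueField R :=
    IsScalarTower.of_algebraMap_eq fun a => (Ideal.ResidueField.lift_algebraMap _ (algebraMap A R) hp hu a).symm
  letI : Module A N := Module.compHom N (algebraMap A B)
  haveI : IsScalarTower A B N := IsScalarTower.of_algebraMap_smul fun _ _ => rfl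
  letI : Module A M := Module.compHom M (algebraMap A R)
  haveI : IsScalarTower A R M := IsScalarTower.of_algebraMap_smul fun _ _ => rfl
  haveI : IsScalarTower A S M := IsScalarTower.of_algebraMap_smul fun a x => by
    rw [IsScalarTower.algebraMap_apply A R S, algebraMap_smul]; rfl
  haveI : IsScalarTower A B M := IsScalarTower.to₁₂₄ A B S M
  haveI : Algebra.IsPushout A R B S := hpush.symm
  have hfR : IsBaseChange R (f.restrictScalars A) := QCart13.isBaseChange_of_pushout f hf
  haveI : Module.Free R (R ⊗[A] N) :=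
    Module.Free.of_equiv (AlgebraTensorModule.cancelBaseChange A p.ResidueField R R N)
  haveI : Module.Free R M := Module.Free.of_equiv hfR.equiv
  let b := Module.Free.chooseBasis R M
  refine Groth.Agent.S1213.result M (Module.Free.ChooseBasisIndex R M) (fun i => Submodule.span R {b i})
    (DirectSum.isInternal_submodule_of_iSupIndep_of_iSup_eq_top b.linearIndependent.iSupIndep_span_singleton
      (by rw [← Submodule.span_range_eq_iSup]; exact b.span_eq))
    (fun i => Module.Finite.span_of_finite R (Set.finite_singleton _)) R P ?_ htop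
  refine WeakAss.mem_ass_iff.2 ⟨inferInstance, (TensorProduct.AlgebraTensorModule.rid R S M).symm m, ?_⟩
  exact hm.symm.trans (WeakAss.annEl_map_of_injective
    (TensorProduct.AlgebraTensorModule.rid R S M).symm.toLinearMap (LinearEquiv.injective _) m).symm

/-- An impurity with given base change and base points. -/
def Imp (A B : Type u) [CommRing A] [CommRing B] [Algebra A B] (N : Type u) [AddCommGroup N] [Module B N]
    (p : Ideal A) [p.IsPrime] (A₂ : Type u) [CommRing A₂] [Algebra A A₂] (t' t : Ideal A₂) [t'.IsPrime] [t.IsPrime] :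
    Prop :=
  ∃ (B₂ N₂ : Type u) (_ : CommRing B₂) (_ : Algebra B B₂) (_ : Algebra A₂ B₂) (_ : Algebra A B₂)
    (_ : IsScalarTower A B B₂) (_ : IsScalarTower A A₂ B₂) (_ : AddCommGroup N₂) (_ : Module B₂ N₂)
    (_ : Module B N₂) (_ : IsScalarTower B B₂ N₂) (_ : Module A₂ N₂) (_ : IsScalarTower A₂ B₂ N₂)
    (f : N →ₗ[B] N₂) (P : Ideal B₂) (_ : P.IsPrime), FlatCA.IsImpurity A B N p A₂ B₂ N₂ f t' t P

section Main

variable {A B : Type u} [CommRing A] [CommRing B] [Algebra A B] [Algebra.FiniteType A B]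
  {N : Type u} [AddCommGroup N] [Module B N] {p : Ideal A} [p.IsPrime]

theorem imp_model {A₁ B₁ N₁ : Type u} [CommRing A₁] [CommRing B₁] [Algebra A A₁] [Algebra B B₁] [Algebra A₁ B₁]
    [Algebra A B₁] [IsScalarTower A B B₁] [IsScalarTower A A₁ B₁] [AddCommGroup N₁] [Module B₁ N₁]
    [Module B N₁] [IsScalarTower B B₁ N₁] [Module A₁ N₁] [IsScalarTower A₁ B₁ N₁]
    {f₁ : N →ₗ[B] N₁} {t' t : Ideal A₁} [t'.IsPrime] [t.IsPrime] {P : Ideal B₁} [P.IsPrime]
    (himp : FlatCA.IsImpurity A B N p A₁ B₁ N₁ f₁ t' t P)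
    (A₂ B₂ : Type u) [CommRing A₂] [CommRing B₂] [Algebra A A₂] [Algebra A₁ A₂] [IsScalarTower A A₁ A₂]
    [Algebra B B₂] [Algebra A₂ B₂] [Algebra A B₂] [IsScalarTower A B B₂] [IsScalarTower A A₂ B₂]
    [Algebra.IsPushout A B A₂ B₂] (t₂' t₂ : Ideal A₂) [t₂'.IsPrime] [t₂.IsPrime]
    [t₂'.LiesOver t'] [t₂.LiesOver t] (hle : t₂' ≤ t₂) : Imp A B N p A₂ t₂' t₂ := by
  haveI : IsScalarTower A₂ B₂ (B₂ ⊗[B] N) := TensorProduct.isScalarTower_left
  obtain ⟨P₂, hP₂, h⟩ := PurityBC.IsImpurity.propagate himp A₂ B₂ (B₂ ⊗[B] N) (TensorProduct.mk B B₂ N 1)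
    (TensorProduct.isBaseChange B N B₂) t₂' t₂ hle
  exact ⟨B₂, B₂ ⊗[B] N, inferInstance, inferInstance, inferInstance, inferInstance, inferInstance, inferInstance,
    inferInstance, inferInstance, inferInstance, inferInstance, inferInstance, inferInstance, _, P₂, hP₂, h⟩

theorem imp_baseChange {A₁ : Type u} [CommRing A₁] [Algebra A A₁] {t' t : Ideal A₁} [t'.IsPrime] [t.IsPrime]
    (h : Imp A B N p A₁ t' t)
    (A₂ : Type u) [CommRing A₂] [Algebra A A₂] [Algebra A₁ A₂] [IsScalarTower A A₁ A₂]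
    (t₂' t₂ : Ideal A₂) [t₂'.IsPrime] [t₂.IsPrime] [t₂'.LiesOver t'] [t₂.LiesOver t] (hle : t₂' ≤ t₂) :
    Imp A B N p A₂ t₂' t₂ := by
  obtain ⟨B₁, N₁, _, _, _, _, _, _, _, _, _, _, _, _, f₁, P, _, himp⟩ := h
  haveI : Algebra.IsPushout A B A₂ (A₂ ⊗[A] B) := Algebra.IsPushout.symm inferInstance
  exact imp_model himp A₂ (A₂ ⊗[A] B) t₂' t₂ hle

variable [Module.Finite B N]

/-- The specialization step over a domain. -/
theorem exists_imp_specialization {D : Type u} [CommRing D] [IsDomain D] [IsNoetherianRing D] [Algebra A D]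
    (t : Ideal D) [t.IsPrime] (h : Imp A B N p D ⊥ t) (a : A) (ha : algebraMap A D a ≠ 0) :
    ∃ (s : Ideal D) (_ : s.IsPrime) (F : D), s ≤ t ∧ F ∉ s ∧ algebraMap A D a ∉ s ∧
      (∀ q : Ideal D, q.IsPrime → s ≤ q → q ≤ t → q ≠ s → F ∈ q) ∧ Imp A B N p D s t := by
  obtain ⟨BD, ND, _, _, _, _, _, _, _, _, _, _, _, _, f, P, _, himp⟩ := h
  obtain ⟨hpush, hf, -, htp, hPt, hass, hno⟩ := himp
  haveI := hpush; haveI := hPt; haveI := htp
  haveI : Algebra.FiniteType D BD := PurityBC.finiteType_of_isPushout A B D BD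
  haveI : IsNoetherianRing BD := Algebra.FiniteType.isNoetherianRing D BD
  haveI : IsNoetherianRing ((⊥ : Ideal D).Fiber BD) :=
    Algebra.FiniteType.isNoetherianRing (⊥ : Ideal D).ResidueField _
  haveI : Module.Finite BD ND := Module.Finite.equiv hf.equiv
  obtain ⟨m, hm⟩ := exists_annEl_eq P hass
  obtain ⟨g, hg, hspec⟩ := exists_assoc_specialization (D := D) P hm
  let F := g * algebraMap A D a
  obtain ⟨s, ⟨hs, hst, hFs⟩, hsmax⟩ := set_has_maximal_iff_noetherian.2 ‹IsNoetherianRing D›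
    {s : Ideal D | s.IsPrime ∧ s ≤ t ∧ F ∉ s}
    ⟨⊥, Ideal.bot_prime, bot_le, fun hF => mul_ne_zero hg ha (by simpa [F] using hF)⟩
  haveI := hs
  obtain ⟨Q, hQ, hPQ, hQs, hQass⟩ := hspec s hs fun h => hFs (Ideal.mul_mem_right _ _ h)
  refine ⟨s, hs, F, hst, hFs, fun h => hFs (Ideal.mul_mem_left _ _ h), fun q hq hsq hqt hne => ?_, BD, ND,
    inferInstance, inferInstance, inferInstance, inferInstance, inferInstance, inferInstance, inferInstance,
    inferInstance, inferInstance, inferInstance, inferInstance, inferInstance, f, Q, hQ,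
    hpush, hf, hst, htp, hQs, hQass, fun P' hP' hle => hno P' (hPQ.trans hle)⟩
  by_contra hFq
  exact hsmax q ⟨hq, hqt, hFq⟩ (lt_of_le_of_ne hsq (Ne.symm hne))

/-- Over a Noetherian base every impurity gives a quasi-finite one. -/
theorem hasImpurity_quasiFinite [IsNoetherianRing A]
    (h : FlatCA.HasImpurity A B N p (fun _ _ _ _ => True)) :
    FlatCA.HasImpurity A B N p
      (fun A' _ _ t => ∃ _ : t.IsPrime, Algebra.FiniteType A A' ∧ Algebra.QuasiFiniteAt A t) := by
  obtain ⟨A₀, B₀, N₀, _, _, _, _, _, _, _, _, _, _, _, _, _, _, f₀, t₀', t₀, _, _, P₀, _, himp₀, -⟩ := h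
  obtain ⟨A', B', N', _, _, _, _, _, _, _, _, _, _, _, _, _, _, f, t', t, _, _, P, _, himp, hfp, hclosed⟩ :=
    ImpurityFP.hasImpurity_fp himp₀
  haveI := hfp
  haveI : IsNoetherianRing A' := Algebra.FiniteType.isNoetherianRing A A'
  haveI := himp.2.2.2.1
  have hmax : ∀ q : Ideal A', q.IsPrime → q.LiesOver p → t ≤ q → q = t := fun q hq hqp htq => by
    haveI := hq; haveI := hqp
    have h1 : FlatCA.fiberIdeal p t = FlatCA.fiberIdeal p q :=
      hclosed.eq_of_le (NzdUnivInj.isPrime_fiberIdeal p q).ne_top (Ideal.map_mono htq)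
    obtain ⟨⟨T, hT1⟩, hT2⟩ := NzdUnivInj.exists_prime_fiber p q
    obtain ⟨⟨T', hT'1⟩, hT'2⟩ := NzdUnivInj.exists_prime_fiber p t
    rw [← hT2, ← hT'2]
    show Ideal.comap _ T = Ideal.comap _ T'
    have e1 : T = _ := FibAssIdeal.eq_fiberIdeal p hT2
    have e2 : T' = _ := FibAssIdeal.eq_fiberIdeal p hT'2
    rw [e1, e2, h1]
  have hle : t' ≤ t := himp.2.2.1
  let D := A' ⧸ t'
  let tD : Ideal D := t.map (Ideal.Quotient.mk t')
  haveI : tD.IsPrime := Ideal.map_isPrime_of_surjective Ideal.Quotient.mk_surjective (by rwa [Ideal.mk_ker])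
  have htD : tD.comap (algebraMap A' D) = t := by
    show (t.map (Ideal.Quotient.mk t')).comap (Ideal.Quotient.mk t') = t
    rw [Ideal.comap_map_of_surjective _ Ideal.Quotient.mk_surjective, ← RingHom.ker_eq_comap_bot, Ideal.mk_ker,
      sup_eq_left.2 hle]
  haveI : tD.LiesOver t := ⟨htD.symm⟩
  haveI : (⊥ : Ideal D).IsPrime := Ideal.bot_prime
  haveI : (⊥ : Ideal D).LiesOver t' := ⟨(Ideal.mk_ker (I := t')).symm⟩
  have himpD : Imp A B N p D ⊥ tD := by
    refine imp_baseChange (A₁ := A') (t' := t') (t := t) ?_ D ⊥ tD bot_le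
    exact ⟨B', N', inferInstance, inferInstance, inferInstance, inferInstance, inferInstance, inferInstance,
      inferInstance, inferInstance, inferInstance, inferInstance, inferInstance, inferInstance, f, P, inferInstance, himp⟩
  haveI : tD.LiesOver p := Ideal.LiesOver.trans tD t p
  by_cases hp : ∀ a ∈ p, algebraMap A D a = 0
  · exfalso
    let R := Localization.AtPrime tD
    haveI : IsDomain R := IsLocalization.isDomain_localization tD.primeCompl_le_nonZeroDivisors
    haveI : IsNoetherianRing R := IsLocalization.isNoetherianRing tD.primeCompl R inferInstance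
    haveI : (⊥ : Ideal R).IsPrime := Ideal.bot_prime
    haveI : (⊥ : Ideal R).LiesOver (⊥ : Ideal D) := ⟨(Ideal.comap_bot_of_injective _
      (IsLocalization.injective R tD.primeCompl_le_nonZeroDivisors)).symm⟩
    haveI : (IsLocalRing.maximalIdeal R).LiesOver tD := ⟨(IsLocalization.AtPrime.under_maximalIdeal R tD).symm⟩
    obtain ⟨B₂, N₂, _, _, _, _, _, _, _, _, _, _, _, _, f₂, P₂, _, himpR⟩ :=
      imp_baseChange himpD R ⊥ (IsLocalRing.maximalIdeal R) bot_le
    refine not_impurity_of_field R B₂ N₂ f₂ ⊥ rfl (fun a ha => ?_) P₂ himpR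
    rw [IsScalarTower.algebraMap_apply A D R, hp a ha, map_zero]
  · push Not at hp
    obtain ⟨a, hap, ha⟩ := hp
    obtain ⟨s, _, F, hst, hFs, has, hbet, himpS⟩ := exists_imp_specialization tD himpD a ha
    let E := D ⧸ s
    let tE : Ideal E := tD.map (Ideal.Quotient.mk s)
    haveI : tE.IsPrime := Ideal.map_isPrime_of_surjective Ideal.Quotient.mk_surjective (by rwa [Ideal.mk_ker])
    have htE : tE.comap (algebraMap D E) = tD := by
      show (tD.map (Ideal.Quotient.mk s)).comap (Ideal.Quotient.mk s) = tD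
      rw [Ideal.comap_map_of_surjective _ Ideal.Quotient.mk_surjective, ← RingHom.ker_eq_comap_bot, Ideal.mk_ker,
        sup_eq_left.2 hst]
    haveI : tE.LiesOver tD := ⟨htE.symm⟩
    haveI : (⊥ : Ideal E).IsPrime := Ideal.bot_prime
    haveI : (⊥ : Ideal E).LiesOver s := ⟨(Ideal.mk_ker (I := s)).symm⟩
    haveI : tE.LiesOver p := Ideal.LiesOver.trans tE tD p
    obtain ⟨B₂, N₂, _, _, _, _, _, _, _, _, _, _, _, _, f₂, P₂, _, himpE⟩ := imp_baseChange himpS E ⊥ tE bot_le
    haveI : Algebra.FiniteType A E :=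
      Algebra.FiniteType.of_surjective ((Ideal.Quotient.mkₐ A s).comp (Ideal.Quotient.mkₐ A t'))
        (Ideal.Quotient.mk_surjective.comp Ideal.Quotient.mk_surjective)
    refine ⟨E, B₂, N₂, inferInstance, inferInstance, inferInstance, inferInstance, inferInstance, inferInstance,
      inferInstance, inferInstance, inferInstance, inferInstance, inferInstance, inferInstance, inferInstance,
      inferInstance, f₂, ⊥, tE, inferInstance, inferInstance, P₂, inferInstance, himpE, inferInstance, inferInstance,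
      quasiFiniteAt_of_isolated p tE (fun q hq hqp hle' => ?_) fun q hq hqp hle' => ?_⟩
    · haveI := hq; haveI := hqp
      let qD := q.comap (algebraMap D E)
      haveI : q.LiesOver qD := ⟨rfl⟩
      haveI : (qD.comap (algebraMap A' D)).LiesOver p := ⟨by
        rw [Ideal.under_def, Ideal.comap_comap, ← IsScalarTower.algebraMap_eq, Ideal.comap_comap,
          ← IsScalarTower.algebraMap_eq]
        exact hqp.over⟩
      have h1 := hmax (qD.comap (algebraMap A' D)) inferInstance inferInstance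
        (htD.ge.trans (Ideal.comap_mono (htE.ge.trans (Ideal.comap_mono hle'))))
      refine Ideal.comap_injective_of_surjective (algebraMap D E) Ideal.Quotient.mk_surjective ?_
      refine Ideal.comap_injective_of_surjective (algebraMap A' D) Ideal.Quotient.mk_surjective ?_
      exact h1.trans (by rw [htE, htD])
    · haveI := hq; haveI := hqp
      by_cases hq0 : q = ⊥
      · refine absurd ?_ has
        have h1 : algebraMap A E a ∈ q := by
          have := hqp.over.le hap
          exact this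
        rw [hq0, Ideal.mem_bot, IsScalarTower.algebraMap_apply A D E] at h1
        exact Ideal.Quotient.eq_zero_iff_mem.1 h1
      · refine no_prime_between tE (f := algebraMap D E F) (fun h0 => hFs (Ideal.Quotient.eq_zero_iff_mem.1 h0))
          (fun b hb hbt hb0 => ?_) q hle' hq0
        haveI := hb
        refine hbet (b.comap (algebraMap D E)) inferInstance ?_ ((Ideal.comap_mono hbt).trans htE.le) fun h1 => hb0 ?_
        · exact (Ideal.mk_ker (I := s)).ge.trans (Ideal.comap_mono bot_le)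
        · exact Ideal.comap_injective_of_surjective (algebraMap D E) Ideal.Quotient.mk_surjective
            (h1.trans (Ideal.mk_ker (I := s)).symm)

end Main

end Groth.Agent.ZClosLib.ImpurityQF
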