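import Mathlib
import Groth.Agent.FreeCompl.Basic
import Groth.Agent.CAlgUI.Basic
import Groth.Agent.CAlgUI.ML
import Groth.Agent.CAlgUI.FlatML
import Groth.Agent.S6270

/-!
# Completions of free and of flat-with-projective-reduction modules are flat Mittag-Leffler

Over an `I`-adically complete Noetherian ring the completion of a free module is universally injective in the
product, by Artin–Rees.  If `M` is flat with `M/IM` projective then `M^` is a direct summand of the completion
of a free module.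
-/

set_option autoImplicit false

universe u

open TensorProduct

namespace Groth.Agent.ZClosLib.AdicML

section Free

variable {R : Type u} [CommRing R] [IsNoetherianRing R] (I : Ideal R) [IsAdicComplete I R] {α : Type u}

/-- The completion of a free module inside the product. -/
noncomputable def toPi : AdicCompletion I (α →₀ R) →ₗ[R] (α → R) :=
  LinearMap.pi fun a =>
    (AdicCompletion.ofLinearEquiv I R).symm.toLinearMap ∘ₗ
      ((AdicCompletion.map I (Finsupp.lapply a : (α →₀ R) →ₗ[R] R)).restrictScalars R)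

theorem toPi_mk_sub_mem (f : AdicCompletion.AdicCauchySequence I (α →₀ R)) (a : α) (n : ℕ) :
    f n a - toPi I (AdicCompletion.mk I _ f) a ∈ I ^ n := by
  have h := AdicCompletion.of_ofLinearEquiv_symm I
    (AdicCompletion.map I (Finsupp.lapply a : (α →₀ R) →ₗ[R] R) (AdicCompletion.mk I _ f))
  have h1 := congrArg (fun z : AdicCompletion I R => z.val n) h
  have h2 : f n a - toPi I (AdicCompletion.mk I _ f) a ∈ (I ^ n • ⊤ : Submodule R R) :=
    (Submodule.Quotient.eq _).1 h1.symm
  rwa [smul_eq_mul, Ideal.mul_top] at h2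

theorem toPi_injective : Function.Injective (toPi (α := α) I) := by
  refine (injective_iff_map_eq_zero _).2 fun c hc => ?_
  obtain ⟨f, rfl⟩ := AdicCompletion.mk_surjective I _ c
  refine AdicCompletion.ext fun n => ?_
  rw [AdicCompletion.val_zero]
  show Submodule.Quotient.mk (f n) = 0
  rw [Submodule.Quotient.mk_eq_zero, FreeCompl.mem_pow_smul_top_iff]
  intro a
  simpa [hc] using toPi_mk_sub_mem I f a n

theorem finite_of_toPi (c : AdicCompletion I (α →₀ R)) (n : ℕ) : {a | toPi I c a ∉ I ^ n}.Finite := by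
  obtain ⟨f, rfl⟩ := AdicCompletion.mk_surjective I _ c
  refine (f n).support.finite_toSet.subset fun a ha => ?_
  rw [Finset.mem_coe, Finsupp.mem_support_iff]
  intro h0
  refine ha ?_
  have := toPi_mk_sub_mem I f a n
  rw [h0, zero_sub] at this
  simpa using neg_mem this

theorem exists_toPi (d : α → R) (hd : ∀ n, {a | d a ∉ I ^ n}.Finite) : ∃ c, toPi I c = d := by
  classical
  let u : ℕ → α →₀ R := fun n => Finsupp.onFinset (hd n).toFinset (fun a => if d a ∈ I ^ n then 0 else d a)
    fun a ha => by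
      rw [Set.Finite.mem_toFinset]
      intro h
      exact ha (if_pos h)
  have hu : ∀ n a, u n a - d a ∈ I ^ n := fun n a => by
    simp only [u, Finsupp.onFinset_apply]
    by_cases h : d a ∈ I ^ n
    · rw [if_pos h, zero_sub]; exact neg_mem h
    · rw [if_neg h, sub_self]; exact zero_mem _
  have hcauchy : AdicCompletion.IsAdicCauchy I (α →₀ R) u := fun {m n} hmn => by
    rw [SModEq.sub_mem, FreeCompl.mem_pow_smul_top_iff]
    intro a
    have := sub_mem (hu m a) (Ideal.pow_le_pow_right hmn (hu n a))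
    simpa [Finsupp.sub_apply] using this
  refine ⟨AdicCompletion.mk I _ ⟨u, hcauchy⟩, funext fun a => ?_⟩
  refine sub_eq_zero.1 (IsHausdorff.haus' (I := I) _ fun n => ?_)
  rw [SModEq.zero, smul_eq_mul, Ideal.mul_top]
  have := sub_mem (hu n a) (toPi_mk_sub_mem I ⟨u, hcauchy⟩ a n)
  simpa using this

/-- Artin–Rees, uniformly in the coordinate. -/
theorem exists_decomposition (J : Ideal R) (d : α → R) (hd : ∀ n, {a | d a ∉ I ^ n}.Finite) (hJ : ∀ a, d a ∈ J) :
    ∃ (s : ℕ) (g : Fin s → R) (e : Fin s → α → R), (∀ i, g i ∈ J) ∧ (∀ i n, {a | e i a ∉ I ^ n}.Finite) ∧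
      ∀ a, d a = ∑ i, g i * e i a := by
  classical
  obtain ⟨k, hk⟩ := Ideal.exists_pow_inf_eq_pow_smul I J
  obtain ⟨s, g, hg⟩ := Submodule.fg_iff_exists_fin_generating_family.1 (IsNoetherian.noetherian J)
  have hgJ : ∀ i, g i ∈ J := fun i => hg ▸ Submodule.subset_span ⟨i, rfl⟩
  have step : ∀ (x : R) (n : ℕ), x ∈ I ^ (n + k) → x ∈ J → ∃ e : Fin s → R, (∀ i, e i ∈ I ^ n) ∧ x = ∑ i, g i * e i := by
    intro x n hx hxJ
    have h1 : x ∈ I ^ (n + k) • (⊤ : Submodule R R) ⊓ J := ⟨by rwa [smul_eq_mul, Ideal.mul_top], hxJ⟩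
    rw [hk (n + k) (by omega), Nat.add_sub_cancel] at h1
    have h2 : x ∈ I ^ n • J := Submodule.smul_mono le_rfl inf_le_right h1
    clear h1 hx hxJ
    refine Submodule.smul_induction_on h2 (fun r hr y hy => ?_) fun y z hy hz => ?_
    · rw [← hg, Submodule.mem_span_range_iff_exists_fun] at hy
      obtain ⟨q, hq⟩ := hy
      refine ⟨fun i => r * q i, fun i => Ideal.mul_mem_right _ _ hr, ?_⟩
      rw [← hq, smul_eq_mul, Finset.mul_sum]
      exact Finset.sum_congr rfl fun i _ => by rw [smul_eq_mul]; ring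
    · obtain ⟨q, hq, rfl⟩ := hy
      obtain ⟨q', hq', rfl⟩ := hz
      exact ⟨q + q', fun i => add_mem (hq i) (hq' i), by simp [mul_add, Finset.sum_add_distrib]⟩
  have step0 : ∀ x ∈ J, ∃ e : Fin s → R, x = ∑ i, g i * e i := fun x hx => by
    rw [← hg, Submodule.mem_span_range_iff_exists_fun] at hx
    obtain ⟨e, he⟩ := hx
    exact ⟨e, he ▸ Finset.sum_congr rfl fun i _ => mul_comm _ _⟩
  choose e0 he0 using step0
  choose e1 he1 he1' using step
  have hex : ∀ a, d a ≠ 0 → ∃ n, d a ∉ I ^ n := fun a ha => by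
    by_contra hcon
    exact ha (IsHausdorff.haus' (I := I) _ fun n => by
      rw [SModEq.zero, smul_eq_mul, Ideal.mul_top]; exact not_not.1 fun h => hcon ⟨n, h⟩)
  let ord : α → ℕ := fun a => if ha : d a ≠ 0 then Nat.find (hex a ha) else 0
  have hord : ∀ a n, n < ord a → d a ∈ I ^ n := fun a n h => by
    simp only [ord] at h
    by_cases ha : d a ≠ 0
    · rw [dif_pos ha] at h; exact not_not.1 (Nat.find_min (hex a ha) h)
    · rw [dif_neg ha] at h; omega
  have hord0 : ∀ a n, d a ≠ 0 → d a ∈ I ^ n → n < ord a := fun a n ha h => by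
    simp only [ord, dif_pos ha]
    by_contra hle
    exact Nat.find_spec (hex a ha) (Ideal.pow_le_pow_right (not_lt.1 hle) h)
  let e : Fin s → α → R := fun i a =>
    if d a = 0 then 0 else if h : k < ord a then e1 (d a) (ord a - 1 - k) (hord a _ (by omega)) (hJ a) i
      else e0 (d a) (hJ a) i
  refine ⟨s, g, e, hgJ, fun i n => (hd (n + k)).subset fun a ha => ?_, fun a => ?_⟩
  · intro hmem
    refine ha ?_
    by_cases h0 : d a = 0
    · simp [e, h0]
    · have hlt := hord0 a _ h0 hmem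
      simp only [e, if_neg h0, dif_pos (show k < ord a by omega)]
      exact Ideal.pow_le_pow_right (by omega) (he1 (d a) (ord a - 1 - k) _ _ i)
  · by_cases h0 : d a = 0
    · simp [e, h0]
    · by_cases h : k < ord a
      · simp only [e, if_neg h0, dif_pos h]; exact he1' (d a) _ _ _
      · simp only [e, if_neg h0, dif_neg h]; exact he0 (d a) _

theorem universallyInjective_toPi : CAlgX.UniversallyInjective R (toPi (α := α) I) := by
  haveI : Module.Flat R (α → R) := CAlgUI.flat_powers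
    (fun J _ => Module.finitePresentation_of_finite R J) α
  refine (CAlgUI.ui_iff_quotient_ideals _).2 fun J _ => ?_
  refine (injective_iff_map_eq_zero _).2 fun x hx => ?_
  obtain ⟨c, rfl⟩ : ∃ c, c ⊗ₜ[R] (1 : R ⧸ J) = x := by
    obtain ⟨y, hy⟩ := Submodule.Quotient.mk_surjective _ (TensorProduct.tensorQuotEquivQuotSMul _ J x)
    refine ⟨y, (TensorProduct.tensorQuotEquivQuotSMul (AdicCompletion I (α →₀ R)) J).injective ?_⟩
    rw [← hy, ← map_one (Ideal.Quotient.mk J), TensorProduct.tensorQuotEquivQuotSMul_tmul_mk, one_smul]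
  rw [LinearMap.rTensor_tmul] at hx
  have hmem : toPi I c ∈ (J • ⊤ : Submodule R (α → R)) := by
    rw [← Submodule.Quotient.mk_eq_zero]
    have := congrArg (TensorProduct.tensorQuotEquivQuotSMul (α → R) J) hx
    rwa [← map_one (Ideal.Quotient.mk J), TensorProduct.tensorQuotEquivQuotSMul_tmul_mk, one_smul, map_zero] at this
  have hJ : ∀ a, toPi I c a ∈ J := fun a => by
    refine Submodule.smul_induction_on (p := fun z : α → R => z a ∈ J) hmem (fun r hr z _ => ?_) fun y z hy hz => ?_
    · exact Ideal.mul_mem_right _ _ hr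
    · exact add_mem hy hz
  obtain ⟨s, g, e, hg, he, hsum⟩ := exists_decomposition I J (toPi I c) (finite_of_toPi I c) hJ
  choose ce hce using fun i => exists_toPi I (e i) (he i)
  have hc : c = ∑ i, g i • ce i := toPi_injective I (by
    rw [map_sum]
    refine funext fun a => ?_
    simp [hce, hsum a, Finset.sum_apply])
  rw [hc, TensorProduct.sum_tmul]
  refine Finset.sum_eq_zero fun i _ => ?_
  rw [TensorProduct.smul_tmul, Algebra.smul_def, mul_one, Ideal.Quotient.algebraMap_eq,
    Ideal.Quotient.eq_zero_iff_mem.2 (hg i), TensorProduct.tmul_zero]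

theorem ml_completion_finsupp : CAlg.IsMittagLeffler R (AdicCompletion I (α →₀ R)) :=
  CAlgUI.ml_of_ui _ (universallyInjective_toPi I) (CAlgUI.ml_powers α)

end Free

section Quot

variable {R : Type u} [CommRing R] (I : Ideal R) (M : Type u) [AddCommGroup M] [Module R M] [Module.Flat R M]

theorem projective_quotient_pow [Module.Projective (R ⧸ I) (M ⧸ (I • ⊤ : Submodule R M))] {n : ℕ} (hn : 1 ≤ n) :
    Module.Projective (R ⧸ I ^ n) (M ⧸ (I ^ n • ⊤ : Submodule R M)) := by
  have b₁ : IsBaseChange (R ⧸ I ^ n) ((I ^ n • ⊤ : Submodule R M).mkQ) :=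
    IsBaseChange.of_equiv (TensorProduct.quotTensorEquivQuotSMul M (I ^ n) |>.extendScalarsOfSurjective
      Ideal.Quotient.mk_surjective) fun x => by
        show TensorProduct.quotTensorEquivQuotSMul M (I ^ n) ((1 : R ⧸ I ^ n) ⊗ₜ[R] x) = _
        rw [← map_one (Ideal.Quotient.mk (I ^ n)), TensorProduct.quotTensorEquivQuotSMul_mk_tmul, one_smul]
        rfl
  have b₂ : IsBaseChange (R ⧸ I) ((I • ⊤ : Submodule R M).mkQ) :=
    IsBaseChange.of_equiv (TensorProduct.quotTensorEquivQuotSMul M I |>.extendScalarsOfSurjective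
      Ideal.Quotient.mk_surjective) fun x => by
        show TensorProduct.quotTensorEquivQuotSMul M I ((1 : R ⧸ I) ⊗ₜ[R] x) = _
        rw [← map_one (Ideal.Quotient.mk I), TensorProduct.quotTensorEquivQuotSMul_mk_tmul, one_smul]
        rfl
  haveI : Module.Flat (R ⧸ I ^ n) (M ⧸ (I ^ n • ⊤ : Submodule R M)) := Module.Flat.isBaseChange R _ M _ b₁
  let K : Ideal (R ⧸ I ^ n) := I.map (Ideal.Quotient.mk (I ^ n))
  have hK : IsNilpotent K := ⟨n, by rw [← Ideal.map_pow, Ideal.map_quotient_self]; rfl⟩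
  have hker : ∀ a ∈ I, algebraMap R ((R ⧸ I ^ n) ⧸ K) a = 0 := fun a ha => by
    rw [IsScalarTower.algebraMap_apply R (R ⧸ I ^ n) ((R ⧸ I ^ n) ⧸ K), Ideal.Quotient.algebraMap_eq,
      Ideal.Quotient.eq_zero_iff_mem]
    exact Ideal.mem_map_of_mem _ ha
  letI : Algebra (R ⧸ I) ((R ⧸ I ^ n) ⧸ K) := (Ideal.Quotient.lift I (algebraMap R ((R ⧸ I ^ n) ⧸ K)) hker).toAlgebra
  haveI : IsScalarTower R (R ⧸ I) ((R ⧸ I ^ n) ⧸ K) := IsScalarTower.of_algebraMap_eq fun a => rfl
  have c₁ := b₁.comp (TensorProduct.isBaseChange (R ⧸ I ^ n) (M ⧸ (I ^ n • ⊤ : Submodule R M)) ((R ⧸ I ^ n) ⧸ K))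
  have c₂ := b₂.comp (TensorProduct.isBaseChange (R ⧸ I) (M ⧸ (I • ⊤ : Submodule R M)) ((R ⧸ I ^ n) ⧸ K))
  haveI : Module.Projective ((R ⧸ I ^ n) ⧸ K) (((R ⧸ I ^ n) ⧸ K) ⊗[R ⧸ I] (M ⧸ (I • ⊤ : Submodule R M))) :=
    inferInstance
  exact S6270.result K hK _ (Module.Projective.of_equiv (c₂.equiv.symm.trans c₁.equiv))

omit [Module.Flat R M] in
/-- Lifting against a surjection of modules killed by `J` out of a projective `R/J`-module. -/
theorem exists_lift {J : Ideal R} {P X Y : Type u} [AddCommGroup P] [Module R P] [Module (R ⧸ J) P]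
    [IsScalarTower R (R ⧸ J) P] [Module.Projective (R ⧸ J) P] [AddCommGroup X] [Module R X] [AddCommGroup Y] [Module R Y]
    (p : X →ₗ[R] Y) (hp : Function.Surjective p) (hX : ∀ a ∈ J, ∀ x : X, a • x = 0) (g : P →ₗ[R] Y) :
    ∃ h : P →ₗ[R] X, p ∘ₗ h = g := by
  have tX : Module.IsTorsionBySet R X (J : Set R) := fun x a => hX a a.2 x
  have tY : Module.IsTorsionBySet R Y (J : Set R) := fun y a => by
    obtain ⟨x, rfl⟩ := hp y
    rw [← map_smul]
    exact (congrArg p (hX (a : R) a.2 x)).trans (map_zero p)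
  letI : Module (R ⧸ J) X := tX.module
  letI : Module (R ⧸ J) Y := tY.module
  haveI : IsScalarTower R (R ⧸ J) X := tX.isScalarTower
  haveI : IsScalarTower R (R ⧸ J) Y := tY.isScalarTower
  obtain ⟨h, hh⟩ := Module.projective_lifting_property
    (LinearMap.extendScalarsOfSurjective (S := R ⧸ J) Ideal.Quotient.mk_surjective p)
    (LinearMap.extendScalarsOfSurjective (S := R ⧸ J) Ideal.Quotient.mk_surjective g) hp
  exact ⟨h.restrictScalars R, LinearMap.ext fun z => congr($hh z)⟩

variable {M}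

/-- Reduction of a linear map modulo `I ^ n`. -/
noncomputable def red {F : Type u} [AddCommGroup F] [Module R F] (π : F →ₗ[R] M) (n : ℕ) :
    (F ⧸ (I ^ n • ⊤ : Submodule R F)) →ₗ[R] M ⧸ (I ^ n • ⊤ : Submodule R M) :=
  Submodule.mapQ _ _ π fun x hx => by
    have h : π x ∈ (I ^ n • ⊤ : Submodule R F).map π := ⟨x, hx, rfl⟩
    rw [Submodule.map_smul''] at h
    exact Submodule.smul_mono le_rfl le_top h

variable (M) in
/-- A section modulo `I ^ n`. -/
def Sec {F : Type u} [AddCommGroup F] [Module R F] (π : F →ₗ[R] M) (n : ℕ) : Type u :=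
  {s : M →ₗ[R] F ⧸ (I ^ n • ⊤ : Submodule R F) //
    (I ^ n • ⊤ : Submodule R M) ≤ LinearMap.ker s ∧ red I π n ∘ₗ s = (I ^ n • ⊤ : Submodule R M).mkQ}

/-- One lifting step for a section modulo `I ^ n`. -/
theorem exists_lift_step [Module.Projective (R ⧸ I) (M ⧸ (I • ⊤ : Submodule R M))] {F : Type u} [AddCommGroup F]
    [Module R F] (π : F →ₗ[R] M) (hπ : Function.Surjective π) (n : ℕ) (s : Sec I M π n) :
    ∃ t : Sec I M π (n + 1), AdicCompletion.transitionMap I F n.le_succ ∘ₗ t.1 = s.1 := by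
  haveI := projective_quotient_pow I M (Nat.succ_pos n)
  have hle : (I ^ (n + 1) • ⊤ : Submodule R M) ≤ I ^ n • ⊤ := Submodule.smul_mono_left (Ideal.pow_le_pow_right n.le_succ)
  let s' : (M ⧸ (I ^ (n + 1) • ⊤ : Submodule R M)) →ₗ[R] F ⧸ (I ^ n • ⊤ : Submodule R F) :=
    Submodule.liftQ _ s.1 (hle.trans s.2.1)
  let φ : (F ⧸ (I ^ (n + 1) • ⊤ : Submodule R F)) →ₗ[R]
      (M ⧸ (I ^ (n + 1) • ⊤ : Submodule R M)) × (F ⧸ (I ^ n • ⊤ : Submodule R F)) :=
    (red I π (n + 1)).prod (AdicCompletion.transitionMap I F n.le_succ)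
  let ψ : (M ⧸ (I ^ (n + 1) • ⊤ : Submodule R M)) →ₗ[R]
      (M ⧸ (I ^ (n + 1) • ⊤ : Submodule R M)) × (F ⧸ (I ^ n • ⊤ : Submodule R F)) := LinearMap.id.prod s'
  have hψ : ∀ z, ψ z ∈ LinearMap.range φ := fun z => by
    obtain ⟨m, rfl⟩ := Submodule.Quotient.mk_surjective _ z
    obtain ⟨f, hf⟩ := Submodule.Quotient.mk_surjective _ (s.1 m)
    have h1 : Submodule.Quotient.mk (π f) = (Submodule.Quotient.mk m : M ⧸ (I ^ n • ⊤ : Submodule R M)) := by
      have := LinearMap.congr_fun s.2.2 m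
      rw [LinearMap.comp_apply, ← hf] at this
      exact this
    rw [Submodule.Quotient.eq] at h1
    have h2 : π f - m ∈ (I ^ n • ⊤ : Submodule R F).map π := by
      rwa [Submodule.map_smul'', Submodule.map_top, LinearMap.range_eq_top.2 hπ]
    obtain ⟨g, hg, hgm⟩ := h2
    refine ⟨Submodule.Quotient.mk (f - g), Prod.ext ?_ ?_⟩
    · show Submodule.Quotient.mk (π (f - g)) = Submodule.Quotient.mk m
      rw [map_sub, hgm, sub_sub_cancel]
    · show Submodule.Quotient.mk (f - g) = s.1 m
      rw [← hf, Submodule.Quotient.eq, sub_sub_cancel_left]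
      exact neg_mem hg
  obtain ⟨h, hh⟩ := exists_lift (J := I ^ (n + 1)) φ.rangeRestrict φ.surjective_rangeRestrict
    (fun a ha x => by
      obtain ⟨f, rfl⟩ := Submodule.Quotient.mk_surjective _ x
      rw [← Submodule.Quotient.mk_smul, Submodule.Quotient.mk_eq_zero]
      exact Submodule.smul_mem_smul ha Submodule.mem_top)
    (ψ.codRestrict (LinearMap.range φ) hψ)
  have hh' : ∀ z, φ (h z) = ψ z := fun z => congrArg Subtype.val (LinearMap.congr_fun hh z)
  refine ⟨⟨h ∘ₗ Submodule.mkQ _, fun x hx => ?_, LinearMap.ext fun m => ?_⟩, LinearMap.ext fun m => ?_⟩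
  · rw [LinearMap.mem_ker, LinearMap.comp_apply, Submodule.mkQ_apply, (Submodule.Quotient.mk_eq_zero _).2 hx, map_zero]
  · exact congrArg Prod.fst (hh' (Submodule.Quotient.mk m))
  · exact congrArg Prod.snd (hh' (Submodule.Quotient.mk m))

/-- `M^` is a direct summand of the completion of any free cover. -/
theorem exists_section [Module.Projective (R ⧸ I) (M ⧸ (I • ⊤ : Submodule R M))] {F : Type u} [AddCommGroup F]
    [Module R F] (π : F →ₗ[R] M) (hπ : Function.Surjective π) :
    ∃ σ : AdicCompletion I M →ₗ[R] AdicCompletion I F,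
      (AdicCompletion.map I π).restrictScalars R ∘ₗ σ = LinearMap.id := by
  have h0 : ∀ (N : Type u) [AddCommGroup N] [Module R N], (I ^ 0 • ⊤ : Submodule R N) = ⊤ := fun N _ _ => by
    rw [pow_zero, Ideal.one_eq_top, Submodule.top_smul]
  choose next hnext using fun n s => exists_lift_step I π hπ n s
  let s₀ : Sec I M π 0 := ⟨0, by simp, LinearMap.ext fun m => by
    rw [LinearMap.comp_apply, LinearMap.zero_apply, map_zero]
    exact ((Submodule.Quotient.mk_eq_zero _).2 (by rw [h0 M]; trivial)).symm⟩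
  let s : ∀ n, Sec I M π n := fun n => Nat.rec s₀ (fun k t => next k t) n
  have hcompat : ∀ {m n : ℕ} (hle : m ≤ n), AdicCompletion.transitionMap I F hle ∘ₗ (s n).1 = (s m).1 := by
    intro m n hle
    induction hle with
    | refl =>
      refine LinearMap.ext fun x => ?_
      obtain ⟨f, hf⟩ := Submodule.Quotient.mk_surjective _ ((s m).1 x)
      rw [LinearMap.comp_apply, ← hf]
      rfl
    | @step k hle ih =>
      rw [← ih, show (s k).1 = AdicCompletion.transitionMap I F k.le_succ ∘ₗ (s (k + 1)).1 from (hnext k (s k)).symm]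
      refine LinearMap.ext fun x => ?_
      obtain ⟨f, hf⟩ := Submodule.Quotient.mk_surjective _ ((s (k + 1)).1 x)
      simp only [LinearMap.comp_apply]
      rw [← hf]
      rfl
  refine ⟨AdicCompletion.lift I (fun n => Submodule.liftQ _ (s n).1 (s n).2.1 ∘ₗ AdicCompletion.eval I M n)
    (fun {m n} hle => LinearMap.ext fun z => ?_), LinearMap.ext fun z => ?_⟩
  · obtain ⟨a, rfl⟩ := AdicCompletion.mk_surjective I M z
    show AdicCompletion.transitionMap I F hle ((s n).1 (a n)) = (s m).1 (a m)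
    rw [← LinearMap.comp_apply, hcompat hle, ← sub_eq_zero, ← map_sub]
    exact LinearMap.mem_ker.1 ((s m).2.1 (SModEq.sub_mem.1 (a.property hle).symm))
  · obtain ⟨a, rfl⟩ := AdicCompletion.mk_surjective I M z
    refine AdicCompletion.ext fun n => ?_
    show π.reduceModIdeal (I ^ n) ((s n).1 (a n)) = Submodule.Quotient.mk (a n)
    obtain ⟨f, hf⟩ := Submodule.Quotient.mk_surjective _ ((s n).1 (a n))
    have := LinearMap.congr_fun (s n).2.2 (a n)
    rw [LinearMap.comp_apply, ← hf] at this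
    rw [← hf]
    exact this

theorem flat_and_ml [IsNoetherianRing R] [IsAdicComplete I R]
    [Module.Projective (R ⧸ I) (M ⧸ (I • ⊤ : Submodule R M))] :
    Module.Flat R (AdicCompletion I M) ∧ CAlg.IsMittagLeffler R (AdicCompletion I M) := by
  obtain ⟨σ, hσ⟩ := exists_section I (Finsupp.linearCombination R (id : M → M)) fun m => ⟨Finsupp.single m 1, by simp⟩
  haveI := FreeCompl.flat_adicCompletion_finsupp (α := M) I
  exact ⟨Module.Flat.of_retract σ _ hσ,
    CAlgUI.ml_of_ui σ (CAlgUI.ui_of_leftInverse _ hσ) (ml_completion_finsupp I)⟩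

end Quot

end Groth.Agent.ZClosLib.AdicML
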