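import Mathlib
import Groth.Agent.FlatModel.FibreCrit
import Groth.Agent.FlatModel.Core

/-!
# A noetherian model of a flat finitely presented module over a polynomial ring
-/

set_option autoImplicit false
set_option linter.style.haveILetI false

universe u

open TensorProduct MvPolynomial

namespace Groth.Agent.ZClosLib.WeakAssFibre

/-- The model over an intermediate ring. -/
theorem model_aux {R R₀ R₁ : Type u} [CommRing R] [CommRing R₀] [CommRing R₁] [Algebra R₀ R] [Algebra R₀ R₁]
    [Algebra R₁ R] [IsScalarTower R₀ R₁ R] {d n : ℕ} (K₀ : Submodule (MvPolynomial (Fin n) R₀) (FlatModel.V d n R₀))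
    (hflat : FlatModel.FlatC K₀ R₁) {M : Type u} [AddCommGroup M]
    [Module (MvPolynomial (Fin n) R) M] [Module R M] [IsScalarTower R (MvPolynomial (Fin n) R) M]
    [Module R₁ M] [IsScalarTower R₁ R M]
    (e₀ : (FlatModel.V d n R ⧸ FlatModel.KK K₀ R) ≃ₗ[MvPolynomial (Fin n) R] M) :
    ∃ (M₁ : Type u)
      (_ : AddCommGroup M₁) (_ : Module R₁ M₁) (_ : Module (MvPolynomial (Fin n) R₁) M₁)
      (_ : IsScalarTower R₁ (MvPolynomial (Fin n) R₁) M₁) (_ : Module.Finite (MvPolynomial (Fin n) R₁) M₁)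
      (_ : Module.Flat R₁ M₁) (h : M₁ →ₗ[R₁] M),
      IsBaseChange R h ∧ (∀ (t : MvPolynomial (Fin n) R₁) (z : M₁), h (t • z) = MvPolynomial.map (algebraMap R₁ R) t • h z) := by
  have : Module.Flat R₁ (FlatModel.V d n R₁ ⧸ FlatModel.KK K₀ R₁) := (FlatModel.flatC_iff_flat K₀).1 hflat
  obtain ⟨j, hj, hjt⟩ := FlatModel.exists_baseChange_KK (R := R) (FlatModel.KK K₀ R₁)
  let e := (Submodule.quotEquivOfEq _ _ (FlatModel.KK_KK (R₁ := R₁) (R := R) K₀)).trans e₀
  let eR := e.restrictScalars R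
  refine ⟨FlatModel.V d n R₁ ⧸ FlatModel.KK K₀ R₁, inferInstance, inferInstance, inferInstance, inferInstance,
    inferInstance, inferInstance, (eR.toLinearMap.restrictScalars R₁) ∘ₗ j, hj.comp (IsBaseChange.ofEquiv eR),
    fun t z => ?_⟩
  show e (j (t • z)) = _ • e (j z)
  rw [hjt, map_smul]

/-- A flat finitely presented module over a polynomial ring comes from a noetherian ring whose image
contains any prescribed finite set, by a flat model. -/
theorem exists_model {R : Type u} [CommRing R] {n : ℕ} (M : Type u) [AddCommGroup M]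
    [Module (MvPolynomial (Fin n) R) M] [Module R M] [IsScalarTower R (MvPolynomial (Fin n) R) M]
    [Module.FinitePresentation (MvPolynomial (Fin n) R) M] [Module.Flat R M] (c : Finset R) :
    ∃ (R₁ : Type u) (_ : CommRing R₁) (_ : IsNoetherianRing R₁) (_ : Algebra R₁ R) (M₁ : Type u)
      (_ : AddCommGroup M₁) (_ : Module R₁ M₁) (_ : Module (MvPolynomial (Fin n) R₁) M₁)
      (_ : IsScalarTower R₁ (MvPolynomial (Fin n) R₁) M₁) (_ : Module.Finite (MvPolynomial (Fin n) R₁) M₁)
      (_ : Module.Flat R₁ M₁) (_ : Module R₁ M) (_ : IsScalarTower R₁ R M) (h : M₁ →ₗ[R₁] M),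
      IsBaseChange R h ∧ (∀ (t : MvPolynomial (Fin n) R₁) (z : M₁), h (t • z) = MvPolynomial.map (algebraMap R₁ R) t • h z) ∧
      (c : Set R) ⊆ Set.range (algebraMap R₁ R) := by
  classical
  obtain ⟨d, π, hπ⟩ := Module.Finite.exists_fin' (MvPolynomial (Fin n) R) M
  obtain ⟨G, hG⟩ := Module.FinitePresentation.fg_ker π hπ
  let c' : Finset R := (G.biUnion fun v => Finset.univ.biUnion fun i => (v i).coeffs) ∪ c
  let R₀ : Subalgebra ℤ R := Algebra.adjoin ℤ (c' : Set R)
  have : Algebra.FiniteType ℤ R₀ := (Subalgebra.fg_iff_finiteType R₀).1 (Subalgebra.fg_adjoin_finset c')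
  have : IsNoetherianRing R₀ := Algebra.FiniteType.isNoetherianRing ℤ R₀
  have hGdesc : ∀ v ∈ G, ∃ w : FlatModel.V d n R₀, FlatModel.mapV (algebraMap R₀ R) w = v := by
    intro v hv
    choose w hw using fun i => MvPolynomial.mem_range_map_iff_coeffs_subset (f := algebraMap R₀ R) (x := v i) |>.2
      fun x hx => ⟨⟨x, Algebra.subset_adjoin (Finset.mem_union_left _
        (Finset.mem_biUnion.2 ⟨v, hv, Finset.mem_biUnion.2 ⟨i, Finset.mem_univ _, hx⟩⟩))⟩, rfl⟩
    exact ⟨w, funext hw⟩
  choose! lv hlv using hGdesc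
  let K₀ : Submodule (MvPolynomial (Fin n) R₀) (FlatModel.V d n R₀) := Submodule.span _ (lv '' G)
  have hker : LinearMap.ker π = FlatModel.KK K₀ R := by
    apply le_antisymm
    · rw [← hG, Submodule.span_le]
      intro v hv
      exact Submodule.subset_span ⟨lv v, Submodule.subset_span ⟨v, hv, rfl⟩, hlv v hv⟩
    · rw [FlatModel.KK, Submodule.span_le]
      rintro _ ⟨w, hw, rfl⟩
      refine Submodule.span_le.2 ?_ (FlatModel.mapV_mem_span (algebraMap R₀ R) hw)
      rintro _ ⟨w, ⟨v, hv, rfl⟩, rfl⟩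
      rw [hlv v hv]
      exact hG.le (Submodule.subset_span hv)
  let e₀ := (Submodule.quotEquivOfEq _ _ hker.symm).trans (π.quotKerEquivOfSurjective hπ)
  obtain ⟨R₂, hR₂, hflat⟩ := FlatModel.exists_fg_flatC K₀ ((FlatModel.flatC_iff_flat K₀).2
    (Module.Flat.of_linearEquiv (e₀.restrictScalars R)))
  have : Algebra.FiniteType R₀ R₂ := (Subalgebra.fg_iff_finiteType R₂).1 hR₂
  have : IsNoetherianRing R₂ := Algebra.FiniteType.isNoetherianRing R₀ R₂
  obtain ⟨M₁, _, _, _, _, _, _, h, hh, hht⟩ := model_aux (R₁ := R₂) K₀ hflat e₀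
  exact ⟨R₂, inferInstance, inferInstance, inferInstance, M₁, inferInstance, inferInstance, inferInstance,
    inferInstance, inferInstance, inferInstance, inferInstance, inferInstance, h, hh, hht,
    fun x hx => ⟨algebraMap R₀ R₂ ⟨x, Algebra.subset_adjoin (Finset.mem_union_right _ hx)⟩, rfl⟩⟩

end Groth.Agent.ZClosLib.WeakAssFibre
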