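import Mathlib
import Groth.Agent.ZClosLib.FlatDescentPoly
import Groth.Agent.ZClosLib.NzdAssoc
import Groth.Agent.AffDefLib.Obstruction

/-!
# Weakly associated primes of `M ⊗ X` for a flat finitely presented `M`
-/

set_option autoImplicit false
set_option linter.style.haveILetI false

universe u

open TensorProduct MvPolynomial IsLocalRing

namespace Groth.Agent.ZClosLib.WeakAssFibre

attribute [local instance] Algebra.TensorProduct.rightAlgebra

/-- A flat module over the localised base reduced modulo a power of the prime has a basis universally. -/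
theorem exists_basis {R₁ N : Type u} [CommRing R₁] [IsNoetherianRing R₁] [AddCommGroup N] [Module R₁ N]
    [Module.Flat R₁ N] (p₁ : Ideal R₁) [p₁.IsPrime]
    (hu : ∀ s ∈ p₁.primeCompl, Function.Surjective fun m : N => s • m) (K : ℕ) (hK : 0 < K) :
    ∃ (J : Type u) (e : J → N), ∀ (Y : Type u) [AddCommGroup Y] [Module R₁ Y] [Module (Localization.AtPrime p₁) Y]
      [IsScalarTower R₁ (Localization.AtPrime p₁) Y],
      (∀ a ∈ maximalIdeal (Localization.AtPrime p₁) ^ K, ∀ y : Y, a • y = 0) →
      Function.Bijective fun c : J →₀ Y => c.sum fun j y => e j ⊗ₜ[R₁] y := by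
  classical
  let L := Localization.AtPrime p₁
  let A := L ⧸ maximalIdeal L ^ K
  haveI : Nontrivial A := Ideal.Quotient.nontrivial_iff.2 fun h => (maximalIdeal.isMaximal L).ne_top
    (top_le_iff.1 (h.ge.trans (Ideal.pow_le_self hK.ne')))
  haveI : IsLocalRing A := IsLocalRing.of_surjective' (Ideal.Quotient.mk _) Ideal.Quotient.mk_surjective
  haveI : IsArtinianRing A := by
    rw [isArtinianRing_iff_isNilpotent_maximalIdeal]
    refine ⟨K, ?_⟩
    have hm : maximalIdeal A = (maximalIdeal L).map (Ideal.Quotient.mk (maximalIdeal L ^ K)) := by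
      refine ((IsLocalRing.eq_maximalIdeal ?_)).symm
      exact Ideal.IsMaximal.map_of_surjective_of_ker_le Ideal.Quotient.mk_surjective
        (by rw [Ideal.mk_ker]; exact Ideal.pow_le_self hK.ne')
    rw [hm, ← Ideal.map_pow, Ideal.map_quotient_self, Ideal.zero_eq_bot]
  let F := A ⊗[R₁] N
  haveI : Module.Free A F := AffDefLib.free_of_flat_artinian F
  have hsurj : Function.Surjective (fun m : N => (1 : A) ⊗ₜ[R₁] m) := by
    intro f
    induction f using TensorProduct.induction_on with
    | zero => exact ⟨0, tmul_zero _ _⟩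
    | tmul a m =>
      obtain ⟨a, rfl⟩ := Ideal.Quotient.mk_surjective a
      obtain ⟨⟨x, s⟩, hx⟩ := IsLocalization.surj p₁.primeCompl a
      obtain ⟨m', hm'⟩ := hu s s.2 m
      refine ⟨x • m', ?_⟩
      show (1 : A) ⊗ₜ[R₁] (x • m') = Ideal.Quotient.mk _ a ⊗ₜ[R₁] m
      rw [← hm', ← smul_tmul, ← smul_tmul]
      congr 1
      rw [Algebra.smul_def, mul_one, Algebra.smul_def, mul_comm]
      show Ideal.Quotient.mk _ (algebraMap R₁ L x) = Ideal.Quotient.mk _ a * Ideal.Quotient.mk _ (algebraMap R₁ L s)
      rw [← map_mul, hx]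
    | add f g hf hg =>
      obtain ⟨m, hm⟩ := hf
      obtain ⟨m', hm'⟩ := hg
      exact ⟨m + m', by simp only at hm hm' ⊢; rw [tmul_add, hm, hm']⟩
  let b := Module.Free.chooseBasis A F
  choose e he using fun j => hsurj (b j)
  refine ⟨Module.Free.ChooseBasisIndex A F, e, fun Y _ _ _ _ hY => ?_⟩
  letI : Module A Y := Module.IsTorsionBySet.module (R := L) (I := maximalIdeal L ^ K) fun y a => hY a a.2 y
  haveI : IsScalarTower L A Y := Module.IsTorsionBySet.isScalarTower (fun y a => hY a a.2 y)
  haveI : IsScalarTower R₁ A Y := IsScalarTower.of_algebraMap_smul fun r y => by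
    show algebraMap L A (algebraMap R₁ L r) • y = r • y
    rw [algebraMap_smul, algebraMap_smul]
  let e₁ : (Module.Free.ChooseBasisIndex A F →₀ Y) ≃ₗ[A] Y ⊗[A] F :=
    ((TensorProduct.congr (LinearEquiv.refl A Y) b.repr).trans (TensorProduct.finsuppScalarRight A A Y _)).symm
  let e₂ : Y ⊗[A] F ≃+ N ⊗[R₁] Y :=
    ((AlgebraTensorModule.cancelBaseChange R₁ A A Y N).restrictScalars R₁).toAddEquiv.trans
      (TensorProduct.comm R₁ Y N).toAddEquiv
  have key : ∀ c : Module.Free.ChooseBasisIndex A F →₀ Y, (c.sum fun j y => e j ⊗ₜ[R₁] y) = e₂ (e₁ c) := by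
    intro c
    induction c using Finsupp.induction_linear with
    | zero => simp
    | add f g hf hg =>
      rw [Finsupp.sum_add_index' (fun j => tmul_zero _ _) (fun j a b => tmul_add _ _ _), hf, hg, map_add, map_add]
    | single j y =>
      have h1 : e₁ (Finsupp.single j y) = y ⊗ₜ[A] ((1 : A) ⊗ₜ[R₁] e j) := by
        rw [LinearEquiv.symm_apply_eq]
        simp only at he
        simp [he, TensorProduct.finsuppScalarRight_apply_tmul]
      rw [Finsupp.sum_single_index (h := fun j y => e j ⊗ₜ[R₁] y) (tmul_zero _ _), h1]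
      simp [e₂]
  have : (fun c : Module.Free.ChooseBasisIndex A F →₀ Y => c.sum fun j y => e j ⊗ₜ[R₁] y) = e₂ ∘ e₁ := funext key
  rw [this]
  exact e₂.bijective.comp e₁.bijective

/-- Nakayama in dual form: a finitely generated submodule spanned by elements killed by every map to the residue field
is zero. -/
theorem eq_bot_of_forall_dual {L Y J : Type u} [CommRing L] [IsLocalRing L] [AddCommGroup Y] [Module L Y]
    (C : Submodule L Y) (hC : C.FG) (d : J → Y) (hd : C = Submodule.span L (Set.range d))
    (h : ∀ (lam : C →ₗ[L] IsLocalRing.ResidueField L) (j : J), lam ⟨d j, hd.ge (Submodule.subset_span ⟨j, rfl⟩)⟩ = 0) :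
    C = ⊥ := by
  refine Submodule.eq_bot_of_le_smul_of_le_jacobson_bot (maximalIdeal L) C hC ?_ (IsLocalRing.maximalIdeal_le_jacobson _)
  refine hd.le.trans (Submodule.span_le.2 ?_)
  rintro _ ⟨j, rfl⟩
  let y : C := ⟨d j, hd.ge (Submodule.subset_span ⟨j, rfl⟩)⟩
  suffices y ∈ maximalIdeal L • (⊤ : Submodule L C) by
    have := Submodule.mem_map_of_mem (f := C.subtype) this
    rwa [Submodule.map_smul'', Submodule.map_top, Submodule.range_subtype] at this
  refine (Submodule.Quotient.mk_eq_zero _).1 ?_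
  let V := C ⧸ maximalIdeal L • (⊤ : Submodule L C)
  letI : Module (ResidueField L) V := (inferInstance : Module (L ⧸ maximalIdeal L) V)
  haveI : IsScalarTower L (ResidueField L) V := IsScalarTower.of_algebraMap_smul fun a v => by
    obtain ⟨v, rfl⟩ := Submodule.Quotient.mk_surjective _ v
    rfl
  refine (Module.forall_dual_apply_eq_zero_iff (ResidueField L) _).1 fun lam => ?_
  exact h ((lam.restrictScalars L).comp (Submodule.mkQ _)) j

section Theta

variable {R₁ : Type u} (R : Type u) {M₁ M : Type u} [CommRing R₁] [CommRing R] [Algebra R₁ R] [AddCommGroup M₁] [Module R₁ M₁]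
  [AddCommGroup M] [Module R M] [Module R₁ M] [IsScalarTower R₁ R M] (h : M₁ →ₗ[R₁] M)
  (Y : Type u) [AddCommGroup Y] [Module R Y] [Module R₁ Y] [IsScalarTower R₁ R Y]

/-- `M₁ ⊗ Y → M ⊗ Y`. -/
noncomputable def theta : M₁ ⊗[R₁] Y →ₗ[R₁] M ⊗[R] Y :=
  TensorProduct.lift (LinearMap.mk₂ R₁ (fun m y => h m ⊗ₜ[R] y)
    (fun a b y => by rw [map_add, add_tmul]) (fun r a y => by rw [map_smul, smul_tmul'])
    (fun m a b => tmul_add _ _ _) (fun r m y => by
      rw [← algebraMap_smul R r y, tmul_smul, algebraMap_smul]))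

theorem theta_tmul (m : M₁) (y : Y) : theta R h Y (m ⊗ₜ y) = h m ⊗ₜ y := rfl

theorem theta_bijective (hh : IsBaseChange R h) : Function.Bijective (theta R h Y) := by
  let E : M₁ ⊗[R₁] Y ≃+ M ⊗[R] Y := (TensorProduct.comm R₁ M₁ Y).toAddEquiv.trans
    ((hh.tensorEquiv Y).symm.toAddEquiv.trans (TensorProduct.comm R Y M).toAddEquiv)
  have : ∀ x, theta R h Y x = E x := by
    intro x
    induction x using TensorProduct.induction_on with
    | zero => rw [map_zero, map_zero]
    | tmul m y =>
      have h2 : (hh.tensorEquiv Y).symm (y ⊗ₜ[R₁] m) = y ⊗ₜ[R] h m := by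
        rw [LinearEquiv.symm_apply_eq]
        simp [IsBaseChange.tensorEquiv, IsBaseChange.equiv_symm_apply]
      simp [E, theta_tmul, h2]
    | add a b ha hb => rw [map_add, map_add, ha, hb]
  rw [show ⇑(theta R h Y) = ⇑E from funext this]
  exact E.bijective

end Theta

set_option maxHeartbeats 1000000 in
/-- Over a weakly associated prime of `M ⊗ X` lies a weakly associated prime of `X`. -/
theorem mem_weakAss_base_poly {R : Type u} [CommRing R] {n : ℕ} (M : Type u) [AddCommGroup M]
    [Module (MvPolynomial (Fin n) R) M] [Module R M] [IsScalarTower R (MvPolynomial (Fin n) R) M]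
    [Module.FinitePresentation (MvPolynomial (Fin n) R) M] [Module.Flat R M]
    (X : Type u) [AddCommGroup X] [Module R X] (p : Ideal R) [p.IsPrime]
    (q : Ideal (MvPolynomial (Fin n) R)) [q.IsPrime] [hqp : q.LiesOver p]
    (hq : q ∈ FlatCA.weakAss (MvPolynomial (Fin n) R) (M ⊗[R] X)) : p ∈ FlatCA.weakAss R X := by
  classical
  obtain ⟨z, hz⟩ := hq
  haveI : IsNoetherianRing (p.Fiber (MvPolynomial (Fin n) R)) :=
    Algebra.FiniteType.isNoetherianRing p.ResidueField _
  haveI := NzdUnivInj.finite_fiberMod p (S := MvPolynomial (Fin n) R) M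
  have hfin := associatedPrimes.finite (p.Fiber (MvPolynomial (Fin n) R)) (FlatCA.fiberMod p (MvPolynomial (Fin n) R) M)
  -- generators of the associated primes of the fibre, with coefficients in the base
  let ι := algebraMap (MvPolynomial (Fin n) R) (p.Fiber (MvPolynomial (Fin n) R))
  have hgen : ∀ r : Ideal (p.Fiber (MvPolynomial (Fin n) R)), ∃ G : Finset (MvPolynomial (Fin n) R),
      (∀ g ∈ G, ι g ∈ r) ∧ r ≤ Ideal.span (ι '' (G : Set _)) := by
    intro r
    obtain ⟨B, hB⟩ := (IsNoetherian.noetherian r : r.FG)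
    choose ρ hρ g hg using fun b => AssFiber.exists_smul_eq_includeRight p (S := MvPolynomial (Fin n) R) b
    refine ⟨B.image g, fun g' hg' => ?_, ?_⟩
    · obtain ⟨b, hb, rfl⟩ := Finset.mem_image.1 hg'
      show (1 : p.ResidueField) ⊗ₜ[R] g b ∈ r
      rw [← hg b]
      exact Ideal.mul_mem_left _ _ (hB ▸ Submodule.subset_span hb)
    · conv_lhs => rw [← hB]
      refine Submodule.span_le.2 fun b hb => ?_
      have h1 : ι (algebraMap R (MvPolynomial (Fin n) R) (ρ b)) * b ∈
          Ideal.span (ι '' ((B.image g : Finset _) : Set (MvPolynomial (Fin n) R))) := by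
        rw [show ι (algebraMap R (MvPolynomial (Fin n) R) (ρ b)) * b = ι (g b) from hg b]
        exact Ideal.subset_span ⟨g b, Finset.mem_coe.2 (Finset.mem_image_of_mem g hb), rfl⟩
      exact (Ideal.unit_mul_mem_iff_mem _ (PurityBC.isUnit_algebraMap_fiber p (hρ b))).1 h1
  choose G hG hGspan using hgen
  obtain ⟨R₁, _, _, _, M₁, _, _, _, _, _, _, _, _, h, hh, hht, hc⟩ :=
    exists_model (n := n) M (hfin.toFinset.biUnion fun r => (G r).biUnion fun g => g.coeffs)
  let μ := MvPolynomial.map (σ := Fin n) (algebraMap R₁ R)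
  let q₁ : Ideal (MvPolynomial (Fin n) R₁) := q.comap μ
  let p₁ : Ideal R₁ := p.comap (algebraMap R₁ R)
  let N := LocalizedModule q₁.primeCompl M₁
  have hCmem : ∀ s : R₁, s ∉ p₁ → MvPolynomial.C s ∈ q₁.primeCompl := fun s hs hmem => by
    refine hs ?_
    have hmem' : μ (MvPolynomial.C s) ∈ q := hmem
    rw [MvPolynomial.map_C] at hmem'
    show algebraMap R₁ R s ∈ p
    rw [hqp.over]
    exact hmem'
  have hu : ∀ s ∈ p₁.primeCompl, Function.Surjective fun m : N => s • m := fun s hs m => by
    obtain ⟨m', hm'⟩ := ((Module.End.isUnit_iff _).1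
      (IsLocalizedModule.map_units (LocalizedModule.mkLinearMap q₁.primeCompl M₁) ⟨_, hCmem s hs⟩)).2 m
    refine ⟨m', ?_⟩
    show s • m' = m
    rw [← algebraMap_smul (MvPolynomial (Fin n) R₁) s m']
    exact hm'
  haveI : Module.Flat R₁ N := by
    refine (FlatModel.flat_localized_iff q₁.primeCompl (LocalizedModule.mkLinearMap q₁.primeCompl M₁)).2
      fun J y hy => ⟨1, one_mem _, ?_⟩
    rw [Module.Flat.iff_lTensor_injective'.1 ‹_› J (hy.trans (map_zero _).symm), smul_zero]
  -- powers of generators of `p₁` kill a multiple of `z`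
  have hkill : ∀ a ∈ p, ∃ k : ℕ, ∃ c ∉ q, c • (a ^ k • z) = 0 := by
    intro a ha
    obtain ⟨c, hc', k, hck⟩ := WeakAss.exists_mul_pow_mem hz
      (show algebraMap R (MvPolynomial (Fin n) R) a ∈ q by rw [hqp.over] at ha; exact ha)
    refine ⟨k, c, hc', ?_⟩
    rw [← algebraMap_smul (MvPolynomial (Fin n) R) (a ^ k) z, map_pow, smul_smul]
    exact WeakAss.mem_annEl.1 hck
  obtain ⟨gs, hgs⟩ := (IsNoetherian.noetherian p₁ : p₁.FG)
  have hgp : ∀ g ∈ gs, algebraMap R₁ R g ∈ p := fun g hg => by
    have : g ∈ p₁ := hgs ▸ Submodule.subset_span hg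
    exact this
  choose! k c hcq hck using fun g hg => hkill (algebraMap R₁ R g) (hgp g hg)
  let c₀ := ∏ g ∈ gs, c g
  have hc₀ : c₀ ∉ q := fun hmem => by
    obtain ⟨g, hg, hmem⟩ := (Ideal.IsPrime.prod_mem_iff (p := q)).1 hmem
    exact hcq g hg hmem
  let k₀ := gs.sup k
  have hc₀k : ∀ g ∈ gs, algebraMap R₁ R g ^ k₀ • (c₀ • z) = 0 := by
    intro g hg
    obtain ⟨d, hd⟩ := Finset.dvd_prod_of_mem c hg
    rw [smul_comm, ← Nat.sub_add_cancel (show k g ≤ k₀ from Finset.le_sup hg), pow_add, mul_smul,
      show c₀ = d * c g from hd.trans (mul_comm _ _), mul_smul, smul_comm (c g), hck g hg, smul_zero, smul_zero]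
  let P₀ : Ideal R₁ := Ideal.span ((fun g => g ^ k₀) '' (gs : Set R₁))
  obtain ⟨K', hK'⟩ : ∃ K, p₁ ^ K ≤ P₀ := Ideal.exists_pow_le_of_le_radical_of_fg (by
    conv_lhs => rw [← hgs]
    refine Submodule.span_le.2 fun g hg => ?_
    exact ⟨k₀, Ideal.subset_span ⟨g, hg, rfl⟩⟩) ⟨gs, hgs⟩
  let K := K' + 1
  -- the submodule killed by the power
  let Ψ : X →ₗ[R] (gs → X) := LinearMap.pi fun g => LinearMap.lsmul R X (algebraMap R₁ R g.1 ^ k₀)
  let X₀ := LinearMap.ker Ψ
  have hker : (Ψ.lTensor M) (c₀ • z) = 0 := by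
    apply (TensorProduct.piRight R R M (fun _ : gs => X)).injective
    rw [map_zero]
    funext g
    have : ∀ w : M ⊗[R] X, TensorProduct.piRight R R M (fun _ : gs => X) (Ψ.lTensor M w) g =
        algebraMap R₁ R g.1 ^ k₀ • w := by
      intro w
      induction w using TensorProduct.induction_on with
      | zero => simp
      | tmul m x => simp [Ψ]
      | add a b ha hb => rw [map_add, map_add, Pi.add_apply, ha, hb, smul_add]
    rw [this, hc₀k g.1 g.2]
    rfl
  obtain ⟨z₀, hz₀⟩ := (Module.Flat.lTensor_exact M (LinearMap.exact_subtype_ker_map Ψ) _).1 hker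
  let Y := LocalizedModule p.primeCompl X₀
  let f : X₀ →ₗ[R] Y := LocalizedModule.mkLinearMap p.primeCompl X₀
  let φ := Localization.localRingHom p₁ p (algebraMap R₁ R) rfl
  letI : Module (Localization.AtPrime p₁) Y := Module.compHom Y φ
  letI : Module R₁ Y := Module.compHom Y (algebraMap R₁ R)
  haveI : IsScalarTower R₁ R Y := IsScalarTower.of_algebraMap_smul fun _ _ => rfl
  haveI : IsScalarTower R₁ (Localization.AtPrime p₁) Y := IsScalarTower.of_algebraMap_smul fun r y => by
    show φ (algebraMap R₁ _ r) • y = algebraMap R₁ R r • y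
    rw [Localization.localRingHom_to_map, algebraMap_smul]
  have hYK : ∀ a ∈ maximalIdeal (Localization.AtPrime p₁) ^ K, ∀ y : Y, a • y = 0 := by
    have h0 : ∀ a ∈ P₀, ∀ y : Y, a • y = 0 := by
      intro a ha y
      induction ha using Submodule.span_induction with
      | mem a ha =>
        obtain ⟨g, hg, rfl⟩ := ha
        obtain ⟨⟨x, s⟩, hx⟩ := IsLocalizedModule.surj p.primeCompl f y
        have hx0 : algebraMap R₁ R g ^ k₀ • x = 0 := Subtype.ext (congr_fun x.2 ⟨g, hg⟩)
        have h2 : (s : R) • (algebraMap R₁ R g ^ k₀ • y) = 0 := by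
          rw [smul_comm, ← Submonoid.smul_def, hx, ← map_smul, hx0, map_zero]
        show algebraMap R₁ R (g ^ k₀) • y = 0
        rw [map_pow]
        exact (IsLocalizedModule.smul_inj f s _ 0).1 (by rw [smul_zero]; exact h2)
      | zero => rw [zero_smul]
      | add a b _ _ ha hb => rw [add_smul, ha, hb, add_zero]
      | smul a b _ hb => rw [smul_eq_mul, mul_smul, hb, smul_zero]
    intro a ha y
    rw [← Localization.AtPrime.map_eq_maximalIdeal, ← Ideal.map_pow] at ha
    induction ha using Submodule.span_induction generalizing y with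
    | mem a ha =>
      obtain ⟨x, hx, rfl⟩ := ha
      rw [algebraMap_smul]
      exact h0 x (hK' (Ideal.pow_le_pow_right (Nat.le_succ K') hx)) y
    | zero => rw [zero_smul]
    | add a b _ _ ha hb => rw [add_smul, ha, hb, add_zero]
    | smul a b _ hb => rw [smul_eq_mul, mul_smul, hb, smul_zero]
  obtain ⟨J, e, he⟩ := exists_basis (N := N) p₁ hu K (Nat.succ_pos _)
  let g₁ := LocalizedModule.mkLinearMap q₁.primeCompl M₁
  -- facts on the comparison maps
  have hequiv : ∀ (Z : Type u) [AddCommGroup Z] [Module R Z] [Module R₁ Z] [IsScalarTower R₁ R Z]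
      (t : MvPolynomial (Fin n) R₁) (x : M₁ ⊗[R₁] Z), theta R h Z (t • x) = μ t • theta R h Z x := by
    intro Z _ _ _ _ t x
    induction x using TensorProduct.induction_on with
    | zero => simp
    | tmul m y => rw [smul_tmul', theta_tmul, theta_tmul, hht, smul_tmul']
    | add a b ha hb => rw [smul_add, map_add, map_add, ha, hb, smul_add]
  have hfib : ∀ (w : MvPolynomial (Fin n) R), w ∉ q → ∀ x : M ⊗[R] p.ResidueField, w • x = 0 →
      ∃ t ∉ q₁, μ t • x = 0 := by
    intro w hw x hx
    obtain ⟨r, hr, m, hm⟩ : ∃ r ∉ p, ∃ m : M, r • x = m ⊗ₜ[R] (1 : p.ResidueField) := by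
      clear hx
      induction x using TensorProduct.induction_on with
      | zero => exact ⟨1, fun h => ‹p.IsPrime›.ne_top ((Ideal.eq_top_iff_one _).2 h), 0, by simp⟩
      | tmul m c =>
        haveI := AssFiber.isLocalizedModule_residueField p
        obtain ⟨⟨a, r⟩, hra⟩ := IsLocalizedModule.surj p.primeCompl
          ((Algebra.linearMap (R ⧸ p) p.ResidueField).restrictScalars R) c
        obtain ⟨a, rfl⟩ := Ideal.Quotient.mk_surjective a
        refine ⟨r, r.2, a • m, ?_⟩
        rw [← tmul_smul, ← Submonoid.smul_def, hra, smul_tmul]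
        congr 1
        rw [Algebra.smul_def, mul_one]
        exact (IsScalarTower.algebraMap_apply R (R ⧸ p) p.ResidueField a).symm
      | add a b ha hb =>
        obtain ⟨r, hr, m, hm⟩ := ha
        obtain ⟨r', hr', m', hm'⟩ := hb
        refine ⟨r * r', fun h => (‹p.IsPrime›.mem_or_mem h).elim hr hr', r' • m + r • m', ?_⟩
        rw [smul_add, add_tmul, ← smul_tmul', ← smul_tmul', ← hm, ← hm', smul_smul, smul_smul, mul_comm r' r]
    have hwm : FlatCA.toFiberMod p (S := MvPolynomial (Fin n) R) M (w • m) = 0 := by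
      refine PurityBC.toFiberMod_eq_zero_of_one_tmul p M _ ?_
      have h1 : (w • m) ⊗ₜ[R] (1 : p.ResidueField) = 0 := by rw [← smul_tmul', ← hm, smul_comm, hx, smul_zero]
      have h2 := congrArg (TensorProduct.comm R M p.ResidueField) h1
      rwa [map_zero, TensorProduct.comm_tmul] at h2
    let I := WeakAss.annEl (p.Fiber (MvPolynomial (Fin n) R)) (FlatCA.toFiberMod p (S := MvPolynomial (Fin n) R) M m)
    have hwI : ι w ∈ I := by
      rw [WeakAss.mem_annEl, AssFiber.algebraMap_smul_fiberMod, ← map_smul, hwm]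
    obtain ⟨t, ht, htI⟩ : ∃ t ∉ q₁, ι (μ t) ∈ I := by
      by_contra hcon
      push Not at hcon
      have hd : Disjoint (I : Set (p.Fiber (MvPolynomial (Fin n) R)))
          ((q₁.primeCompl.map ((ι.comp μ : MvPolynomial (Fin n) R₁ →+* _) : MvPolynomial (Fin n) R₁ →* _) :
            Submonoid (p.Fiber (MvPolynomial (Fin n) R))) : Set (p.Fiber (MvPolynomial (Fin n) R))) := by
        rw [Set.disjoint_right]
        rintro _ ⟨t, ht, rfl⟩
        exact hcon t ht
      obtain ⟨Q, hQ, hIQ, hQd⟩ := Ideal.exists_le_prime_disjoint _ _ hd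
      obtain ⟨r, hr, hrQ⟩ := Ideal.exists_minimalPrimes_le (I := I) (J := Q) hIQ
      have hra := WeakAss.mem_ass_of_mem_weakAss_of_fg (IsNoetherian.noetherian r)
        (WeakAss.mem_weakAss_iff.2 ⟨_, hr⟩)
      have hra' := FibAssIdeal.mem_associatedPrimes_of_mem_ass hra
      obtain ⟨Qq, hQq⟩ := NzdUnivInj.exists_prime_fiber p q
      have hle : r ≤ Qq.1 := by
        refine (hGspan r).trans (Ideal.span_le.2 ?_)
        rintro _ ⟨g, hg, rfl⟩
        obtain ⟨g₁, hg₁⟩ := MvPolynomial.mem_range_map_iff_coeffs_subset (f := algebraMap R₁ R) (x := g) |>.2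
          fun x hx => hc (Finset.mem_biUnion.2 ⟨r, hfin.mem_toFinset.2 hra', Finset.mem_biUnion.2 ⟨g, hg, hx⟩⟩)
        have hgr : ι g ∈ r := hG r g hg
        rw [← hg₁] at hgr ⊢
        by_cases hmem : g₁ ∈ q₁
        · have h3 : μ g₁ ∈ q := hmem
          rw [← hQq] at h3
          exact h3
        · exact absurd (hrQ hgr) (Set.disjoint_right.1 hQd ⟨g₁, hmem, rfl⟩)
      exact hw (hQq ▸ (hle (hr.1.2 hwI) : ι w ∈ Qq.1))
    refine ⟨t, ht, ?_⟩
    rw [WeakAss.mem_annEl, AssFiber.algebraMap_smul_fiberMod, ← map_smul] at htI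
    obtain ⟨r', hr', hmem⟩ := (PurityBC.toFiberMod_eq_zero_iff p M _).1 htI
    have h1 : r' • ((μ t • m) ⊗ₜ[R] (1 : p.ResidueField)) = 0 := by
      rw [smul_tmul']
      refine Submodule.smul_induction_on hmem (fun a ha y _ => ?_) (fun a b ha hb => ?_)
      · rw [smul_tmul, Algebra.smul_def, mul_one, Ideal.algebraMap_residueField_eq_zero.2 ha, tmul_zero]
      · rw [add_tmul, ha, hb, add_zero]
    rw [← smul_tmul', ← hm, smul_comm (μ t), smul_smul] at h1
    have hu' : algebraMap R p.ResidueField (r' * r) ≠ 0 := fun h0 =>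
      (‹p.IsPrime›.mem_or_mem (Ideal.algebraMap_residueField_eq_zero.1 h0)).elim hr' hr
    let σ : p.ResidueField →ₗ[R] p.ResidueField := LinearMap.mulLeft R (algebraMap R p.ResidueField (r' * r))⁻¹
    have hσ : ∀ v : M ⊗[R] p.ResidueField, σ.lTensor M ((r' * r) • v) = v := by
      intro v
      induction v using TensorProduct.induction_on with
      | zero => simp
      | tmul a b =>
        rw [← tmul_smul, LinearMap.lTensor_tmul, Algebra.smul_def]
        exact congrArg (a ⊗ₜ[R] ·) (inv_mul_cancel_left₀ hu' b)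
      | add a b ha hb => rw [smul_add, map_add, ha, hb]
    rw [← hσ (μ t • x), h1, map_zero]
  -- elements outside `q` act injectively after localisation
  have hinj : ∀ (w : MvPolynomial (Fin n) R), w ∉ q → ∀ (v : M ⊗[R] Y) (x : M₁ ⊗[R₁] Y), theta R h Y x = v →
      w • v = 0 → AlgebraTensorModule.rTensor R₁ Y g₁ x = 0 := by
    intro w hw v x hxv hwv
    obtain ⟨d, hd⟩ := (he Y hYK).2 (AlgebraTensorModule.rTensor R₁ Y g₁ x)
    suffices d = 0 by rw [← hd, this]; simp
    letI : Module (Localization.AtPrime p) Y := inferInstanceAs (Module (Localization p.primeCompl) (LocalizedModule p.primeCompl X₀))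
    let C : Submodule (Localization.AtPrime p) Y := Submodule.span _ (Set.range d)
    have hCfg : C.FG := Submodule.fg_span (d.finite_range)
    letI : Module (Localization.AtPrime p₁) C := Module.compHom C φ
    letI : Module R₁ C := Module.compHom C (algebraMap R₁ R)
    haveI : IsScalarTower R₁ R C := IsScalarTower.of_algebraMap_smul fun _ _ => rfl
    haveI : IsScalarTower R₁ (Localization.AtPrime p₁) C := IsScalarTower.of_algebraMap_smul fun r y => by
      show φ (algebraMap R₁ _ r) • y = algebraMap R₁ R r • y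
      rw [Localization.localRingHom_to_map, algebraMap_smul]
    have hCK : ∀ a ∈ maximalIdeal (Localization.AtPrime p₁) ^ K, ∀ y : C, a • y = 0 := fun a ha y =>
      Subtype.ext (hYK a ha y.1)
    let jC : C →ₗ[R] Y := (C.subtype).restrictScalars R
    let dC : J →₀ C := Finsupp.mk d.support (fun j => ⟨d j, Submodule.subset_span ⟨j, rfl⟩⟩)
      (fun j => by simp)
    obtain ⟨⟨xC, S₁⟩, hxC⟩ := IsLocalizedModule.surj q₁.primeCompl (AlgebraTensorModule.rTensor R₁ C g₁)
      (dC.sum fun j y => e j ⊗ₜ[R₁] y)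
    -- naturality
    have hnat : ∀ (Z : Type u) [AddCommGroup Z] [Module R Z] [Module R₁ Z] [IsScalarTower R₁ R Z] (l : C →ₗ[R] Z)
        (a : M₁ ⊗[R₁] C), theta R h Z ((l.restrictScalars R₁).lTensor M₁ a) = l.lTensor M (theta R h C a) := by
      intro Z _ _ _ _ l a
      induction a using TensorProduct.induction_on with
      | zero => simp
      | tmul m y => rfl
      | add a b ha hb => simp only [map_add, ha, hb]
    have hnat' : ∀ (Z : Type u) [AddCommGroup Z] [Module R₁ Z] (l : C →ₗ[R₁] Z) (a : M₁ ⊗[R₁] C),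
        l.lTensor N (AlgebraTensorModule.rTensor R₁ C g₁ a) = AlgebraTensorModule.rTensor R₁ Z g₁ (l.lTensor M₁ a) := by
      intro Z _ _ l a
      induction a using TensorProduct.induction_on with
      | zero => simp
      | tmul m y => rfl
      | add a b ha hb => simp only [map_add, ha, hb]
    have hsum : ∀ (Z : Type u) [AddCommGroup Z] [Module R₁ Z] (l : C →ₗ[R₁] Z),
        l.lTensor N (dC.sum fun j y => e j ⊗ₜ[R₁] y) = (dC.mapRange l l.map_zero).sum fun j y => e j ⊗ₜ[R₁] y := by
      intro Z _ _ l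
      rw [Finsupp.sum_mapRange_index (fun j => tmul_zero _ _), map_finsuppSum]
      rfl
    have hlin : ∀ (Z : Type u) [AddCommGroup Z] [Module R₁ Z] (l : C →ₗ[R₁] Z) (s : MvPolynomial (Fin n) R₁)
        (a : N ⊗[R₁] C), l.lTensor N (s • a) = s • l.lTensor N a := by
      intro Z _ _ l s a
      induction a using TensorProduct.induction_on with
      | zero => simp
      | tmul m y => rfl
      | add a b ha hb => simp only [smul_add, map_add, ha, hb]
    have hdd : dC.mapRange (jC.restrictScalars R₁) (map_zero _) = d := by ext j; rfl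
    -- a lift over `C`
    have h1 : AlgebraTensorModule.rTensor R₁ Y g₁ ((jC.restrictScalars R₁).lTensor M₁ xC) =
        AlgebraTensorModule.rTensor R₁ Y g₁ ((S₁ : MvPolynomial (Fin n) R₁) • x) := by
      rw [← hnat', map_smul, ← hd, ← hxC, Submonoid.smul_def, hlin, hsum, hdd]
    obtain ⟨s, hs⟩ := (IsLocalizedModule.eq_iff_exists q₁.primeCompl (AlgebraTensorModule.rTensor R₁ Y g₁)).1 h1
    let vC := theta R h C ((s : MvPolynomial (Fin n) R₁) • xC)
    have hwC : w • vC = 0 := by
      apply Module.Flat.lTensor_preserves_injective_linearMap (M := M) jC Subtype.val_injective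
      have hl : ∀ (c' : MvPolynomial (Fin n) R) (a : M ⊗[R] C), jC.lTensor M (c' • a) = c' • jC.lTensor M a := by
        intro c' a
        induction a using TensorProduct.induction_on with
        | zero => simp
        | tmul m y => rfl
        | add a b ha hb => simp only [smul_add, map_add, ha, hb]
      rw [map_zero, hl]
      show w • jC.lTensor M (theta R h C ((s : MvPolynomial (Fin n) R₁) • xC)) = 0
      rw [hequiv C, hl, ← hnat, ← hequiv Y, ← Submonoid.smul_def, hs, Submonoid.smul_def, hequiv Y, hequiv Y, hxv,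
        smul_comm w, smul_comm w, hwv, smul_zero, smul_zero]
    -- every functional kills the coordinates
    have hlam : ∀ (lam : C →ₗ[Localization.AtPrime p] p.ResidueField) (j : J), lam (dC j) = 0 := by
      intro lam j
      let l : C →ₗ[R] p.ResidueField := lam.restrictScalars R
      letI : Module (Localization.AtPrime p₁) p.ResidueField := Module.compHom p.ResidueField φ
      haveI : IsScalarTower R₁ (Localization.AtPrime p₁) p.ResidueField := IsScalarTower.of_algebraMap_smul fun r y => by
        rw [← algebraMap_smul R r y]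
        show φ (algebraMap R₁ _ r) • y = algebraMap R₁ R r • y
        rw [Localization.localRingHom_to_map, algebraMap_smul]
      have hκK : ∀ a ∈ maximalIdeal (Localization.AtPrime p₁) ^ K, ∀ y : p.ResidueField, a • y = 0 := by
        intro a ha y
        show φ a • y = 0
        have h3 : a ∈ maximalIdeal (Localization.AtPrime p₁) := Ideal.pow_le_self (Nat.succ_ne_zero _) ha
        haveI : IsLocalHom φ := Localization.isLocalHom_localRingHom _ _ _ _
        rw [Algebra.smul_def, IsLocalRing.ResidueField.algebraMap_eq, (residue_eq_zero_iff _).2 (map_nonunit φ a h3),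
          zero_mul]
      obtain ⟨t, ht, htv⟩ := hfib w hw (l.lTensor M vC) (by
        have hl : ∀ (c' : MvPolynomial (Fin n) R) (a : M ⊗[R] C), l.lTensor M (c' • a) = c' • l.lTensor M a := by
          intro c' a
          induction a using TensorProduct.induction_on with
          | zero => simp
          | tmul m y => rfl
          | add a b ha hb => simp only [smul_add, map_add, ha, hb]
        rw [← hl, hwC, map_zero])
      rw [← hnat, ← hequiv] at htv
      have h4 := congrArg (AlgebraTensorModule.rTensor R₁ p.ResidueField g₁)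
        ((theta_bijective R h p.ResidueField hh).1 (htv.trans (map_zero _).symm))
      rw [map_smul, ← hnat', map_smul, ← hxC, map_zero, hlin, Submonoid.smul_def, hlin, hsum, smul_smul, smul_smul] at h4
      have hunit : IsUnit (algebraMap (MvPolynomial (Fin n) R₁) (Module.End (MvPolynomial (Fin n) R₁) (N ⊗[R₁] p.ResidueField))
          (t * s * S₁)) :=
        IsLocalizedModule.map_units (AlgebraTensorModule.rTensor R₁ p.ResidueField g₁)
          (⟨_, mul_mem (mul_mem ht s.2) S₁.2⟩ : q₁.primeCompl)
      have h5 : (dC.mapRange (l.restrictScalars R₁) (map_zero _)).sum (fun j y => e j ⊗ₜ[R₁] y) = 0 :=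
        ((Module.End.isUnit_iff _).1 hunit).1 (h4.trans (map_zero _).symm)
      have h6 := (he p.ResidueField hκK).1 (a₁ := dC.mapRange (l.restrictScalars R₁) (map_zero _)) (a₂ := 0)
        (by simpa using h5)
      exact congrArg (fun f : J →₀ p.ResidueField => f j) h6
    have hC0 : C = ⊥ := eq_bot_of_forall_dual C hCfg d rfl (fun lam j => hlam lam j)
    ext j
    have : d j ∈ C := Submodule.subset_span ⟨j, rfl⟩
    rw [hC0, Submodule.mem_bot] at this
    exact this
  -- the element and its coordinates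
  let v := f.lTensor M z₀
  have hsub : Function.Injective (X₀.subtype.lTensor M) :=
    Module.Flat.lTensor_preserves_injective_linearMap _ Subtype.val_injective
  have hl₀ : ∀ (c' : MvPolynomial (Fin n) R) (a : M ⊗[R] X₀), X₀.subtype.lTensor M (c' • a) = c' • X₀.subtype.lTensor M a ∧
      f.lTensor M (c' • a) = c' • f.lTensor M a := by
    intro c' a
    induction a using TensorProduct.induction_on with
    | zero => simp
    | tmul m y => exact ⟨rfl, rfl⟩
    | add a b ha hb => simp only [smul_add, map_add, ha.1, hb.1, ha.2, hb.2, and_self]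
  obtain ⟨x, hx⟩ := (theta_bijective R h Y hh).2 v
  obtain ⟨d, hd⟩ := (he Y hYK).2 (AlgebraTensorModule.rTensor R₁ Y g₁ x)
  have hd0 : d ≠ 0 := by
    intro hd0
    rw [hd0] at hd
    obtain ⟨s, hs⟩ := (IsLocalizedModule.eq_zero_iff q₁.primeCompl (AlgebraTensorModule.rTensor R₁ Y g₁)).1
      (hd.symm.trans (by simp))
    have h1 : μ s • v = 0 := by rw [← hx, ← hequiv, ← Submonoid.smul_def, hs, map_zero]
    rw [← (hl₀ _ _).2] at h1
    -- some element of `R ∖ p` kills it
    haveI : IsLocalizedModule p.primeCompl (AlgebraTensorModule.rTensor R M f) := IsLocalizedModule.rTensor R p.primeCompl f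
    have hcomm : ∀ a : M ⊗[R] X₀, TensorProduct.comm R M Y (f.lTensor M a) =
        AlgebraTensorModule.rTensor R M f (TensorProduct.comm R M X₀ a) := by
      intro a
      induction a using TensorProduct.induction_on with
      | zero => simp
      | tmul m y => rfl
      | add a b ha hb => simp only [map_add, ha, hb]
    obtain ⟨r, hr'⟩ := (IsLocalizedModule.eq_zero_iff p.primeCompl (AlgebraTensorModule.rTensor R M f)).1
      ((hcomm _).symm.trans (by rw [h1, map_zero]))
    have hr : r • (μ s • z₀) = 0 := by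
      apply (TensorProduct.comm R M X₀).injective
      rw [map_zero, Submonoid.smul_def, map_smul]
      rwa [Submonoid.smul_def] at hr'
    have h2 : (r : R) • (μ s • (c₀ • z)) = 0 := by
      rw [← hz₀, ← (hl₀ _ _).1, ← map_smul]
      rw [Submonoid.smul_def] at hr
      rw [hr, map_zero]
    rw [← algebraMap_smul (MvPolynomial (Fin n) R) (r : R), smul_smul, smul_smul] at h2
    have h3 := hz.1.2 (WeakAss.mem_annEl.2 h2)
    rcases hz.1.1.mem_or_mem h3 with h' | h'
    · rcases hz.1.1.mem_or_mem h' with h'' | h''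
      · exact r.2 ((Ideal.mem_of_liesOver q p (r : R)).2 h'')
      · exact s.2 h''
    · exact hc₀ h'
  obtain ⟨j, hj⟩ := Finsupp.support_nonempty_iff.2 hd0
  rw [Finsupp.mem_support_iff] at hj
  -- powers of `p` kill the coordinate
  have hpow : ∀ a ∈ p, ∃ k : ℕ, a ^ k • d j = 0 := by
    intro a ha
    obtain ⟨k, w, hw, hwk⟩ := hkill a ha
    refine ⟨k, ?_⟩
    let la : Y →ₗ[R] Y := LinearMap.lsmul R Y (a ^ k)
    have hth : ∀ x' : M₁ ⊗[R₁] Y, theta R h Y ((la.restrictScalars R₁).lTensor M₁ x') = a ^ k • theta R h Y x' := by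
      intro x'
      induction x' using TensorProduct.induction_on with
      | zero => simp
      | tmul m y => exact (tmul_smul (a ^ k) (h m) y)
      | add a b ha hb => simp only [map_add, smul_add, ha, hb]
    have hwv : w • (a ^ k • v) = 0 := by
      show w • (a ^ k • f.lTensor M z₀) = 0
      rw [← map_smul, ← (hl₀ _ _).2]
      suffices w • (a ^ k • z₀) = 0 by rw [this, map_zero]
      apply hsub
      rw [(hl₀ _ _).1, map_smul, hz₀, map_zero, smul_comm (a ^ k) c₀, smul_comm w c₀, hwk, smul_zero]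
    have h1 := hinj w hw _ ((la.restrictScalars R₁).lTensor M₁ x) ((hth x).trans (by rw [hx])) hwv
    have h2 : ∀ x' : M₁ ⊗[R₁] Y, AlgebraTensorModule.rTensor R₁ Y g₁ ((la.restrictScalars R₁).lTensor M₁ x') =
        (la.restrictScalars R₁).lTensor N (AlgebraTensorModule.rTensor R₁ Y g₁ x') := by
      intro x'
      induction x' using TensorProduct.induction_on with
      | zero => simp
      | tmul m y => rfl
      | add a b ha hb => simp only [map_add, ha, hb]
    rw [h2, ← hd, map_finsuppSum] at h1
    have h3 := (he Y hYK).1 (a₁ := d.mapRange la (map_zero _)) (a₂ := 0) (by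
      show (d.mapRange la _).sum _ = _
      rw [Finsupp.sum_mapRange_index (fun j => tmul_zero _ _)]
      simpa using h1)
    exact congrArg (fun g : J →₀ Y => g j) h3
  -- conclusion
  obtain ⟨⟨x₀, s₀⟩, hx₀⟩ := IsLocalizedModule.surj p.primeCompl f (d j)
  have hle : WeakAss.annEl R (x₀ : X) ≤ p := fun r hr => by
    by_contra hrp
    refine hj ((IsLocalizedModule.smul_inj f (⟨r, hrp⟩ * s₀ : p.primeCompl) (d j) 0).1 ?_)
    rw [smul_zero, mul_smul, hx₀, Submonoid.smul_def, ← map_smul]
    have : r • x₀ = 0 := Subtype.ext (WeakAss.mem_annEl.1 hr)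
    rw [this, map_zero]
  obtain ⟨P', hP', hP'p⟩ := Ideal.exists_minimalPrimes_le hle
  suffices P' = p by subst this; exact ⟨_, hP'⟩
  refine le_antisymm hP'p fun a ha => ?_
  obtain ⟨k, hk⟩ := hpow a ha
  have h1 : f (a ^ k • x₀) = 0 := by
    rw [map_smul, ← hx₀, Submonoid.smul_def, smul_comm, hk, smul_zero]
  obtain ⟨r, hr⟩ := (IsLocalizedModule.eq_zero_iff p.primeCompl f).1 h1
  have h2 : (r : R) * a ^ k ∈ WeakAss.annEl R (x₀ : X) := by
    rw [WeakAss.mem_annEl, mul_smul]
    exact congrArg Subtype.val hr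
  rcases hP'.1.1.mem_or_mem (hP'.1.2 h2) with h' | h'
  · exact absurd (hP'p h') r.2
  · exact hP'.1.1.mem_of_pow_mem _ h'

end Groth.Agent.ZClosLib.WeakAssFibre
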