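import Mathlib
import Groth.Agent.ZClosLib.WeakAssFibre
import Groth.Agent.ZClosLib.NzdLocal

/-!
# Weakly associated primes of `N ⊗ M` for flat finitely presented `N`
-/

set_option autoImplicit false
set_option linter.style.haveILetI false

universe u

open TensorProduct

namespace Groth.Agent.ZClosLib.WeakAssTensor

attribute [local instance] Algebra.TensorProduct.rightAlgebra

/-- Weakly associated primes along a surjection. -/
theorem comap_mem_weakAss {P S M : Type u} [CommRing P] [CommRing S] [Algebra P S] [AddCommGroup M] [Module S M]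
    [Module P M] [IsScalarTower P S M] (hσ : Function.Surjective (algebraMap P S)) {q : Ideal S}
    (hq : q ∈ FlatCA.weakAss S M) : q.comap (algebraMap P S) ∈ FlatCA.weakAss P M := by
  obtain ⟨z, hz⟩ := hq
  refine WeakAss.mem_weakAss_iff.2 ⟨z, ?_⟩
  rw [show WeakAss.annEl P z = (WeakAss.annEl S z).comap (algebraMap P S) from by
    ext t; rw [WeakAss.mem_annEl, Ideal.mem_comap, WeakAss.mem_annEl, algebraMap_smul],
    Ideal.comap_minimalPrimes_eq_of_surjective hσ]
  exact ⟨q, hz, rfl⟩

variable {R S : Type u} [CommRing R] [CommRing S] [Algebra R S]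
  (N : Type u) [AddCommGroup N] [Module S N] [Module R N] [IsScalarTower R S N]
  (M : Type u) [AddCommGroup M] [Module R M] (p : Ideal R) [p.IsPrime] (q : Ideal S) [q.IsPrime] [hqp : q.LiesOver p]

/-- Over a weakly associated prime of `N ⊗ M` lies a weakly associated prime of `M`. -/
theorem mem_weakAss_base [Algebra.FinitePresentation R S] [Module.FinitePresentation S N] [Module.Flat R N]
    (hq : q ∈ FlatCA.weakAss S (N ⊗[R] M)) : p ∈ FlatCA.weakAss R M := by
  obtain ⟨n, σ, hσ, hker⟩ := Algebra.FinitePresentation.out (R := R) (A := S)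
  letI : Algebra (MvPolynomial (Fin n) R) S := σ.toRingHom.toAlgebra
  haveI : IsScalarTower R (MvPolynomial (Fin n) R) S := IsScalarTower.of_algebraMap_eq fun r => (σ.commutes r).symm
  letI : Module (MvPolynomial (Fin n) R) N := Module.compHom N σ.toRingHom
  haveI : IsScalarTower (MvPolynomial (Fin n) R) S N := IsScalarTower.of_algebraMap_smul fun _ _ => rfl
  haveI : IsScalarTower R (MvPolynomial (Fin n) R) N := IsScalarTower.of_algebraMap_smul fun r x => by
    show σ (algebraMap R _ r) • x = r • x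
    rw [σ.commutes, algebraMap_smul]
  haveI : Module.FinitePresentation (MvPolynomial (Fin n) R) S :=
    Module.finitePresentation_of_surjective (Algebra.linearMap (MvPolynomial (Fin n) R) S) hσ hker
  haveI : Module.FinitePresentation (MvPolynomial (Fin n) R) N := Module.FinitePresentation.trans _ N S
  haveI : (q.comap (algebraMap (MvPolynomial (Fin n) R) S)).IsPrime := Ideal.IsPrime.comap _
  haveI : (q.comap (algebraMap (MvPolynomial (Fin n) R) S)).LiesOver p := ⟨by
    rw [hqp.over, Ideal.under, Ideal.under, Ideal.comap_comap, ← IsScalarTower.algebraMap_eq]⟩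
  exact WeakAssFibre.mem_weakAss_base_poly N M p _ (comap_mem_weakAss (S := S) hσ hq)

/-- A weakly associated prime of `N ⊗ M` is associated in the fibre. -/
theorem mem_assoc_fiber [Algebra.FinitePresentation R S] [Module.FinitePresentation S N] [Module.Flat R N]
    (hq : q ∈ FlatCA.weakAss S (N ⊗[R] M)) :
    FlatCA.fiberIdeal p q ∈ associatedPrimes (p.Fiber S) (FlatCA.fiberMod p S N) := by
  haveI : IsNoetherianRing (p.Fiber S) := Algebra.FiniteType.isNoetherianRing p.ResidueField _
  obtain ⟨z, hz⟩ := hq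
  by_contra hne
  obtain ⟨s, hsq, hs⟩ := NzdUnivInj.exists_avoid p N (fun r => r ≤ FlatCA.fiberIdeal p q) q fun r hr hrQ hle => by
    obtain ⟨-, -, hre, -⟩ := NzdUnivInj.comap_spec p N hr
    refine hne ?_
    rwa [← le_antisymm hrQ ((Ideal.map_mono hle).trans hre.le)] at hne ⊢
  obtain ⟨c, hc, k, hck⟩ := WeakAss.exists_mul_pow_mem hz hsq
  have hs' : ∀ r ∈ associatedPrimes (p.Fiber S) (FlatCA.fiberMod p S N),
      r ≤ FlatCA.fiberIdeal p q → algebraMap S (p.Fiber S) (s ^ k) ∉ r := fun r hr hrQ h => by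
    rw [map_pow] at h
    exact hs r hr hrQ (hr.1.mem_of_pow_mem _ h)
  obtain ⟨d, hd, hdz⟩ := NzdUnivInj.key p q hs' (c • z) (by
    rw [smul_smul, mul_comm]; exact WeakAss.mem_annEl.1 hck)
  rcases ‹q.IsPrime›.mem_or_mem (hz.1.2 (WeakAss.mem_annEl.2 (by rw [mul_smul]; exact hdz) : d * c ∈ _)) with h | h
  · exact hd h
  · exact hc h

omit [p.IsPrime] in
/-- In a flat module, `n ⊗ y = 0` forces `n` into the multiples by an ideal containing the annihilator of `y`. -/
theorem mem_smul_top_of_tmul_eq_zero [Module.Flat R N] {y : M} (hy : WeakAss.annEl R y ≤ p) {n : N}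
    (h : n ⊗ₜ[R] y = 0) : n ∈ p • (⊤ : Submodule R N) := by
  let J := WeakAss.annEl R y
  let ι : (R ⧸ J) →ₗ[R] M := Submodule.liftQ J (LinearMap.toSpanSingleton R M y) fun x hx => WeakAss.mem_annEl.1 hx
  have hι : Function.Injective ι := by
    rw [← LinearMap.ker_eq_bot]
    exact Submodule.ker_liftQ_eq_bot _ _ _ fun x hx => WeakAss.mem_annEl.2 hx
  have h1 : n ⊗ₜ[R] (Submodule.Quotient.mk 1 : R ⧸ J) = 0 := by
    apply Module.Flat.lTensor_preserves_injective_linearMap (M := N) ι hι
    rw [LinearMap.lTensor_tmul, map_zero, show ι (Submodule.Quotient.mk 1) = y from one_smul R y]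
    exact h
  have h2 := congrArg (TensorProduct.tensorQuotEquivQuotSMul N J) h1
  rw [map_zero, show (Submodule.Quotient.mk 1 : R ⧸ J) = Ideal.Quotient.mk J 1 from rfl,
    TensorProduct.tensorQuotEquivQuotSMul_tmul_mk, one_smul, Submodule.Quotient.mk_eq_zero] at h2
  exact Submodule.smul_mono_left hy h2

/-- Below a prime minimal over the annihilator of `m`, finitely many elements kill a multiple of `m`. -/
theorem exists_killed {m : M} (hm : p ∈ (WeakAss.annEl R m).minimalPrimes) (F : Finset R) (hF : ∀ a ∈ F, a ∈ p) :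
    ∃ c : R, WeakAss.annEl R (c • m) ≤ p ∧ ∀ a ∈ F, ∃ r ∉ p, r • a • c • m = 0 := by
  classical
  induction F using Finset.induction_on with
  | empty => exact ⟨1, by rw [one_smul]; exact hm.1.2, by simp⟩
  | insert a F ha ih =>
    obtain ⟨c, hc, hcF⟩ := ih fun x hx => hF x (Finset.mem_insert_of_mem hx)
    obtain ⟨s, hs, k, hk⟩ := WeakAss.exists_mul_pow_mem hm (hF a (Finset.mem_insert_self a F))
    have hex : ∃ j : ℕ, ∃ r ∉ p, r • (a ^ j) • c • m = 0 :=
      ⟨k, s, hs, by rw [smul_comm (a ^ k) c, smul_comm s c, ← mul_smul s, WeakAss.mem_annEl.1 hk, smul_zero]⟩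
    obtain ⟨r, hr, hr0⟩ := Nat.find_spec hex
    have hpos : Nat.find hex ≠ 0 := by
      intro h0
      rw [h0, pow_zero, one_smul] at hr0
      exact hr (hc (WeakAss.mem_annEl.2 hr0))
    refine ⟨a ^ (Nat.find hex - 1) * c, fun x hx => ?_, fun b hb => ?_⟩
    · by_contra hxp
      rw [WeakAss.mem_annEl, mul_smul] at hx
      exact Nat.find_min hex (Nat.pred_lt hpos) ⟨x, hxp, hx⟩
    · rcases Finset.mem_insert.1 hb with rfl | hb
      · refine ⟨r, hr, ?_⟩
        rw [mul_smul, ← mul_smul b, ← pow_succ', Nat.sub_add_cancel (Nat.one_le_iff_ne_zero.2 hpos)]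
        exact hr0
      · obtain ⟨r', hr', h'⟩ := hcF b hb
        refine ⟨r', hr', ?_⟩
        rw [mul_smul, smul_comm b (a ^ _), smul_comm r' (a ^ _), h', smul_zero]

/-- A finite sum of multiples by elements of `p` involves finitely many elements of `p`. -/
theorem exists_finset_smul_top {n : N} (h : n ∈ p • (⊤ : Submodule R N)) :
    ∃ F : Finset R, (∀ a ∈ F, a ∈ p) ∧ n ∈ Ideal.span (F : Set R) • (⊤ : Submodule R N) := by
  classical
  induction h using Submodule.smul_induction_on' with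
  | smul a ha m _ => exact ⟨{a}, by simpa using ha, Submodule.smul_mem_smul (Ideal.subset_span (by simp)) Submodule.mem_top⟩
  | add x _ y _ hx hy =>
    obtain ⟨F, hF, hxF⟩ := hx
    obtain ⟨G, hG, hyG⟩ := hy
    exact ⟨F ∪ G, fun a ha => (Finset.mem_union.1 ha).elim (hF a) (hG a),
      add_mem (Submodule.smul_mono_left (Ideal.span_mono (by simp)) hxF)
        (Submodule.smul_mono_left (Ideal.span_mono (by simp)) hyG)⟩

/-- An associated prime of the fibre over a weakly associated prime of `M` is weakly associated to `N ⊗ M`. -/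
theorem mem_weakAss_of_assoc [IsNoetherianRing (p.Fiber S)] [Module.Flat R N] (hp : p ∈ FlatCA.weakAss R M)
    (hQ : FlatCA.fiberIdeal p q ∈ associatedPrimes (p.Fiber S) (FlatCA.fiberMod p S N)) :
    q ∈ FlatCA.weakAss S (N ⊗[R] M) := by
  classical
  obtain ⟨m, hm⟩ := hp
  obtain ⟨hQp, x, hx⟩ := FibAssIdeal.mem_ass_of_mem_associatedPrimes hQ
  haveI := AssFiber.isLocalizedModule_quotToFiber p (S := S) N
  obtain ⟨⟨y, ⟨_, r₀, hr₀, rfl⟩⟩, hy⟩ :=
    IsLocalizedModule.surj (Algebra.algebraMapSubmonoid S p.primeCompl) (AssFiber.quotToFiber p (S := S) N) x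
  obtain ⟨n, rfl⟩ := Submodule.Quotient.mk_surjective _ y
  have hy' : algebraMap S (p.Fiber S) (algebraMap R S r₀) • x = FlatCA.toFiberMod p (S := S) N n := by
    rw [AssFiber.algebraMap_smul_fiberMod]; exact hy
  have hn : ∀ b : p.Fiber S, b • FlatCA.toFiberMod p (S := S) N n = 0 ↔ b ∈ FlatCA.fiberIdeal p q := by
    intro b
    rw [← hy', smul_smul, mul_comm, hx]
    change _ ↔ b ∈ WeakAss.annEl (p.Fiber S) x
    rw [WeakAss.mem_annEl, mul_smul]
    exact (PurityBC.isUnit_algebraMap_fiber p hr₀).smul_eq_zero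
  have hcomap : (FlatCA.fiberIdeal p q).comap (algebraMap S (p.Fiber S)) = q := by
    obtain ⟨⟨Q, hQ1⟩, hQ2⟩ := NzdUnivInj.exists_prime_fiber p q
    rw [← FibAssIdeal.eq_fiberIdeal p hQ2]
    exact hQ2
  -- finitely many elements generating the fibre ideal
  obtain ⟨B, hB⟩ := (IsNoetherian.noetherian (FlatCA.fiberIdeal p q) : (FlatCA.fiberIdeal p q).FG)
  choose ρ hρ g hg using fun b => AssFiber.exists_smul_eq_includeRight p (S := S) b
  have hgQ : ∀ b ∈ B, algebraMap S (p.Fiber S) (g b) ∈ FlatCA.fiberIdeal p q := fun b hb => by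
    show (1 : p.ResidueField) ⊗ₜ[R] g b ∈ FlatCA.fiberIdeal p q
    rw [← hg b]
    exact Ideal.mul_mem_left _ _ (hB ▸ Submodule.subset_span hb)
  have hgn : ∀ b ∈ B, ∃ r ∉ p, ∃ F : Finset R, (∀ a ∈ F, a ∈ p) ∧
      r • g b • n ∈ Ideal.span (F : Set R) • (⊤ : Submodule R N) := fun b hb => by
    have h0 : FlatCA.toFiberMod p (S := S) N (g b • n) = 0 := by
      rw [map_smul, ← AssFiber.algebraMap_smul_fiberMod]; exact (hn _).2 (hgQ b hb)
    obtain ⟨r, hr, hmem⟩ := (PurityBC.toFiberMod_eq_zero_iff p N _).1 h0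
    exact ⟨r, hr, exists_finset_smul_top N p hmem⟩
  choose! r hr F hF hgF using hgn
  obtain ⟨c, hc, hcF⟩ := exists_killed M p hm (B.biUnion F) fun a ha => by
    obtain ⟨b, hb, ha⟩ := Finset.mem_biUnion.1 ha
    exact hF b hb a ha
  choose! r' hr' hr'0 using hcF
  let y := c • m
  let z : N ⊗[R] M := n ⊗ₜ[R] y
  have hzq : WeakAss.annEl S z ≤ q := by
    intro t ht
    by_contra htq
    have h0 : (t • n) ⊗ₜ[R] y = 0 := by rw [← smul_tmul']; exact WeakAss.mem_annEl.1 ht
    have h1 : FlatCA.toFiberMod p (S := S) N (t • n) = 0 :=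
      (PurityBC.toFiberMod_eq_zero_iff p N _).2 ⟨1, fun h => ‹p.IsPrime›.ne_top ((Ideal.eq_top_iff_one _).2 h),
        by rw [one_smul]; exact mem_smul_top_of_tmul_eq_zero N M p hc h0⟩
    rw [map_smul, ← AssFiber.algebraMap_smul_fiberMod, hn, ← Ideal.mem_comap, hcomap] at h1
    exact htq h1
  refine WeakAss.mem_weakAss_iff.2 ⟨z, ⟨‹q.IsPrime›, hzq⟩, fun q' hq' hle => ?_⟩
  obtain ⟨hq'P, hann⟩ := hq'
  haveI := hq'P
  have hover : p = q'.under R := by
    have hsub : q'.under R ≤ p := fun a ha => by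
      rw [hqp.over]; exact hle ha
    refine le_antisymm (hm.2 ⟨Ideal.IsPrime.comap _, fun a ha => ?_⟩ hsub) hsub
    refine hann (WeakAss.mem_annEl.2 ?_)
    show algebraMap R S a • (n ⊗ₜ[R] y) = 0
    rw [algebraMap_smul, ← tmul_smul, smul_comm, WeakAss.mem_annEl.1 ha, smul_zero, tmul_zero]
  haveI : q'.LiesOver p := ⟨hover⟩
  have hgq' : ∀ b ∈ B, algebraMap S (p.Fiber S) (g b) ∈ FlatCA.fiberIdeal p q' := fun b hb => by
    refine Ideal.mem_map_of_mem _ ?_
    let u := ∏ a ∈ F b, r' a
    have hu : u ∉ p := fun h => by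
      obtain ⟨a, ha, h⟩ := (Ideal.IsPrime.prod_mem_iff (p := p)).1 h
      exact hr' a (Finset.mem_biUnion.2 ⟨b, hb, ha⟩) h
    have h0 : ∀ k ∈ Ideal.span (F b : Set R) • (⊤ : Submodule R N), u • (k ⊗ₜ[R] y) = 0 := by
      intro k hk
      induction hk using Submodule.smul_induction_on' with
      | smul a ha m' _ =>
        rw [smul_tmul, ← tmul_smul]
        suffices ∀ a ∈ Ideal.span (F b : Set R), u • a • y = 0 by rw [this a ha, tmul_zero]
        intro a ha
        induction ha using Submodule.span_induction with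
        | mem a ha =>
          obtain ⟨w, hw⟩ := Finset.dvd_prod_of_mem r' ha
          rw [show u = w * r' a from hw.trans (mul_comm _ _), mul_smul,
            hr'0 a (Finset.mem_biUnion.2 ⟨b, hb, ha⟩), smul_zero]
        | zero => rw [zero_smul, smul_zero]
        | add a b _ _ ha hb => rw [add_smul, smul_add, ha, hb, add_zero]
        | smul a b _ hb => rw [smul_eq_mul, mul_smul, smul_comm, hb, smul_zero]
      | add k _ l _ hk hl => rw [add_tmul, smul_add, hk, hl, add_zero]
    have h1 : algebraMap R S (u * r b) * g b ∈ q' := by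
      refine hann (WeakAss.mem_annEl.2 ?_)
      show (algebraMap R S (u * r b) * g b) • (n ⊗ₜ[R] y) = 0
      rw [mul_smul, algebraMap_smul, mul_smul, smul_tmul' (g b), smul_tmul' (r b)]
      exact h0 _ (hgF b hb)
    refine (hq'P.mem_or_mem h1).resolve_left fun h => ?_
    have h2 : u * r b ∈ p := by rw [hover]; exact h
    exact (‹p.IsPrime›.mem_or_mem h2).elim hu (hr b hb)
  have hQle : FlatCA.fiberIdeal p q ≤ FlatCA.fiberIdeal p q' := by
    conv_lhs => rw [← hB]
    refine Submodule.span_le.2 fun b hb => ?_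
    have h1 := hgq' b hb
    rw [show algebraMap S (p.Fiber S) (g b) = algebraMap S (p.Fiber S) (algebraMap R S (ρ b)) * b from (hg b).symm] at h1
    exact (Ideal.unit_mul_mem_iff_mem _ (PurityBC.isUnit_algebraMap_fiber p (hρ b))).1 h1
  rw [← hcomap]
  obtain ⟨⟨Q', hQ'1⟩, hQ'2⟩ := NzdUnivInj.exists_prime_fiber p q'
  have hQ'e := FibAssIdeal.eq_fiberIdeal p hQ'2
  subst hQ'e
  exact (Ideal.comap_mono hQle).trans hQ'2.le

end Groth.Agent.ZClosLib.WeakAssTensor
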