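import Mathlib
import Groth.Prelude.Def_FlatCA
import Groth.Agent.Hensel.Colim
import Groth.Agent.WEtLib.Basic
import Groth.Agent.Triage.WeakAssFin

/-!
# The closed point as weakly associated prime along ind-étale local maps
-/

set_option autoImplicit false
set_option linter.style.haveILetI false

universe u

open TensorProduct IsLocalRing

namespace Groth.Agent.ZClosLib.WeakAssHenz

/-- The annihilator of `1 ⊗ z` in a flat base change. -/
theorem annEl_one_tmul {A B M : Type u} [CommRing A] [CommRing B] [Algebra A B] [Module.Flat A B]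
    [AddCommGroup M] [Module A M] (z : M) :
    WeakAss.annEl B ((1 : B) ⊗ₜ[A] z) = (WeakAss.annEl A z).map (algebraMap A B) := by
  let q : A ⧸ WeakAss.annEl A z →ₗ[A] M := Submodule.liftQ _ (LinearMap.toSpanSingleton A M z) fun r hr => by
    rw [LinearMap.mem_ker, LinearMap.toSpanSingleton_apply]
    exact WeakAss.mem_annEl.1 hr
  have hq : Function.Injective q := by
    rw [← LinearMap.ker_eq_bot]
    refine Submodule.ker_liftQ_eq_bot _ _ _ fun r hr => WeakAss.mem_annEl.2 ?_
    rwa [LinearMap.mem_ker, LinearMap.toSpanSingleton_apply] at hr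
  have hQ : Function.Injective (q.baseChange B) := fun a b hab =>
    Module.Flat.lTensor_preserves_injective_linearMap q hq hab
  have he : q.baseChange B ((1 : B) ⊗ₜ Submodule.Quotient.mk (1 : A)) = (1 : B) ⊗ₜ[A] z := by
    rw [LinearMap.baseChange_tmul, show q (Submodule.Quotient.mk 1) = z from one_smul A z]
  rw [← he, WeakAss.annEl_map_of_injective _ hQ]
  let e := (Algebra.TensorProduct.quotIdealMapEquivTensorQuot B (WeakAss.annEl A z)).symm
  ext b
  rw [WeakAss.mem_annEl, ← Ideal.Quotient.eq_zero_iff_mem]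
  have h1 : e (b • ((1 : B) ⊗ₜ Submodule.Quotient.mk (1 : A))) = Ideal.Quotient.mk _ b := by
    simp only [e, TensorProduct.smul_tmul', smul_eq_mul, mul_one]
    rw [AlgEquiv.symm_apply_eq, Algebra.TensorProduct.quotIdealMapEquivTensorQuot_mk]
    rfl
  rw [← h1, EmbeddingLike.map_eq_zero_iff]

variable {R S : Type u} [CommRing R] [IsLocalRing R] [CommRing S] [IsLocalRing S] [Algebra R S]
  [IsLocalHom (algebraMap R S)] {M : Type u} [AddCommGroup M] [Module R M]

/-- Going up: a flat local map with trivial closed fibre keeps the closed point weakly associated. -/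
theorem maximal_mem_weakAss [Module.Flat R S] (hmax : (maximalIdeal R).map (algebraMap R S) = maximalIdeal S)
    (h : maximalIdeal R ∈ FlatCA.weakAss R M) : maximalIdeal S ∈ FlatCA.weakAss S (S ⊗[R] M) := by
  obtain ⟨z, hz⟩ := h
  refine WeakAss.mem_weakAss_iff.2 ⟨(1 : S) ⊗ₜ z, ?_⟩
  rw [annEl_one_tmul]
  refine ⟨⟨inferInstance, (Ideal.map_mono hz.1.2).trans hmax.le⟩, fun P hP hPm => ?_⟩
  haveI := hP.1
  rw [← hmax, Ideal.map_le_iff_le_comap]
  exact hz.2 ⟨Ideal.IsPrime.comap _, Ideal.map_le_iff_le_comap.1 hP.2⟩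
    ((Ideal.comap_mono hPm).trans_eq (IsLocalRing.maximalIdeal_comap (algebraMap R S)))

/-- Going down: if every finite set lives in an étale subalgebra, the closed point descends. -/
theorem maximal_mem_weakAss_of_etale [Module.Flat R S]
    (hlift : ∀ s : Finset S, ∃ (E : Type u) (_ : CommRing E) (_ : Algebra R E) (_ : Algebra.Etale R E)
      (φ : E →ₐ[R] S), ∀ x ∈ s, x ∈ Set.range φ)
    (h : maximalIdeal S ∈ FlatCA.weakAss S (S ⊗[R] M)) : maximalIdeal R ∈ FlatCA.weakAss R M := by
  classical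
  obtain ⟨y, hy⟩ := h
  obtain ⟨L, hL⟩ := TensorProduct.exists_finset y
  obtain ⟨E, _, _, _, φ, hφ⟩ := hlift (L.image Prod.fst)
  letI : Algebra E S := φ.toRingHom.toAlgebra
  haveI : IsScalarTower R E S := IsScalarTower.of_algebraMap_eq fun r => (φ.commutes r).symm
  haveI : Module.Flat E S := WEtLib.flat_of_flat (A := R) S
  choose! g hg using fun x hx => hφ x hx
  let y' : E ⊗[R] M := ∑ i ∈ L, g i.1 ⊗ₜ[R] i.2
  let c := AlgebraTensorModule.cancelBaseChange R E S S M
  have hyy : c ((1 : S) ⊗ₜ[E] y') = y := by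
    rw [hL, tmul_sum, map_sum]
    refine Finset.sum_congr rfl fun i hi => ?_
    rw [AlgebraTensorModule.cancelBaseChange_tmul, Algebra.smul_def, mul_one]
    conv_rhs => rw [← hg i.1 (Finset.mem_image_of_mem _ hi)]
    rfl
  have hann : WeakAss.annEl S y = (WeakAss.annEl E y').map (algebraMap E S) := by
    rw [← annEl_one_tmul (B := S) y', ← hyy]
    exact WeakAss.annEl_map_of_injective c.toLinearMap c.injective _
  let q : Ideal E := (maximalIdeal S).comap (algebraMap E S)
  haveI : q.IsPrime := Ideal.IsPrime.comap _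
  haveI : (maximalIdeal S).LiesOver q := ⟨rfl⟩
  have hq : q ∈ FlatCA.weakAss E (E ⊗[R] M) := by
    refine WeakAss.mem_weakAss_iff.2 ⟨y', ⟨inferInstance, ?_⟩, fun q' hq' hle => ?_⟩
    · exact Ideal.map_le_iff_le_comap.1 (hann.ge.trans hy.1.2)
    · haveI := hq'.1
      obtain ⟨P, hPle, hP, hPover⟩ := Ideal.exists_ideal_le_liesOver_of_le (p := q') (q := q) (maximalIdeal S) hle
      have : maximalIdeal S ≤ P := hy.2 ⟨hP, hann.le.trans (Ideal.map_le_iff_le_comap.2
        (hq'.2.trans hPover.over.le))⟩ hPle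
      exact (Ideal.comap_mono this).trans hPover.over.ge
  haveI : q.LiesOver (maximalIdeal R) := ⟨by
    rw [Ideal.under, Ideal.comap_comap, ← IsScalarTower.algebraMap_eq]
    exact (IsLocalRing.maximalIdeal_comap (algebraMap R S)).symm⟩
  exact Triage.WeakAssFin.mem_weakAss_of_etale M q hq

/-- Finite sets of the constructed henselization live in étale algebras. -/
theorem exists_etale_range_henz {K : Type u} [CommRing K] [Algebra R K] (s : Finset (Hensel.Henz R K)) :
    ∃ N : Hensel.Nbhd R K, ∀ x ∈ s, x ∈ Set.range (Hensel.Henz.ofB N) := by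
  classical
  induction s using Finset.induction_on with
  | empty =>
    obtain ⟨N, -⟩ := Hensel.Henz.exists_ofB (0 : Hensel.Henz R K)
    exact ⟨N, by simp⟩
  | insert a s ha ih =>
    obtain ⟨N, hN⟩ := ih
    obtain ⟨N', b, hb⟩ := Hensel.Henz.exists_ofB a
    obtain ⟨P, α, β, hα, hβ⟩ := Hensel.Nbhd.exists_hom₂ N N'
    refine ⟨P, fun x hx => ?_⟩
    rcases Finset.mem_insert.1 hx with rfl | hx
    · exact ⟨β b, by rw [← hb, ← Hensel.Henz.ofB_comp β hβ]; rfl⟩
    · obtain ⟨c, rfl⟩ := hN x hx
      exact ⟨α c, by rw [← Hensel.Henz.ofB_comp α hα]; rfl⟩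

theorem exists_etale_range_of_equiv {K : Type u} [CommRing K] [Algebra R K] (e : Hensel.Henz R K ≃ₐ[R] S) (s : Finset S) :
    ∃ (E : Type u) (_ : CommRing E) (_ : Algebra R E) (_ : Algebra.Etale R E) (φ : E →ₐ[R] S), ∀ x ∈ s, x ∈ Set.range φ := by
  classical
  obtain ⟨N, hN⟩ := exists_etale_range_henz (s.image e.symm)
  refine ⟨N.B, inferInstance, inferInstance, inferInstance, e.toAlgHom.comp (Hensel.Henz.ofB N), fun x hx => ?_⟩
  obtain ⟨b, hb⟩ := hN _ (Finset.mem_image_of_mem _ hx)
  exact ⟨b, by rw [AlgHom.comp_apply, hb]; exact e.apply_symm_apply x⟩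

end Groth.Agent.ZClosLib.WeakAssHenz
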