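import Mathlib
import Groth.Agent.FittX.Ideal
import Groth.Agent.FittX.Prod
import Groth.Prelude.Def_FlatCA

/-!
# The zeroth Fitting ideal of `C/J` over an étale open of a finite projective algebra
-/

set_option autoImplicit false

universe u

open TensorProduct

namespace Groth.Agent.ZClosLib.FittEtale

theorem fittingZero_eq (R : Type u) [CommRing R] (M : Type u) [AddCommGroup M] [Module R M] :
    FlatCA.fittingZero R M = Fitt.ideal R M 0 := by
  refine congrArg Ideal.span (Set.ext fun d => ⟨?_, ?_⟩)
  · rintro ⟨n, x, a, hx, ha, rfl⟩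
    exact ⟨n, x, a, hx, fun i _ => ha i, rfl⟩
  · rintro ⟨n, x, a, hx, ha, rfl⟩
    exact ⟨n, x, a, hx, fun i => ha i (by have := i.2; omega), rfl⟩

theorem ideal_quotient (R : Type u) [CommRing R] (I : Ideal R) : Fitt.ideal R (R ⧸ I) 0 = I := by
  refine le_antisymm ?_ fun r hr => ?_
  · refine (Ideal.span_le.2 ?_)
    rintro d ⟨n, x, a, hx, ha, rfl⟩
    have h : ∀ j, a.det • x j = 0 := fun j => by
      have h1 : ∀ i, ∑ k, a i k • x k = 0 := fun i => ha i (by have := i.2; omega)
      have e : a.adjugate * a = a.det • 1 := Matrix.adjugate_mul a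
      calc a.det • x j = ∑ k, (a.adjugate * a) j k • x k := by
            rw [e]; simp [Matrix.one_apply, ite_smul]
        _ = ∑ i, a.adjugate j i • ∑ k, a i k • x k := by
            simp only [Matrix.mul_apply, Finset.sum_smul, Finset.smul_sum, smul_smul]
            rw [Finset.sum_comm]
        _ = 0 := by simp [h1]
    have h2 : ∀ z : R ⧸ I, a.det • z = 0 := fun z => by
      have hz : z ∈ Submodule.span R (Set.range x) := hx ▸ Submodule.mem_top
      refine Submodule.span_induction (fun y hy => ?_) (smul_zero _)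
        (fun u v _ _ hu hv => by rw [smul_add, hu, hv, add_zero]) (fun c u _ hu => by rw [smul_comm, hu, smul_zero]) hz
      obtain ⟨j, rfl⟩ := hy
      exact h j
    have h3 := h2 1
    rwa [Algebra.smul_def, mul_one, Ideal.Quotient.algebraMap_eq, Ideal.Quotient.eq_zero_iff_mem] at h3
  · refine Ideal.subset_span ⟨1, fun _ => 1, Matrix.of fun _ _ => r, ?_, fun i _ => ?_, by simp⟩
    · rw [eq_top_iff]
      intro z _
      obtain ⟨c, rfl⟩ := Ideal.Quotient.mk_surjective z
      rw [Submodule.mem_span_range_iff_exists_fun]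
      exact ⟨fun _ => c, by simp [Algebra.smul_def]⟩
    · simp [Algebra.smul_def, Ideal.Quotient.eq_zero_iff_mem.2 hr]

/-- A retraction `μ : S → R'` is the projection to a direct factor as soon as `R'` is formally unramified. -/
theorem isIdempotentElem_ker {A C R' S : Type u} [CommRing A] [CommRing C] [Algebra A C] [CommRing R'] [Algebra A R']
    [Algebra C R'] [IsScalarTower A C R'] [CommRing S] [Algebra A S] (h : C) [IsLocalization.Away h R']
    [Algebra.FormallyUnramified A R'] (μ : S →ₐ[A] R') (hμ : Function.Surjective μ) (i : R' →ₐ[A] S)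
    (hi : ∀ x, μ (i x) = x) (j : C →ₐ[A] S) (hj : ∀ c, μ (j c) = algebraMap C R' c)
    (hgen : ∀ Q : Ideal S, (∀ c, j c - i (algebraMap C R' c) ∈ Q) → ∀ z, z - i (μ z) ∈ Q) :
    IsIdempotentElem (RingHom.ker μ) := by
  have hu : IsUnit (Ideal.Quotient.mkₐ A (RingHom.ker μ ^ 2) (j h)) := by
    obtain ⟨v, hv⟩ := (IsLocalization.Away.algebraMap_isUnit (S := R') h).exists_right_inv
    have hk : j h * i v - 1 ∈ RingHom.ker μ := by
      rw [RingHom.mem_ker, map_sub, map_mul, hj, hi, hv, map_one, sub_self]
    have hnil : IsNilpotent (Ideal.Quotient.mk (RingHom.ker μ ^ 2) (j h * i v - 1)) :=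
      ⟨2, by rw [← map_pow]; exact Ideal.Quotient.eq_zero_iff_mem.2 (Ideal.pow_mem_pow hk 2)⟩
    have h3 := hnil.isUnit_one_add
    rw [map_sub, map_one, add_sub_cancel, map_mul] at h3
    exact isUnit_of_mul_isUnit_left h3
  let g₁ : R' →ₐ[A] S ⧸ RingHom.ker μ ^ 2 := (Ideal.Quotient.mkₐ A _).comp i
  have hpow : ∀ y : Submonoid.powers h, IsUnit (((Ideal.Quotient.mkₐ A (RingHom.ker μ ^ 2)).comp j) y) := by
    rintro ⟨y, n, rfl⟩
    show IsUnit (((Ideal.Quotient.mkₐ A (RingHom.ker μ ^ 2)).comp j) (h ^ n))
    rw [map_pow]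
    exact hu.pow n
  let g₂ : R' →ₐ[A] S ⧸ RingHom.ker μ ^ 2 := IsLocalization.liftAlgHom (M := Submonoid.powers h) hpow
  have h₂ : ∀ c, g₂ (algebraMap C R' c) = Ideal.Quotient.mk _ (j c) := fun c => by
    simp [g₂, IsLocalization.lift_eq]
  have hg : g₁ = g₂ := by
    refine Algebra.FormallyUnramified.ext (R := A) (A := R') ((RingHom.ker μ).map (Ideal.Quotient.mk (RingHom.ker μ ^ 2)))
      ⟨2, ?_⟩ ?_
    · rw [← Ideal.map_pow, Ideal.map_quotient_self]
      rfl
    · have key : (Ideal.Quotient.mkₐ A ((RingHom.ker μ).map (Ideal.Quotient.mk (RingHom.ker μ ^ 2)))).comp g₁ =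
          (Ideal.Quotient.mkₐ A ((RingHom.ker μ).map (Ideal.Quotient.mk (RingHom.ker μ ^ 2)))).comp g₂ := by
        refine IsLocalization.algHom_ext (Submonoid.powers h) ?_
        refine AlgHom.ext fun c => ?_
        show Ideal.Quotient.mk _ (g₁ (algebraMap C _ c)) = Ideal.Quotient.mk _ (g₂ (algebraMap C _ c))
        rw [Ideal.Quotient.eq, h₂]
        show Ideal.Quotient.mk _ (i (algebraMap C R' c)) - Ideal.Quotient.mk _ (j c) ∈ _
        rw [← map_sub]
        refine Ideal.mem_map_of_mem _ ?_
        rw [RingHom.mem_ker, map_sub, hi, hj, sub_self]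
      exact fun x => congr($key x)
  have hgen' : ∀ c, j c - i (algebraMap C R' c) ∈ RingHom.ker μ ^ 2 := fun c => by
    rw [← Ideal.Quotient.eq]
    exact (h₂ c).symm.trans (congr($hg (algebraMap C R' c))).symm
  refine le_antisymm Ideal.mul_le_left fun z hz => ?_
  rw [← pow_two]
  have := hgen _ hgen' z
  rwa [RingHom.mem_ker.1 hz, map_zero, sub_zero] at this

/-- Splitting a quotient of `S` along an idempotent whose ideal is the kernel of a retraction. -/
theorem fitting_split {R' S N : Type u} [CommRing R'] [CommRing S] [Algebra R' S] [Module.Finite R' S]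
    [CommRing N] [Algebra R' N] (μ : S →ₐ[R'] R') (hμ : Function.Surjective μ) (e : S) (he : IsIdempotentElem e)
    (hK : RingHom.ker μ = Ideal.span {e}) (q : S →ₐ[R'] N) (hq : Function.Surjective q) (JS : Ideal S)
    (hqk : RingHom.ker q = JS) :
    Fitt.ideal R' N 0 = JS.map μ * Fitt.ideal R' (S ⧸ (JS ⊔ Ideal.span {1 - e})) 0 := by
  have hcop : IsCoprime (JS ⊔ Ideal.span {e}) (JS ⊔ Ideal.span {1 - e}) := by
    rw [Ideal.isCoprime_iff_sup_eq, eq_top_iff]
    intro z _
    rw [show z = z * e + z * (1 - e) by ring]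
    exact add_mem (Ideal.mem_sup_left (Ideal.mem_sup_right (Ideal.mul_mem_left _ _ (Ideal.mem_span_singleton_self _))))
      (Ideal.mem_sup_right (Ideal.mem_sup_right (Ideal.mul_mem_left _ _ (Ideal.mem_span_singleton_self _))))
  have hinf : (JS ⊔ Ideal.span {e}) ⊓ (JS ⊔ Ideal.span {1 - e}) = JS := by
    refine le_antisymm (fun z hz => ?_) (le_inf le_sup_left le_sup_left)
    obtain ⟨j₁, hj₁, x₁, hx₁, rfl⟩ := Submodule.mem_sup.1 hz.1
    obtain ⟨j₂, hj₂, x₂, hx₂, hz₂⟩ := Submodule.mem_sup.1 hz.2
    obtain ⟨a, rfl⟩ := Ideal.mem_span_singleton'.1 hx₁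
    obtain ⟨b, rfl⟩ := Ideal.mem_span_singleton'.1 hx₂
    have he2 : e * e = e := he
    have : j₁ + a * e = (1 - e) * j₁ + e * j₂ := by
      linear_combination -e * hz₂ - (a + b) * he2
    rw [this]
    exact add_mem (Ideal.mul_mem_left _ _ hj₁) (Ideal.mul_mem_left _ _ hj₂)
  haveI : Module.Finite R' N := Module.Finite.of_surjective q.toLinearMap hq
  let e₀ : N ≃ₐ[R'] (S ⧸ (JS ⊔ Ideal.span {e})) × (S ⧸ (JS ⊔ Ideal.span {1 - e})) :=
    (Ideal.quotientKerAlgEquivOfSurjective hq).symm.trans
      ((Ideal.quotientEquivAlgOfEq R' (hqk.trans hinf.symm)).trans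
        (AlgEquiv.ofRingEquiv (f := Ideal.quotientInfEquivQuotientProd _ _ hcop) fun r => rfl))
  let ν : S →ₐ[R'] R' ⧸ JS.map μ := (Ideal.Quotient.mkₐ R' (JS.map μ)).comp μ
  have hν : RingHom.ker ν = JS ⊔ Ideal.span {e} := by
    ext z
    rw [RingHom.mem_ker]
    show Ideal.Quotient.mk (JS.map μ) (μ z) = 0 ↔ _
    rw [Ideal.Quotient.eq_zero_iff_mem, ← Ideal.mem_comap, Ideal.comap_map_of_surjective _ hμ,
      ← RingHom.ker_eq_comap_bot, hK]
  let e₁ : (S ⧸ (JS ⊔ Ideal.span {e})) ≃ₐ[R'] R' ⧸ JS.map μ :=
    (Ideal.quotientEquivAlgOfEq R' hν.symm).trans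
      (Ideal.quotientKerAlgEquivOfSurjective (f := ν) ((Ideal.Quotient.mkₐ_surjective R' _).comp hμ))
  rw [FittX.ideal_congr e₀.toLinearEquiv 0, FittX.ideal_prod, Finset.sum_range_one, Nat.sub_self,
    FittX.ideal_congr e₁.toLinearEquiv 0, ideal_quotient]

variable {A C : Type u} [CommRing A] [CommRing C] [Algebra A C] (h : C)

/-- The multiplication `C_h ⊗ C → C_h`. -/
noncomputable def mulMap : Localization.Away h ⊗[A] C →ₐ[Localization.Away h] Localization.Away h :=
  Algebra.TensorProduct.lift (Algebra.ofId _ _) (IsScalarTower.toAlgHom A C _) fun _ _ => Commute.all _ _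

theorem mulMap_tmul (x : Localization.Away h) (c : C) :
    mulMap (A := A) h (x ⊗ₜ[A] c) = x * algebraMap C (Localization.Away h) c := by
  simp [mulMap]

theorem mulMap_surjective : Function.Surjective (mulMap (A := A) h) := fun x =>
  ⟨x ⊗ₜ[A] 1, by rw [mulMap_tmul, map_one, mul_one]⟩

/-- The diagonal of an étale open piece is cut out by an idempotent. -/
theorem exists_idempotent [Module.Finite A C] [Algebra.FormallyUnramified A (Localization.Away h)]
    [Algebra.FiniteType A C] :
    ∃ e : Localization.Away h ⊗[A] C, IsIdempotentElem e ∧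
      RingHom.ker (mulMap (A := A) h) = Ideal.span {e} := by
  have hidem : IsIdempotentElem (RingHom.ker (mulMap (A := A) h)) := by
    refine isIdempotentElem_ker (R' := Localization.Away h) h ((mulMap (A := A) h).restrictScalars A) (mulMap_surjective h)
      Algebra.TensorProduct.includeLeft (fun x => ?_) Algebra.TensorProduct.includeRight (fun c => ?_) fun Q hQ z => ?_
    · show mulMap (A := A) h (x ⊗ₜ[A] 1) = x
      rw [mulMap_tmul, map_one, mul_one]
    · show mulMap (A := A) h (1 ⊗ₜ[A] c) = _
      rw [mulMap_tmul, one_mul]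
    · induction z using TensorProduct.induction_on with
      | zero => simp
      | add x y hx hy => rw [map_add, map_add, add_sub_add_comm]; exact add_mem hx hy
      | tmul x c =>
        show x ⊗ₜ[A] c - (mulMap (A := A) h (x ⊗ₜ[A] c)) ⊗ₜ[A] (1 : C) ∈ Q
        have := Q.mul_mem_left (x ⊗ₜ[A] (1 : C)) (hQ c)
        rw [mulMap_tmul]
        simpa [mul_sub] using this
  have hfg : (RingHom.ker (mulMap (A := A) h)).FG := by
    refine Submodule.FG.of_restrictScalars (Localization.Away h) ?_
    exact Module.FinitePresentation.fg_ker (mulMap (A := A) h).toLinearMap (mulMap_surjective h)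
  exact (Ideal.isIdempotentElem_iff_of_fg _ hfg).1 hidem

set_option synthInstance.maxHeartbeats 200000 in
set_option maxHeartbeats 800000 in
/-- `Fitt₀(C/J)` extends to `C_h` as a multiple of `J`. -/
theorem exists_factor [Module.Finite A C] [Module.Projective A C] [Algebra.FormallyUnramified A (Localization.Away h)]
    (J : Ideal C) :
    ∃ J' : Ideal (Localization.Away h),
      (FlatCA.fittingZero A (C ⧸ J)).map (algebraMap A (Localization.Away h)) =
        J.map (algebraMap C (Localization.Away h)) * J' ∧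
      (J.FG → (FlatCA.fittingZero A (C ⧸ J)).FG ∧ J'.FG) := by
  obtain ⟨e, he, hK⟩ := exists_idempotent (A := A) h
  have hqs : Function.Surjective
      (Algebra.TensorProduct.map (AlgHom.id (Localization.Away h) (Localization.Away h)) (Ideal.Quotient.mkₐ A J)) :=
    fun z => by
      induction z using TensorProduct.induction_on with
      | zero => exact ⟨0, map_zero _⟩
      | add x y hx hy =>
        obtain ⟨a, ha⟩ := hx
        obtain ⟨b, hb⟩ := hy
        exact ⟨a + b, by rw [map_add, ha, hb]⟩
      | tmul x c =>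
        obtain ⟨c, rfl⟩ := Ideal.Quotient.mk_surjective c
        exact ⟨x ⊗ₜ[A] c, by rw [Algebra.TensorProduct.map_tmul]; rfl⟩
  have hqk : RingHom.ker
      (Algebra.TensorProduct.map (AlgHom.id (Localization.Away h) (Localization.Away h)) (Ideal.Quotient.mkₐ A J)) =
      J.map (Algebra.TensorProduct.includeRight : C →ₐ[A] Localization.Away h ⊗[A] C) := by
    have h1 : RingHom.ker (Algebra.TensorProduct.map (AlgHom.id A (Localization.Away h)) (Ideal.Quotient.mkₐ A J)) =
        (RingHom.ker (Ideal.Quotient.mkₐ A J)).map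
          (Algebra.TensorProduct.includeRight : C →ₐ[A] Localization.Away h ⊗[A] C) :=
      Algebra.TensorProduct.lTensor_ker _ (Ideal.Quotient.mkₐ_surjective A J)
    rw [show RingHom.ker (Ideal.Quotient.mkₐ A J) = J from Ideal.mk_ker] at h1
    rw [← h1]
    ext z
    simp only [RingHom.mem_ker]
    have hz : Algebra.TensorProduct.map (AlgHom.id (Localization.Away h) (Localization.Away h)) (Ideal.Quotient.mkₐ A J) z =
        Algebra.TensorProduct.map (AlgHom.id A (Localization.Away h)) (Ideal.Quotient.mkₐ A J) z := by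
      induction z using TensorProduct.induction_on with
      | zero => rw [map_zero, map_zero]
      | add x y hx hy => rw [map_add, map_add, hx, hy]
      | tmul x c => rw [Algebra.TensorProduct.map_tmul, Algebra.TensorProduct.map_tmul]; rfl
    rw [hz]
  have hmap : (J.map (Algebra.TensorProduct.includeRight : C →ₐ[A] Localization.Away h ⊗[A] C)).map (mulMap (A := A) h) =
      J.map (algebraMap C (Localization.Away h)) := by
    refine le_antisymm (Ideal.map_le_iff_le_comap.2 (Ideal.map_le_iff_le_comap.2 fun c hc => ?_))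
      (Ideal.map_le_iff_le_comap.2 fun c hc => ?_)
    · rw [Ideal.mem_comap, Ideal.mem_comap, Algebra.TensorProduct.includeRight_apply, mulMap_tmul, one_mul]
      exact Ideal.mem_map_of_mem _ hc
    · rw [Ideal.mem_comap, ← one_mul (algebraMap C _ c), ← mulMap_tmul (A := A)]
      exact Ideal.mem_map_of_mem _ (Ideal.mem_map_of_mem _ hc)
  refine ⟨Fitt.ideal (Localization.Away h) ((Localization.Away h ⊗[A] C) ⧸
    (J.map (Algebra.TensorProduct.includeRight : C →ₐ[A] Localization.Away h ⊗[A] C) ⊔ Ideal.span {1 - e})) 0, ?_,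
    fun hJ => ⟨?_, ?_⟩⟩
  · rw [fittingZero_eq, ← FittX.ideal_baseChange (TensorProduct.isBaseChange A (C ⧸ J) (Localization.Away h)) 0,
      fitting_split (mulMap (A := A) h) (mulMap_surjective h) e he hK _ hqs _ hqk, hmap]
  · rw [fittingZero_eq]
    haveI : Module.FinitePresentation A C := Module.finitePresentation_of_projective A C
    haveI : Module.FinitePresentation A (C ⧸ J) :=
      Module.finitePresentation_of_surjective (Ideal.Quotient.mkₐ A J).toLinearMap (Ideal.Quotient.mkₐ_surjective A J)
        (by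
          rw [show LinearMap.ker (Ideal.Quotient.mkₐ A J).toLinearMap = J.restrictScalars A from
            Submodule.ext fun x => Ideal.Quotient.eq_zero_iff_mem]
          exact Submodule.FG.restrictScalars hJ)
    exact FittX.ideal_fg 0
  · haveI : Module.FinitePresentation (Localization.Away h) (Localization.Away h ⊗[A] C) :=
      Module.finitePresentation_of_projective _ _
    have hI₂ : (J.map (Algebra.TensorProduct.includeRight : C →ₐ[A] Localization.Away h ⊗[A] C) ⊔
        Ideal.span {1 - e}).FG := Submodule.FG.sup (hJ.map _) ⟨{1 - e}, by simp⟩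
    haveI : Module.FinitePresentation (Localization.Away h) ((Localization.Away h ⊗[A] C) ⧸
        (J.map (Algebra.TensorProduct.includeRight : C →ₐ[A] Localization.Away h ⊗[A] C) ⊔ Ideal.span {1 - e})) :=
      Module.finitePresentation_of_surjective (Ideal.Quotient.mkₐ (Localization.Away h) _).toLinearMap
        (Ideal.Quotient.mkₐ_surjective (Localization.Away h) _)
        (by
          rw [show LinearMap.ker (Ideal.Quotient.mkₐ (Localization.Away h)
              (J.map (Algebra.TensorProduct.includeRight : C →ₐ[A] Localization.Away h ⊗[A] C) ⊔ Ideal.span {1 - e})).toLinearMap =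
              (J.map (Algebra.TensorProduct.includeRight : C →ₐ[A] Localization.Away h ⊗[A] C) ⊔
                Ideal.span {1 - e}).restrictScalars (Localization.Away h) from
            Submodule.ext fun x => Ideal.Quotient.eq_zero_iff_mem]
          exact Submodule.FG.restrictScalars hI₂)
    exact FittX.ideal_fg 0

end Groth.Agent.ZClosLib.FittEtale
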