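import Mathlib
import Groth.Agent.RegLoc6.Pd
import Groth.Agent.RegLoc6.Serre
import Groth.Agent.CAlgUI.Flat
import Groth.Agent.S0405

/-!
# Projective dimension over flat finitely presented algebras over valuation rings

For `A = B_q` with `B` flat of finite presentation over a valuation ring `V`, a finitely presented module which
is flat over `V` has the projective dimension of its fibre; `A` is coherent by Raynaud–Gruson.
-/

set_option autoImplicit false

universe u

open TensorProduct IsLocalRing

namespace Groth.Agent.ZClosLib.PdValuation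

open Groth.Agent.RegLoc6

section Fibre

variable {V A : Type u} [CommRing V] [CommRing A] [Algebra V A]

theorem mem_smul_top_iff (p : Ideal V) {M : Type u} [AddCommGroup M] [Module A M] [Module V M] [IsScalarTower V A M]
    (x : M) : x ∈ ((p.map (algebraMap V A)) • ⊤ : Submodule A M) ↔ x ∈ (p • ⊤ : Submodule V M) := by
  rw [← Submodule.restrictScalars_mem V, Ideal.smul_restrictScalars, Submodule.restrictScalars_top]

/-- A surjection onto a `V`-flat module stays left exact modulo an ideal of `V`. -/
theorem mem_smul_ker (p : Ideal V) {F M : Type u} [AddCommGroup F] [Module A F] [Module V F] [IsScalarTower V A F]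
    [AddCommGroup M] [Module A M] [Module V M] [IsScalarTower V A M] [Module.Flat V M] (g : F →ₗ[A] M)
    (hg : Function.Surjective g) (x : LinearMap.ker g)
    (hx : (x : F) ∈ ((p.map (algebraMap V A)) • ⊤ : Submodule A F)) :
    x ∈ ((p.map (algebraMap V A)) • ⊤ : Submodule A (LinearMap.ker g)) := by
  rw [mem_smul_top_iff] at hx ⊢
  have hui := CAlgUI.ui_of_flat_quotient (f := (LinearMap.ker g).subtype.restrictScalars V) (g := g.restrictScalars V)
    (Submodule.injective_subtype _) (fun y => ⟨fun h => ⟨⟨y, h⟩, rfl⟩, by rintro ⟨z, rfl⟩; exact z.2⟩) hg (V ⧸ p)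
  have h0 : ((LinearMap.ker g).subtype.restrictScalars V).rTensor (V ⧸ p) (x ⊗ₜ[V] (1 : V ⧸ p)) = 0 := by
    refine (TensorProduct.tensorQuotEquivQuotSMul F p).injective ?_
    rw [LinearMap.rTensor_tmul, map_zero, ← map_one (Ideal.Quotient.mk p),
      TensorProduct.tensorQuotEquivQuotSMul_tmul_mk, one_smul]
    exact (Submodule.Quotient.mk_eq_zero _).2 hx
  have h1 : x ⊗ₜ[V] (1 : V ⧸ p) = 0 := hui (h0.trans (map_zero _).symm)
  have h2 := congrArg (TensorProduct.tensorQuotEquivQuotSMul (LinearMap.ker g) p) h1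
  rw [← map_one (Ideal.Quotient.mk p), TensorProduct.tensorQuotEquivQuotSMul_tmul_mk, one_smul, map_zero] at h2
  exact (Submodule.Quotient.mk_eq_zero _).1 h2

/-- The reduction of a map modulo an ideal, over the quotient ring. -/
noncomputable def gbar (I : Ideal A) {F M : Type u} [AddCommGroup F] [Module A F] [AddCommGroup M] [Module A M]
    (g : F →ₗ[A] M) : (F ⧸ (I • ⊤ : Submodule A F)) →ₗ[A ⧸ I] M ⧸ (I • ⊤ : Submodule A M) :=
  g.reduceModIdeal I

theorem gbar_surjective (I : Ideal A) {F M : Type u} [AddCommGroup F] [Module A F] [AddCommGroup M] [Module A M]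
    (g : F →ₗ[A] M) (hg : Function.Surjective g) : Function.Surjective (gbar I g) := fun y => by
  obtain ⟨m, rfl⟩ := Submodule.Quotient.mk_surjective _ y
  obtain ⟨f, rfl⟩ := hg m
  exact ⟨Submodule.Quotient.mk f, rfl⟩

theorem exists_ker_equiv (p : Ideal V) {F M : Type u} [AddCommGroup F] [Module A F] [Module V F] [IsScalarTower V A F]
    [AddCommGroup M] [Module A M] [Module V M] [IsScalarTower V A M] [Module.Flat V M] (g : F →ₗ[A] M)
    (hg : Function.Surjective g) :
    Nonempty ((LinearMap.ker g ⧸ ((p.map (algebraMap V A)) • ⊤ : Submodule A (LinearMap.ker g)))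
      ≃ₗ[A ⧸ p.map (algebraMap V A)] LinearMap.ker (gbar (p.map (algebraMap V A)) g)) := by
  let I := p.map (algebraMap V A)
  let φ := gbar I (LinearMap.ker g).subtype
  have hmem : ∀ z, φ z ∈ LinearMap.ker (gbar I g) := fun z => by
    obtain ⟨x, rfl⟩ := Submodule.Quotient.mk_surjective _ z
    show Submodule.Quotient.mk (g (x : F)) = (0 : M ⧸ (I • ⊤ : Submodule A M))
    rw [show g (x : F) = 0 from x.2, Submodule.Quotient.mk_zero]
  refine ⟨LinearEquiv.ofBijective (φ.codRestrict _ hmem) ⟨(injective_iff_map_eq_zero _).2 fun z hz => ?_, fun z => ?_⟩⟩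
  · obtain ⟨x, rfl⟩ := Submodule.Quotient.mk_surjective _ z
    have hx : Submodule.Quotient.mk (x : F) = (0 : F ⧸ (I • ⊤ : Submodule A F)) := congrArg Subtype.val hz
    rw [Submodule.Quotient.mk_eq_zero] at hx
    exact (Submodule.Quotient.mk_eq_zero _).2 (mem_smul_ker p g hg x hx)
  · obtain ⟨f, hf⟩ := Submodule.Quotient.mk_surjective _ (z : F ⧸ (I • ⊤ : Submodule A F))
    have hgf : g f ∈ (I • ⊤ : Submodule A M) := by
      rw [← Submodule.Quotient.mk_eq_zero]
      have := z.2
      rw [LinearMap.mem_ker, ← hf] at this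
      exact this
    rw [← LinearMap.range_eq_top.2 hg, ← Submodule.map_top, ← Submodule.map_smul''] at hgf
    obtain ⟨y, hy, hyg⟩ := hgf
    refine ⟨Submodule.Quotient.mk ⟨f - y, by rw [LinearMap.mem_ker, map_sub, hyg, sub_self]⟩, Subtype.ext ?_⟩
    show Submodule.Quotient.mk (f - y) = (z : F ⧸ (I • ⊤ : Submodule A F))
    rw [← hf, Submodule.Quotient.eq, sub_sub_cancel_left]
    exact neg_mem hy

variable [IsLocalRing A]

theorem projective_of_fibre (p : Ideal V) (hp : p.map (algebraMap V A) ≤ maximalIdeal A) {M : Type u}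
    [AddCommGroup M] [Module A M] [Module V M] [IsScalarTower V A M] [Module.Flat V M] [Module.FinitePresentation A M]
    (hM : Module.Projective (A ⧸ p.map (algebraMap V A)) (M ⧸ ((p.map (algebraMap V A)) • ⊤ : Submodule A M))) :
    Module.Projective A M := by
  let I := p.map (algebraMap V A)
  haveI : Nontrivial (A ⧸ I) := Ideal.Quotient.nontrivial_iff.2 fun h =>
    (maximalIdeal.isMaximal A).ne_top (top_le_iff.1 (h ▸ hp))
  haveI : IsLocalRing (A ⧸ I) := .of_surjective' (Ideal.Quotient.mk I) Ideal.Quotient.mk_surjective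
  haveI := hM
  haveI : Module.Finite (A ⧸ I) (M ⧸ (I • ⊤ : Submodule A M)) := Module.Finite.of_restrictScalars_finite A _ _
  haveI : Module.Free (A ⧸ I) (M ⧸ (I • ⊤ : Submodule A M)) := Module.free_of_flat_of_isLocalRing
  let b := Module.Free.chooseBasis (A ⧸ I) (M ⧸ (I • ⊤ : Submodule A M))
  haveI : Fintype (Module.Free.ChooseBasisIndex (A ⧸ I) (M ⧸ (I • ⊤ : Submodule A M))) := inferInstance
  choose v hv using fun i => Submodule.Quotient.mk_surjective _ (b i)
  let g : (Module.Free.ChooseBasisIndex (A ⧸ I) (M ⧸ (I • ⊤ : Submodule A M)) → A) →ₗ[A] M := Fintype.linearCombination A v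
  have hred : ∀ c, (Submodule.Quotient.mk (g c) : M ⧸ (I • ⊤ : Submodule A M)) =
      ∑ i, Ideal.Quotient.mk I (c i) • b i := fun c => by
    simp only [g, Fintype.linearCombination_apply]
    rw [← Submodule.mkQ_apply, map_sum]
    refine Finset.sum_congr rfl fun i _ => ?_
    rw [map_smul, Submodule.mkQ_apply, hv, ← Ideal.Quotient.algebraMap_eq, algebraMap_smul]
  have hIj : I ≤ Ideal.jacobson ⊥ := hp.trans (IsLocalRing.jacobson_eq_maximalIdeal ⊥ bot_ne_top).ge
  have hg : Function.Surjective g := by
    rw [← LinearMap.range_eq_top, eq_top_iff]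
    refine Submodule.le_of_le_smul_of_le_jacobson_bot (Module.Finite.fg_top) hIj fun m _ => ?_
    obtain ⟨c, hc⟩ : ∃ c : _ → A ⧸ I, ∑ i, c i • b i = Submodule.Quotient.mk m :=
      ⟨fun i => b.repr (Submodule.Quotient.mk m) i, b.sum_repr _⟩
    choose c' hc' using fun i => Ideal.Quotient.mk_surjective (c i)
    have h1 : (Submodule.Quotient.mk (g c') : M ⧸ (I • ⊤ : Submodule A M)) = Submodule.Quotient.mk m := by
      rw [hred, ← hc]
      simp only [hc']
    rw [Submodule.Quotient.eq] at h1
    rw [show m = g c' - (g c' - m) by rw [sub_sub_cancel]]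
    exact Submodule.sub_mem _ (Submodule.mem_sup_left ⟨c', rfl⟩) (Submodule.mem_sup_right h1)
  have hfg : (LinearMap.ker g).FG := Module.FinitePresentation.fg_ker g hg
  haveI : Module.Finite A (LinearMap.ker g) := Module.Finite.iff_fg.2 hfg
  have hker : (⊤ : Submodule A (LinearMap.ker g)) ≤ I • ⊤ := fun x _ => by
    refine mem_smul_ker p g hg x ?_
    have h0 : ∀ i, x.1 i ∈ I := fun i => by
      have hsum : ∑ j, Ideal.Quotient.mk I (x.1 j) • b j = 0 := by
        rw [← hred, show g x.1 = 0 from x.2, Submodule.Quotient.mk_zero]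
      exact Ideal.Quotient.eq_zero_iff_mem.1 (Fintype.linearIndependent_iff.1 b.linearIndependent _ hsum i)
    classical
    rw [← Finset.univ_sum_single x.1]
    refine Submodule.sum_mem _ fun i _ => ?_
    rw [show Pi.single i (x.1 i) = x.1 i • Pi.single i (1 : A) by
      rw [← Pi.single_smul, smul_eq_mul, mul_one]]
    exact Submodule.smul_mem_smul (h0 i) Submodule.mem_top
  have hbot : LinearMap.ker g = ⊥ := by
    have htop : (⊤ : Submodule A (LinearMap.ker g)) = ⊥ :=
      Submodule.eq_bot_of_le_smul_of_le_jacobson_bot I _ Module.Finite.fg_top hker hIj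
    rw [eq_bot_iff]
    intro x hx
    have hmem : (⟨x, hx⟩ : LinearMap.ker g) ∈ (⊤ : Submodule A (LinearMap.ker g)) := trivial
    rw [htop, Submodule.mem_bot] at hmem
    exact Submodule.mem_bot A |>.2 (congrArg Subtype.val hmem)
  exact Module.Projective.of_equiv (LinearEquiv.ofBijective g ⟨LinearMap.ker_eq_bot.1 hbot, hg⟩)

/-- The projective dimension of a `V`-flat module is that of its fibre. -/
theorem pdLE_of_fibre (p : Ideal V) (hp : p.map (algebraMap V A) ≤ maximalIdeal A)
    (hcoh : ∀ (k : ℕ) (K : Submodule A (Fin k → A)), K.FG → Module.FinitePresentation A K ∧ Module.Flat V K) :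
    ∀ (n : ℕ) (M : Type u) [AddCommGroup M] [Module A M] [Module V M] [IsScalarTower V A M] [Module.Flat V M]
      [Module.FinitePresentation A M],
      PdLE (A ⧸ p.map (algebraMap V A)) n (M ⧸ ((p.map (algebraMap V A)) • ⊤ : Submodule A M)) → PdLE A n M := by
  intro n
  induction n with
  | zero => exact fun M _ _ _ _ _ _ h => pdLE_zero_iff.2 (projective_of_fibre p hp (pdLE_zero_iff.1 h))
  | succ n ih =>
    intro M _ _ _ _ _ _ h
    obtain ⟨k, g, hg⟩ := Module.Finite.exists_fin' A M
    obtain ⟨_, _⟩ := hcoh k (LinearMap.ker g) (Module.FinitePresentation.fg_ker g hg)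
    rw [pdLE_succ_iff g hg]
    refine ih (LinearMap.ker g) ?_
    obtain ⟨e⟩ := exists_ker_equiv p g hg
    refine pdLE_of_equiv e.symm (pdLE_ker _ (gbar_surjective _ g hg) h ?_)
    haveI : Module.Projective (A ⧸ p.map (algebraMap V A))
        ((Fin k → A) ⧸ ((p.map (algebraMap V A)) • ⊤ : Submodule A (Fin k → A))) :=
      Module.Projective.of_equiv ((TensorProduct.quotTensorEquivQuotSMul (Fin k → A)
        (p.map (algebraMap V A))).extendScalarsOfSurjective Ideal.Quotient.mk_surjective)
    exact pdLE_of_projective n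

end Fibre

section Reflexive

variable {A : Type u} [CommRing A]

theorem ker_dualMap_eq {P Q M : Type u} [AddCommGroup P] [Module A P] [AddCommGroup Q] [Module A Q] [AddCommGroup M]
    [Module A M] (g : P →ₗ[A] M) (hg : Function.Surjective g) (R : Q →ₗ[A] LinearMap.ker g) (hR : Function.Surjective R) :
    LinearMap.ker ((LinearMap.ker g).subtype ∘ₗ R).dualMap = LinearMap.range g.dualMap := by
  ext ψ
  constructor
  · intro hψ
    have hle : LinearMap.ker g ≤ LinearMap.ker ψ := fun x hx => by
      obtain ⟨y, hy⟩ := hR ⟨x, hx⟩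
      have := LinearMap.congr_fun hψ y
      rw [LinearMap.zero_apply] at this
      show ψ x = 0
      rw [← this]
      show ψ x = ψ ((R y : LinearMap.ker g) : P)
      rw [hy]
    refine ⟨(LinearMap.ker g).liftQ ψ hle ∘ₗ (g.quotKerEquivOfSurjective hg).symm.toLinearMap, LinearMap.ext fun x => ?_⟩
    show (LinearMap.ker g).liftQ ψ hle ((g.quotKerEquivOfSurjective hg).symm (g x)) = ψ x
    rw [show (g.quotKerEquivOfSurjective hg).symm (g x) = Submodule.Quotient.mk x from
      (LinearEquiv.symm_apply_eq _).2 rfl]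
    rfl
  · rintro ⟨μ, rfl⟩
    refine LinearMap.ext fun y => ?_
    show μ (g (R y : P)) = 0
    rw [show g ((R y : LinearMap.ker g) : P) = 0 from (R y).2, map_zero]

theorem exists_dual_equiv (a : ℕ) : Nonempty (Module.Dual A (Fin a → A) ≃ₗ[A] (Fin a → A)) :=
  ⟨(Module.piEquiv (Fin a) A A).symm⟩

/-- Over a coherent ring the dual of a finitely presented module is finitely presented. -/
theorem finitePresentation_dual (hcoh : ∀ (k : ℕ) (K : Submodule A (Fin k → A)), K.FG → Module.FinitePresentation A K)
    (M : Type u) [AddCommGroup M] [Module A M] [Module.FinitePresentation A M] :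
    Module.FinitePresentation A (Module.Dual A M) := by
  obtain ⟨a, g, hg⟩ := Module.Finite.exists_fin' A M
  haveI : Module.Finite A (LinearMap.ker g) := Module.Finite.iff_fg.2 (Module.FinitePresentation.fg_ker g hg)
  obtain ⟨b, R, hR⟩ := Module.Finite.exists_fin' A (LinearMap.ker g)
  obtain ⟨e⟩ := exists_dual_equiv (A := A) a
  obtain ⟨e'⟩ := exists_dual_equiv (A := A) b
  let χ : (Fin a → A) →ₗ[A] (Fin b → A) :=
    e'.toLinearMap ∘ₗ ((LinearMap.ker g).subtype ∘ₗ R).dualMap ∘ₗ e.symm.toLinearMap
  let φ : Module.Dual A M →ₗ[A] (Fin a → A) := e.toLinearMap ∘ₗ g.dualMap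
  have hφ : Function.Injective φ := e.injective.comp (LinearMap.dualMap_injective_of_surjective hg)
  haveI := hcoh b (LinearMap.range χ) (by rw [← Submodule.map_top]; exact Module.Finite.fg_top.map χ)
  have hker : (LinearMap.ker χ).FG := by
    rw [← LinearMap.ker_rangeRestrict]
    exact Module.FinitePresentation.fg_ker _ χ.surjective_rangeRestrict
  have hrange : LinearMap.range φ = LinearMap.ker χ := by
    ext z
    rw [LinearMap.mem_ker]
    show z ∈ LinearMap.range φ ↔ e' (((LinearMap.ker g).subtype ∘ₗ R).dualMap (e.symm z)) = 0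
    rw [LinearEquiv.map_eq_zero_iff, ← LinearMap.mem_ker, ker_dualMap_eq g hg R hR]
    constructor
    · rintro ⟨μ, rfl⟩; exact ⟨μ, (e.symm_apply_apply _).symm⟩
    · rintro ⟨μ, hμ⟩; exact ⟨μ, by show e (g.dualMap μ) = z; rw [hμ, e.apply_symm_apply]⟩
  haveI := hcoh a (LinearMap.range φ) (hrange ▸ hker)
  exact Module.FinitePresentation.of_equiv (LinearEquiv.ofInjective φ hφ).symm

theorem pdLE_ker_map {X Y : Type u} [AddCommGroup X] [Module A X] [Module.Projective A X] [AddCommGroup Y] [Module A Y]
    (θ : X →ₗ[A] Y) {m : ℕ} (h : PdLE A (m + 1) (LinearMap.range θ)) : PdLE A m (LinearMap.ker θ) :=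
  pdLE_of_equiv (LinearEquiv.ofEq _ _ (LinearMap.ker_rangeRestrict θ))
    (pdLE_ker (n := m) θ.rangeRestrict θ.surjective_rangeRestrict h (pdLE_of_projective m))

theorem pdLE_reflexive_of {n : ℕ} (hcoh : ∀ (k : ℕ) (K : Submodule A (Fin k → A)), K.FG → Module.FinitePresentation A K)
    (hpd : ∀ (C : Type u) [AddCommGroup C] [Module A C] [Module.FinitePresentation A C], PdLE A (n + 1) C)
    (M : Type u) [AddCommGroup M] [Module A M] [Module.FinitePresentation A M] [Module.IsReflexive A M] :
    PdLE A (n - 1) M := by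
  haveI := finitePresentation_dual hcoh M
  obtain ⟨c, π, hπ⟩ := Module.Finite.exists_fin' A (Module.Dual A M)
  haveI : Module.Finite A (LinearMap.ker π) := Module.Finite.iff_fg.2 (Module.FinitePresentation.fg_ker π hπ)
  obtain ⟨d, ρ, hρ⟩ := Module.Finite.exists_fin' A (LinearMap.ker π)
  let θ : Module.Dual A (Fin c → A) →ₗ[A] Module.Dual A (Fin d → A) := ((LinearMap.ker π).subtype ∘ₗ ρ).dualMap
  let i : M →ₗ[A] Module.Dual A (Fin c → A) := π.dualMap ∘ₗ (Module.evalEquiv A M).toLinearMap
  have hi : Function.Injective i := (LinearMap.dualMap_injective_of_surjective hπ).comp (LinearEquiv.injective _)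
  have hex : LinearMap.ker θ = LinearMap.range i := by
    rw [ker_dualMap_eq π hπ ρ hρ, LinearMap.range_comp, LinearEquiv.range, Submodule.map_top]
  obtain ⟨ec⟩ := exists_dual_equiv (A := A) c
  obtain ⟨ed⟩ := exists_dual_equiv (A := A) d
  haveI : Module.Projective A (Module.Dual A (Fin c → A)) := Module.Projective.of_equiv ec.symm
  haveI : Module.Projective A (Module.Dual A (Fin d → A)) := Module.Projective.of_equiv ed.symm
  haveI : Module.Finite A (Module.Dual A (Fin c → A)) := Module.Finite.equiv ec.symm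
  haveI : Module.FinitePresentation A (Module.Dual A (Fin d → A)) := Module.FinitePresentation.of_equiv ed.symm
  haveI : Module.FinitePresentation A (Module.Dual A (Fin d → A) ⧸ LinearMap.range θ) :=
    Module.finitePresentation_of_surjective (LinearMap.range θ).mkQ (Submodule.mkQ_surjective _)
      (by rw [Submodule.ker_mkQ, ← Submodule.map_top]; exact Module.Finite.fg_top.map θ)
  have hC : PdLE A n (LinearMap.ker (LinearMap.range θ).mkQ) :=
    pdLE_ker _ (Submodule.mkQ_surjective _) (hpd _) (pdLE_of_projective n)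
  have hC' : PdLE A (n - 1 + 1) (LinearMap.range θ) :=
    pdLE_mono (by omega) (pdLE_of_equiv (LinearEquiv.ofEq _ _ (Submodule.ker_mkQ _)) hC)
  have hM' : PdLE A (n - 1) (LinearMap.ker θ) := pdLE_ker_map θ hC'
  exact pdLE_of_equiv ((LinearEquiv.ofEq _ _ hex).trans (LinearEquiv.ofInjective i hi).symm) hM'

end Reflexive

section Coherent

variable {V : Type u} [CommRing V] [IsDomain V] [ValuationRing V]

theorem flat_submodule {R F : Type u} [CommRing R] [AddCommGroup F] [Module R F] [Module V F] [Module.Flat V F]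
    [Algebra V R] [IsScalarTower V R F] (K : Submodule R F) : Module.Flat V K := by
  rw [Module.Flat.flat_iff_torsion_eq_bot_of_isBezout, eq_bot_iff]
  rintro x ⟨r, hr⟩
  have h : (x : F) ∈ Submodule.torsion V F := ⟨r, congrArg Subtype.val hr⟩
  rw [Module.Flat.torsion_eq_bot, Submodule.mem_bot] at h
  exact Submodule.mem_bot V |>.2 (Subtype.ext h)

variable (B : Type u) [CommRing B] [Algebra V B] [Module.Flat V B] [Algebra.FiniteType V B] (q : Ideal B) [q.IsPrime]

theorem flat_atPrime : Module.Flat V (Localization.AtPrime q) := Module.Flat.trans V B _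

/-- `B_q` is coherent. -/
theorem coherent (k : ℕ) (K : Submodule (Localization.AtPrime q) (Fin k → Localization.AtPrime q)) (hK : K.FG) :
    Module.FinitePresentation (Localization.AtPrime q) K ∧ Module.Flat V K := by
  haveI := flat_atPrime B q (V := V)
  haveI : Module.Flat V (Fin k → Localization.AtPrime q) :=
    Module.Flat.of_linearEquiv ((Finsupp.linearEquivFunOnFinite V (Localization.AtPrime q) (Fin k)).symm.trans
      (finsuppLEquivDirectSum V (Localization.AtPrime q) (Fin k)))
  refine ⟨?_, flat_submodule (V := V) K⟩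
  classical
  obtain ⟨s, hs⟩ := hK
  let K₀ : Submodule B (Fin k → Localization.AtPrime q) := Submodule.span B (s : Set _)
  haveI : Module.Finite B K₀ := Module.Finite.iff_fg.2 ⟨s, rfl⟩
  haveI : Module.Flat V K₀ := flat_submodule (V := V) K₀
  haveI : Module.FinitePresentation B K₀ := S0405.result (R := V)
  have hle : ∀ x ∈ K₀, x ∈ K := fun x hx => hs ▸ Submodule.span_le_restrictScalars B (Localization.AtPrime q) _ hx
  let ι : K₀ →ₗ[B] K :=
    { toFun := fun x => ⟨x, hle x x.2⟩
      map_add' := fun _ _ => rfl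
      map_smul' := fun _ _ => rfl }
  haveI : IsLocalizedModule q.primeCompl ι := by
    refine ⟨fun c => ?_, fun y => ?_, fun {a b} h => ⟨1, ?_⟩⟩
    · rw [← (Algebra.lsmul B (A := Localization.AtPrime q) B K).commutes]
      exact (IsLocalization.map_units (Localization.AtPrime q) c).map _
    · obtain ⟨y, hy⟩ := y
      have hy' : y ∈ Submodule.span (Localization.AtPrime q) (s : Set (Fin k → Localization.AtPrime q)) := hs.symm ▸ hy
      obtain ⟨⟨x, hx⟩, c, hc⟩ : ∃ (x : K₀) (c : q.primeCompl), c • y = x := by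
        refine Submodule.span_induction (fun z hz => ⟨⟨z, Submodule.subset_span hz⟩, 1, one_smul _ _⟩)
          ⟨0, 1, by simp⟩ (fun u v _ _ hu hv => ?_) (fun a u _ hu => ?_) hy'
        · obtain ⟨x, c, hx⟩ := hu
          obtain ⟨x', c', hx'⟩ := hv
          refine ⟨c' • x + c • x', c' * c, ?_⟩
          rw [smul_add, mul_smul, hx, mul_comm c' c, mul_smul, hx']
          rfl
        · obtain ⟨x, c, hx⟩ := hu
          obtain ⟨⟨b, d⟩, hbd⟩ := IsLocalization.surj q.primeCompl a
          refine ⟨b • x, d * c, ?_⟩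
          rw [Submonoid.smul_def, Submonoid.coe_mul, mul_smul, smul_comm (c : B) a u, ← Submonoid.smul_def c, hx,
            ← algebraMap_smul (Localization.AtPrime q) (d : B), smul_smul, mul_comm, hbd, algebraMap_smul]
          rfl
      exact ⟨(⟨x, hx⟩, c), Subtype.ext hc⟩
    · rw [one_smul, one_smul]
      exact Subtype.ext (congrArg (fun z : K => (z : Fin k → Localization.AtPrime q)) h)
  exact Module.FinitePresentation.of_equiv
    (IsLocalizedModule.isBaseChange q.primeCompl (Localization.AtPrime q) ι).equiv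

theorem map_le_maximalIdeal :
    (q.comap (algebraMap V B)).map (algebraMap V (Localization.AtPrime q)) ≤ maximalIdeal (Localization.AtPrime q) := by
  rw [Ideal.map_le_iff_le_comap]
  intro x hx
  rw [Ideal.mem_comap, IsScalarTower.algebraMap_apply V B (Localization.AtPrime q),
    ← Localization.AtPrime.map_eq_maximalIdeal]
  exact Ideal.mem_map_of_mem _ hx

variable {B q}
variable {n : ℕ}
  (hreg : IsRegularLocalRing (Localization.AtPrime q ⧸
    Ideal.map (algebraMap V (Localization.AtPrime q)) (Ideal.comap (algebraMap V B) q)))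
  (hn : ringKrullDim (Localization.AtPrime q ⧸
    Ideal.map (algebraMap V (Localization.AtPrime q)) (Ideal.comap (algebraMap V B) q)) = n)

include hreg hn

theorem pdLE_of_flat (M : Type u) [AddCommGroup M] [Module (Localization.AtPrime q) M]
    [Module.FinitePresentation (Localization.AtPrime q) M] [Module V M] [IsScalarTower V (Localization.AtPrime q) M]
    [Module.Flat V M] : PdLE (Localization.AtPrime q) n M := by
  refine pdLE_of_fibre (q.comap (algebraMap V B)) (map_le_maximalIdeal B q) (coherent B q) n M ?_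
  haveI := hreg
  haveI : Module.Finite (Localization.AtPrime q ⧸ Ideal.map (algebraMap V (Localization.AtPrime q)) (Ideal.comap (algebraMap V B) q))
      (M ⧸ ((Ideal.comap (algebraMap V B) q).map (algebraMap V (Localization.AtPrime q)) • ⊤ :
        Submodule (Localization.AtPrime q) M)) := Module.Finite.of_restrictScalars_finite (Localization.AtPrime q) _ _
  refine pdLE_mono ?_ (pdLE_of_isRegularLocalRing _ _)
  have h := IsRegularLocalRing.spanFinrank_maximalIdeal (R := Localization.AtPrime q ⧸
    Ideal.map (algebraMap V (Localization.AtPrime q)) (Ideal.comap (algebraMap V B) q))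
  rw [hn] at h
  exact_mod_cast h.le

theorem pdLE_succ (M : Type u) [AddCommGroup M] [Module (Localization.AtPrime q) M]
    [Module.FinitePresentation (Localization.AtPrime q) M] : PdLE (Localization.AtPrime q) (n + 1) M := by
  obtain ⟨k, g, hg⟩ := Module.Finite.exists_fin' (Localization.AtPrime q) M
  obtain ⟨_, _⟩ := coherent (V := V) B q k (LinearMap.ker g) (Module.FinitePresentation.fg_ker g hg)
  rw [pdLE_succ_iff g hg]
  exact pdLE_of_flat hreg hn _

theorem pdLE_reflexive (M : Type u) [AddCommGroup M] [Module (Localization.AtPrime q) M]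
    [Module.FinitePresentation (Localization.AtPrime q) M] [Module.IsReflexive (Localization.AtPrime q) M] :
    PdLE (Localization.AtPrime q) (n - 1) M :=
  pdLE_reflexive_of (fun k K hK => (coherent (V := V) B q k K hK).1) (fun C _ _ _ => pdLE_succ hreg hn C) M

end Coherent

end Groth.Agent.ZClosLib.PdValuation
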