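import Groth.Agent.ZClosLib.ColimSections
import Groth.Agent.QCoh.FT
import Mathlib.LinearAlgebra.TensorProduct.Pi
import Mathlib.RingTheory.Flat.Basic
import Mathlib.RingTheory.IsTensorProduct

/-!
# Extension of sections across `V(a₁, …, aᵣ)` in terms of modules
-/

universe u

open CategoryTheory CategoryTheory.Limits AlgebraicGeometry TopologicalSpace Opposite
open scoped TensorProduct

namespace Groth.Agent.ZClosLib

/-- `M → Hom((a₁ⁿ, …, aᵣⁿ), M)` is bijective for all `n`, in coordinates. -/
def Clo {A : Type*} (M : Type*) [CommRing A] [AddCommGroup M] [Module A M] {ι : Type*} (a : ι → A) : Prop :=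
  ∀ n : ℕ, (∀ m : M, (∀ i, a i ^ n • m = 0) → m = 0) ∧
    ∀ x : ι → M, (∀ i j, a j ^ n • x i = a i ^ n • x j) → ∃ m, ∀ i, a i ^ n • m = x i

theorem clo_baseChange {A B M N : Type u} [CommRing A] [CommRing B] [Algebra A B] [Module.Flat A B]
    [AddCommGroup M] [Module A M] [AddCommGroup N] [Module A N] [Module B N] [IsScalarTower A B N]
    {l : M →ₗ[A] N} (hl : IsBaseChange B l) {ι : Type} [Finite ι] {a : ι → A} (h : Clo M a) :
    Clo N (fun i => algebraMap A B (a i)) := by
  classical
  haveI := Fintype.ofFinite ι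
  intro n
  let d₁ : M →ₗ[A] (ι → M) := LinearMap.pi fun i => a i ^ n • LinearMap.id
  let d₂ : (ι → M) →ₗ[A] (ι × ι → M) :=
    LinearMap.pi fun p => a p.2 ^ n • LinearMap.proj p.1 - a p.1 ^ n • LinearMap.proj p.2
  have hinj : Function.Injective d₁ := by
    rw [injective_iff_map_eq_zero]
    exact fun m hm => (h n).1 m fun i => congrFun hm i
  have hex : Function.Exact d₁ d₂ := by
    refine fun x => ⟨fun hx => ?_, ?_⟩
    · obtain ⟨m, hm⟩ := (h n).2 x fun i j => sub_eq_zero.1 (congrFun hx (i, j))
      exact ⟨m, funext hm⟩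
    · rintro ⟨m, rfl⟩
      funext p
      show a p.2 ^ n • a p.1 ^ n • m - a p.1 ^ n • a p.2 ^ n • m = 0
      rw [smul_comm, sub_self]
  let E0 : B ⊗[A] M ≃ₗ[A] N := hl.equiv.restrictScalars A
  let E : ∀ (κ : Type) [Fintype κ] [DecidableEq κ], B ⊗[A] (κ → M) ≃ₗ[A] (κ → N) := fun κ _ _ =>
    (TensorProduct.piRight A A B fun _ => M).trans (LinearEquiv.piCongrRight fun _ => E0)
  have hE : ∀ (κ : Type) [Fintype κ] [DecidableEq κ] (b : B) (x : κ → M) (k : κ),
      E κ (b ⊗ₜ x) k = b • l (x k) := fun κ _ _ b x k => by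
    simp [E, E0, IsBaseChange.equiv_tmul]
  have hc₁ : ∀ z (i : ι), E ι (d₁.lTensor B z) i = algebraMap A B (a i) ^ n • E0 z := by
    intro z i
    induction z using TensorProduct.induction_on with
    | zero => simp
    | add u v hu hv => rw [map_add, map_add, Pi.add_apply, hu, hv, map_add, smul_add]
    | tmul b m =>
      rw [LinearMap.lTensor_tmul, hE, show d₁ m i = a i ^ n • m from rfl, map_smul,
        show E0 (b ⊗ₜ m) = b • l m from hl.equiv_tmul b m, ← map_pow, algebraMap_smul, smul_comm]
  have hc₂ : ∀ z (p : ι × ι), E (ι × ι) (d₂.lTensor B z) p =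
      algebraMap A B (a p.2) ^ n • E ι z p.1 - algebraMap A B (a p.1) ^ n • E ι z p.2 := by
    intro z p
    induction z using TensorProduct.induction_on with
    | zero => simp
    | add u v hu hv => simp only [map_add, Pi.add_apply, hu, hv, smul_add]; abel
    | tmul b x =>
      rw [LinearMap.lTensor_tmul, hE, hE, hE,
        show d₂ x p = a p.2 ^ n • x p.1 - a p.1 ^ n • x p.2 from rfl, map_sub, map_smul, map_smul, smul_sub,
        ← map_pow, ← map_pow, algebraMap_smul, algebraMap_smul, smul_comm b, smul_comm b]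
  refine ⟨fun m hm => ?_, fun x hx => ?_⟩
  · obtain ⟨z, rfl⟩ := E0.surjective m
    have h0 : d₁.lTensor B z = 0 := (E ι).injective <| by
      rw [map_zero]; funext i; rw [hc₁]; exact hm i
    rw [Module.Flat.lTensor_preserves_injective_linearMap (M := B) d₁ hinj
      (h0.trans (map_zero _).symm), map_zero]
  · obtain ⟨y, rfl⟩ := (E ι).surjective x
    have h0 : d₂.lTensor B y = 0 := (E (ι × ι)).injective <| by
      rw [map_zero]; funext p; rw [hc₂]; exact sub_eq_zero.2 (hx p.1 p.2)
    obtain ⟨z, rfl⟩ := (Module.Flat.lTensor_exact B hex y).1 h0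
    exact ⟨E0 z, fun i => (hc₁ z i).symm⟩

variable {X : Scheme.{u}}

/-- Sections of a quasi-coherent module on an affine extend uniquely from `⋃ D(aᵢ)` iff the criterion holds. -/
theorem res_bijective_iff_clo {M : X.Modules} (hM : Coh.IsQCoh M) {V : X.Opens} (hV : IsAffineOpen V)
    {r : ℕ} (a : Fin r → Γ(X, V)) {O : X.Opens} (hO : O = ⨆ i, X.basicOpen (a i)) (hle : O ≤ V) :
    Function.Bijective (res M hle) ↔ Clo Γ(M, V) a := by
  subst hO
  have hD : ∀ i, X.basicOpen (a i) ≤ ⨆ i, X.basicOpen (a i) := le_iSup fun i => X.basicOpen (a i)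
  have hcov : ∀ x ∈ ⨆ i, X.basicOpen (a i), ∃ i, x ∈ X.basicOpen (a i) := fun x hx => Opens.mem_iSup.1 hx
  have hu : ∀ i n, IsUnit (X.presheaf.map (homOfLE (X.basicOpen_le (a i))).op (a i ^ n)) := fun i n => by
    rw [map_pow]
    exact IsUnit.pow n (RingedSpace.isUnit_res_basicOpen X.toRingedSpace (a i))
  have hsm : ∀ {W W' : X.Opens} (h : W ≤ W') (c : Γ(X, W')) (s : Γ(M, W')),
      res M h (c • s) = X.presheaf.map (homOfLE h).op c • res M h s := fun h c s => QCoh.map_smul' _ _ _
  have hz : ∀ {W W' : X.Opens} (h : W ≤ W'), res M h 0 = 0 := fun h => map_zero _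
  have hinjD : ∀ i (s : Γ(M, V)), res M (X.basicOpen_le (a i)) s = 0 → ∃ k, a i ^ k • s = 0 :=
    fun i s hs => QCoh.exists_pow_smul_eq_zero hM hV (a i) s hs
  constructor
  · intro hb n
    have h1 : ∀ m : Γ(M, V), (∀ i, a i ^ n • m = 0) → m = 0 := fun m hm => by
      refine hb.1 ((res_eq_of_cover M _ hD hcov _ 0 fun i => ?_).trans (hz hle).symm)
      rw [hz, res_res]
      have h0 := congrArg (res M (X.basicOpen_le (a i))) (hm i)
      rw [hsm, hz] at h0
      exact (hu i n).smul_eq_zero.1 h0
    refine ⟨h1, fun x hx => ?_⟩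
    let s : ∀ i, Γ(M, X.basicOpen (a i)) := fun i => (hu i n).unit⁻¹.val • res M (X.basicOpen_le (a i)) (x i)
    have hs : ∀ i, X.presheaf.map (homOfLE (X.basicOpen_le (a i))).op (a i ^ n) • s i =
        res M (X.basicOpen_le (a i)) (x i) := fun i => by
      rw [← mul_smul, IsUnit.mul_val_inv, one_smul]
    obtain ⟨t, ht'⟩ := exists_glue M (fun i : ULift.{u} (Fin r) => X.basicOpen (a i.down)) (fun i => hD i.down)
        (fun y hy => (hcov y hy).elim fun i hi => ⟨⟨i⟩, hi⟩) (fun i => s i.down) fun i' j' => by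
      obtain ⟨i⟩ := i'
      obtain ⟨j⟩ := j'
      have hle' : X.basicOpen (a i) ⊓ X.basicOpen (a j) ≤ V := inf_le_left.trans (X.basicOpen_le _)
      have hu' : IsUnit (X.presheaf.map (homOfLE hle').op (a i ^ n * a j ^ n)) := by
        rw [map_mul]
        refine IsUnit.mul ?_ ?_
        · have := (hu i n).map (X.presheaf.map (homOfLE (inf_le_left : X.basicOpen (a i) ⊓ X.basicOpen (a j) ≤ _)).op).hom
          rwa [show (X.presheaf.map (homOfLE (inf_le_left : X.basicOpen (a i) ⊓ X.basicOpen (a j) ≤ _)).op).hom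
            (X.presheaf.map (homOfLE (X.basicOpen_le (a i))).op (a i ^ n)) =
              X.presheaf.map (homOfLE hle').op (a i ^ n) from QCoh.ringMap_map _ _ _] at this
        · have := (hu j n).map (X.presheaf.map (homOfLE (inf_le_right : X.basicOpen (a i) ⊓ X.basicOpen (a j) ≤ _)).op).hom
          rwa [show (X.presheaf.map (homOfLE (inf_le_right : X.basicOpen (a i) ⊓ X.basicOpen (a j) ≤ _)).op).hom
            (X.presheaf.map (homOfLE (X.basicOpen_le (a j))).op (a j ^ n)) =
              X.presheaf.map (homOfLE hle').op (a j ^ n) from QCoh.ringMap_map _ _ _] at this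
      refine hu'.smul_left_cancel.1 ?_
      have hi := congrArg (res M (inf_le_left : X.basicOpen (a i) ⊓ X.basicOpen (a j) ≤ _)) (hs i)
      have hj := congrArg (res M (inf_le_right : X.basicOpen (a i) ⊓ X.basicOpen (a j) ≤ _)) (hs j)
      rw [hsm, res_res, QCoh.ringMap_map] at hi hj
      have hxx := congrArg (res M hle') (hx i j)
      rw [hsm, hsm] at hxx
      rw [map_mul]
      conv_lhs => rw [mul_comm, mul_smul]; erw [hi]
      conv_rhs => rw [mul_smul]; erw [hj]
      exact hxx
    have ht : ∀ i, res M (hD i) t = s i := fun i => ht' ⟨i⟩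
    obtain ⟨m, hm⟩ := hb.2 t
    refine ⟨m, fun i => ?_⟩
    have hkill : ∀ i, ∃ k, a i ^ k • (a i ^ n • m - x i) = 0 := fun i => by
      refine hinjD i _ ?_
      have e : res M (X.basicOpen_le (a i)) m = s i := by rw [← ht i, ← hm, res_res]
      have : res M (X.basicOpen_le (a i)) (a i ^ n • m - x i) =
          res M (X.basicOpen_le (a i)) (a i ^ n • m) - res M (X.basicOpen_le (a i)) (x i) := map_sub _ _ _
      rw [this, hsm, e, hs, sub_self]
    choose k hk using hkill
    let K := Finset.univ.sup k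
    have hK : ∀ j, a j ^ K • (a j ^ n • m - x j) = 0 := fun j => by
      rw [show K = (K - k j) + k j from (Nat.sub_add_cancel (Finset.le_sup (Finset.mem_univ j))).symm, pow_add,
        mul_smul, hk, smul_zero]
    refine sub_eq_zero.1 ((?_ : a i ^ n • m - x i = 0))
    refine hb.1 ((res_eq_of_cover M _ hD hcov _ 0 fun j => ?_).trans (hz hle).symm)
    rw [hz, res_res]
    have h2 : a j ^ (n + K) • (a i ^ n • m - x i) = 0 := by
      rw [pow_add, mul_comm, mul_smul, smul_sub (a j ^ n), hx i j, smul_comm (a j ^ n) (a i ^ n),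
        ← smul_sub, smul_comm (a j ^ K), hK, smul_zero]
    have h0 := congrArg (res M (X.basicOpen_le (a j))) h2
    rw [hsm, hz] at h0
    exact (hu j (n + K)).smul_eq_zero.1 h0
  · intro hclo
    refine ⟨fun s t e => ?_, fun t => ?_⟩
    · refine sub_eq_zero.1 ?_
      have e' : res M hle (s - t) = 0 := (map_sub _ _ _).trans (sub_eq_zero.2 e)
      choose k hk using fun i => hinjD i (s - t) (by
        rw [← res_res M (hD i) hle, e', hz])
      exact (hclo (Finset.univ.sup k)).1 _ fun i => by
        rw [show Finset.univ.sup k = (Finset.univ.sup k - k i) + k i from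
          (Nat.sub_add_cancel (Finset.le_sup (Finset.mem_univ i))).symm, pow_add, mul_smul, hk, smul_zero]
    · choose n m hm using fun i => QCoh.exists_pow_smul_eq_map hM hV (a i) (res M (hD i) t)
      let N := Finset.univ.sup n
      obtain ⟨x, hx⟩ : ∃ x : Fin r → Γ(M, V), ∀ i, res M (X.basicOpen_le (a i)) (x i) =
          X.presheaf.map (homOfLE (X.basicOpen_le (a i))).op (a i ^ N) • res M (hD i) t :=
        ⟨fun i => a i ^ (N - n i) • m i, fun i => by
          rw [hsm]
          show _ • M.presheaf.map (homOfLE (X.basicOpen_le (a i))).op (m i) = _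
          rw [hm, ← map_pow, ← mul_smul, ← map_mul, ← pow_add,
            Nat.sub_add_cancel (Finset.le_sup (Finset.mem_univ i))]⟩
      have hloc : ∀ i j, ∃ k, (a i * a j) ^ k • (a j ^ N • x i - a i ^ N • x j) = 0 := fun i j => by
        refine QCoh.exists_pow_smul_eq_zero hM hV (a i * a j) _ ?_
        have hi : X.basicOpen (a i * a j) ≤ X.basicOpen (a i) := by rw [X.basicOpen_mul]; exact inf_le_left
        have hj : X.basicOpen (a i * a j) ≤ X.basicOpen (a j) := by rw [X.basicOpen_mul]; exact inf_le_right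
        show res M (X.basicOpen_le (a i * a j)) (a j ^ N • x i - a i ^ N • x j) = 0
        refine (map_sub _ _ _).trans (sub_eq_zero.2 ?_)
        show res M (X.basicOpen_le (a i * a j)) (a j ^ N • x i) = res M (X.basicOpen_le (a i * a j)) (a i ^ N • x j)
        have ei := congrArg (res M hi) (hx i)
        have ej := congrArg (res M hj) (hx j)
        rw [hsm, res_res, res_res, QCoh.ringMap_map] at ei ej
        erw [hsm, hsm, ei, ej]
        exact smul_comm _ _ _
      choose k hk using hloc
      let K := Finset.univ.sup fun p : Fin r × Fin r => k p.1 p.2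
      obtain ⟨w, hw⟩ := (hclo (N + K)).2 (fun i => a i ^ K • x i) fun i j => by
        rw [← sub_eq_zero, ← mul_smul, ← mul_smul, pow_add, pow_add,
          show a j ^ N * a j ^ K * a i ^ K = (a i * a j) ^ K * a j ^ N by ring,
          show a i ^ N * a i ^ K * a j ^ K = (a i * a j) ^ K * a i ^ N by ring, mul_smul, mul_smul, ← smul_sub,
          show K = (K - k i j) + k i j from
            (Nat.sub_add_cancel (Finset.le_sup (f := fun p : Fin r × Fin r => k p.1 p.2) (Finset.mem_univ (i, j)))).symm,
          pow_add, mul_smul, hk, smul_zero]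
      refine ⟨w, res_eq_of_cover M _ hD hcov _ _ fun i => ?_⟩
      have h0 := congrArg (res M (X.basicOpen_le (a i))) (hw i)
      rw [hsm, hsm, hx, ← mul_smul, ← map_mul, ← pow_add, add_comm K] at h0
      rw [res_res]
      exact (hu i (N + K)).smul_left_cancel.1 h0

end Groth.Agent.ZClosLib
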