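import Groth.Agent.ZClosLib.HullStrict
import Groth.Agent.FormCat.CM
import Groth.Agent.CplFib6.CMFormal
import Groth.Agent.S2634

/-!
# Serre's condition on the formal fibres and strict equidimensionality
-/

set_option autoImplicit false
set_option linter.style.haveILetI false

universe u

open IsLocalRing TensorProduct

namespace Groth.Agent.ZClosLib.StrictFib

open FlatLoc6

/-- Fibres with `(S_k)`, point by point. -/
def FibSk (k : ℕ) (A B : Type u) [CommRing A] [CommRing B] [Algebra A B] : Prop :=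
  ∀ (q : Ideal B) [q.IsPrime], min (k : WithBot ℕ∞) (fibDim A q B) ≤ ((fibDepth A q B : ℕ∞) : WithBot ℕ∞)

theorem fibDim_ne_bot' (A : Type u) {B : Type u} [CommRing A] [CommRing B] [Algebra A B] [IsNoetherianRing B]
    (q : Ideal B) [q.IsPrime] : fibDim A q B ≠ ⊥ :=
  fibDim_ne_bot B q (by
    rw [Module.mem_support_iff]
    exact (LC.selfLoc q.primeCompl).toEquiv.nontrivial)

theorem fibSk_of_cm (k : ℕ) (A B : Type u) [CommRing A] [CommRing B] [Algebra A B]
    (h : ∀ (p : Ideal A) [p.IsPrime], LocCoh.IsCohenMacaulayRing (p.Fiber B)) : FibSk k A B := by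
  intro q _
  haveI := h (q.comap (algebraMap A B))
  rw [fib_eq_of_fiber_isCM _ q rfl]
  exact min_le_right _ _

section Comp

variable {k : ℕ} {A B C : Type u} [CommRing A] [CommRing B] [CommRing C] [IsNoetherianRing B] [IsNoetherianRing C]
  [Algebra A B] [Algebra B C] [Algebra A C] [IsScalarTower A B C] [Module.Flat B C]

theorem fibSk_comp (h1 : FibSk k A B) (h2 : FibSk k B C) : FibSk k A C := by
  intro q _
  obtain ⟨e1, e2⟩ := fib_comp (A := A) (B := B) q
  rw [e1, e2]
  exact sk_add (fibDim_ne_bot' A _) (fibDim_ne_bot' B q) (h1 _) (h2 q)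

set_option linter.overlappingInstances false in
theorem fibSk_descend [Module.FaithfullyFlat B C] (h : FibSk k A C) : FibSk k A B := by
  intro q _
  obtain ⟨q', _, hq', h0, h0'⟩ := exists_fib_zero (C := C) q
  obtain ⟨e1, e2⟩ := fib_comp (A := A) (B := B) q'
  subst hq'
  rw [h0, add_zero] at e1
  rw [h0', add_zero] at e2
  rw [← e1, ← e2]
  exact h q'

end Comp

/-- `(S_k)` ascends along flat maps with `(S_k)` fibres. -/
theorem hasSk_of_flat (k : ℕ) (R S : Type u) [CommRing R] [CommRing S] [IsNoetherianRing R] [IsNoetherianRing S]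
    [Algebra R S] [Module.Flat R S] (hR : LocCoh.HasSk k R R) (h : FibSk k R S) : LocCoh.HasSk k S S := by
  rw [hasSk_self_iff] at hR ⊢
  intro q _
  obtain ⟨e1, e2⟩ := formulas_self (q.comap (algebraMap R S)) q rfl
  have h3 : min (k : WithBot ℕ∞) (q.height : WithBot ℕ∞) ≤
      ((LocCoh.depth (Localization.AtPrime q) (Localization.AtPrime q) : ℕ∞) : WithBot ℕ∞) := by
    rw [e1, e2]
    exact sk_add WithBot.coe_ne_bot (fibDim_ne_bot' R q) (WithBot.coe_le_coe.2 (hR _)) (h q)
  exact WithBot.coe_le_coe.1 h3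

theorem hasSk_tensor_of_essFin (k : ℕ) (K F L : Type u) [Field K] [CommRing F] [IsNoetherianRing F] [Algebra K F]
    [Field L] [Algebra K L] [Algebra.EssFiniteType K L] (hF : LocCoh.HasSk k F F) :
    LocCoh.HasSk k (L ⊗[K] F) (L ⊗[K] F) := by
  haveI : IsNoetherianRing (F ⊗[K] L) := Algebra.EssFiniteType.isNoetherianRing F _
  refine hasSk_of_ringEquiv (Algebra.TensorProduct.comm K F L).toRingEquiv k
    (hasSk_of_flat k F (F ⊗[K] L) hF (fibSk_of_cm k _ _ fun r _ => ?_))
  exact isCM_of_ringEquiv (R := L ⊗[K] r.ResidueField)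
    ((Algebra.TensorProduct.comm K L r.ResidueField).toRingEquiv.trans
      (Algebra.TensorProduct.cancelBaseChange K F r.ResidueField r.ResidueField L).symm.toRingEquiv)
    (isCM_tensor_field K r.ResidueField L)

/-- Base change essentially of finite type. -/
theorem fibSk_baseChange (k : ℕ) (A B A' : Type u) [CommRing A] [CommRing B] [CommRing A'] [Algebra A B]
    [Algebra A A'] [IsNoetherianRing B] [IsNoetherianRing A'] [Algebra.EssFiniteType A A']
    (h : FibSk k A B) : FibSk k A' (A' ⊗[A] B) := by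
  intro q _
  let p' := q.comap (algebraMap A' (A' ⊗[A] B))
  obtain ⟨_, _, _, _⟩ := exists_instances A A' p' p'.ResidueField
  obtain ⟨e⟩ := fiber_baseChange_equiv A B A' p' p'.ResidueField (p'.comap (algebraMap A A'))
  haveI := essFiniteType_ext A A' p' p'.ResidueField (p'.comap (algebraMap A A'))
  haveI := isNoetherianRing_fiber (B := B) (p'.comap (algebraMap A A'))
  haveI : IsNoetherianRing ((p'.comap (algebraMap A A')).Fiber B ⊗[(p'.comap (algebraMap A A')).ResidueField]
      p'.ResidueField) := by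
    exact Algebra.EssFiniteType.isNoetherianRing ((p'.comap (algebraMap A A')).Fiber B)
      ((p'.comap (algebraMap A A')).Fiber B ⊗[(p'.comap (algebraMap A A')).ResidueField] p'.ResidueField)
  haveI : IsNoetherianRing (p'.ResidueField ⊗[(p'.comap (algebraMap A A')).ResidueField]
      (p'.comap (algebraMap A A')).Fiber B) :=
    isNoetherianRing_of_ringEquiv _ (Algebra.TensorProduct.comm (p'.comap (algebraMap A A')).ResidueField _ _).toRingEquiv
  exact fib_le_of_fiber_hasSk k p' q rfl (hasSk_of_ringEquiv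
    (e.symm.trans (Algebra.TensorProduct.lid p'.ResidueField (p'.Fiber (A' ⊗[A] B))).toRingEquiv) k
    (hasSk_tensor_of_essFin k _ _ _ (fiber_hasSk_of_fib_le k _ fun r _ _ => h r)))

theorem strict_lt_dim {S : Type u} [CommRing S] {P Q : Ideal S} [P.IsPrime] (h : P < Q) :
    ringKrullDim (S ⧸ Q) + 1 ≤ ringKrullDim (S ⧸ P) := by
  obtain ⟨t, htQ, htP⟩ := SetLike.exists_of_lt h
  refine le_trans (add_le_add ?_ le_rfl) (ringKrullDim_quotient_succ_le_of_nonZeroDivisor
    (r := Ideal.Quotient.mk P t) (mem_nonZeroDivisors_of_ne_zero fun e => htP (Ideal.Quotient.eq_zero_iff_mem.1 e)))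
  refine ringKrullDim_le_of_surjective
    (Ideal.Quotient.lift (Ideal.span {Ideal.Quotient.mk P t}) (Ideal.Quotient.factor h.le) fun a ha => ?_)
    (Ideal.Quotient.lift_surjective_of_surjective _ _ (Ideal.Quotient.factor_surjective h.le))
  obtain ⟨c, rfl⟩ := Ideal.mem_span_singleton'.1 ha
  rw [map_mul, Ideal.Quotient.factor_mk, Ideal.Quotient.eq_zero_iff_mem.2 htQ, mul_zero]

section Bridge

variable (A : Type u) [CommRing A] [IsNoetherianRing A] [IsLocalRing A]

/-- Strict formal catenarity makes the formal fibres `(S_1)`. -/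
theorem fibS1_of_strict (h : EGA4.IsFormallyStrictlyCatenary A) : FibSk 1 A (EGA4.Cpl A) := by
  haveI := FlatLoc6.isLocalRing_cpl A
  haveI := FlatLoc6.isNoetherianRing_cpl A
  haveI := FlatLoc6.faithfullyFlat_cpl A
  intro q _
  let p := q.comap (algebraMap A (EGA4.Cpl A))
  let S := EGA4.Cpl A
  by_cases h1 : (1 : ℕ∞) ≤ fibDepth A q S
  · exact (min_le_left _ _).trans (WithBot.coe_le_coe.2 h1)
  rw [(fib_eq_loc p q rfl).2, Alg6.one_le_depth_atPrime_iff, not_not] at h1
  haveI : IsLocalRing (A ⧸ p) := .of_surjective' _ Ideal.Quotient.mk_surjective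
  haveI := FlatLoc6.isNoetherianRing_cpl (A ⧸ p)
  obtain ⟨π, hπ, hker⟩ := HullStrict.exists_quot_surjective A p
  have hdq := HullStrict.dim_of_surjective (h p) π hπ hker h1
  have hsupp : (⟨q, ‹_›⟩ : PrimeSpectrum S) ∈ Module.support S S := by
    rw [Module.mem_support_iff]
    exact (LC.selfLoc q.primeCompl).toEquiv.nontrivial
  have h0 := (fib_zero_of_minimal (A := A) S q hsupp fun P _ hPq hpP => ?_).1
  · rw [h0]
    exact (min_le_right _ _).trans (WithBot.coe_le_coe.2 bot_le)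
  by_contra hne
  have hlt := strict_lt_dim (lt_of_le_of_ne hPq hne)
  have hle : ringKrullDim (S ⧸ P.asIdeal) ≤ ringKrullDim (EGA4.Cpl (A ⧸ p)) := by
    refine (ringKrullDim_le_of_surjective _
      (Ideal.Quotient.factor_surjective (Ideal.map_le_iff_le_comap.2 hpP))).trans ?_
    exact (ringKrullDim_eq_of_ringEquiv ((Ideal.quotEquivOfEq hker.symm).trans
      (RingHom.quotientKerEquivOfSurjective hπ))).le
  rw [hdq] at hlt
  haveI := FlatLoc6.isLocalRing_cpl (A ⧸ p)
  obtain ⟨n, hn⟩ : ∃ n : ℕ, ringKrullDim (EGA4.Cpl (A ⧸ p)) = n :=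
    ⟨_, ((ringKrullDim_eq_of_ringEquiv (RingEquiv.quotientBot (EGA4.Cpl (A ⧸ p)))).symm.trans
      (FormCat.coe_qd (EGA4.Cpl (A ⧸ p)) ⊥ bot_ne_top))⟩
  rw [hn] at hlt hle
  have := hlt.trans hle
  exact absurd (Nat.cast_le (α := WithBot ℕ∞).1 (show ((n + 1 : ℕ) : WithBot ℕ∞) ≤ (n : ℕ) by exact_mod_cast this))
    (by omega)

/-- `(S_1)` formal fibres and formal catenarity give strictness. -/
theorem strict_of_fibS1 (hc : EGA4.IsFormallyCatenary A) (h : FibSk 1 A (EGA4.Cpl A)) :
    EGA4.IsFormallyStrictlyCatenary A := by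
  haveI := FlatLoc6.isLocalRing_cpl A
  haveI := FlatLoc6.isNoetherianRing_cpl A
  haveI := FlatLoc6.faithfullyFlat_cpl A
  intro p _ q' hq'
  haveI := hq'.isPrime
  haveI : IsLocalRing (A ⧸ p) := .of_surjective' _ Ideal.Quotient.mk_surjective
  haveI := FlatLoc6.isNoetherianRing_cpl (A ⧸ p)
  obtain ⟨π, hπ, hker⟩ := HullStrict.exists_quot_surjective A p
  obtain ⟨-, w, hw⟩ := isAssociatedPrime_iff.1 hq'
  obtain ⟨z, rfl⟩ := hπ w
  set q := q'.comap π
  have hz : ∀ a, a ∈ q ↔ a * z ∈ p.map (algebraMap A (EGA4.Cpl A)) := fun a => by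
    rw [← hker, RingHom.mem_ker, map_mul, Ideal.mem_comap, hw, Submodule.mem_colon_singleton, Submodule.mem_bot,
      smul_eq_mul]
  have hover := FormCat.under_eq_of_associated p q z hz
  have hd0 : fibDim A q (EGA4.Cpl A) ≤ 0 := by
    have h1 := h q
    rw [FormCat.fibDepth_eq_zero_of_associated p q z hz hover] at h1
    rcases min_le_iff.1 h1 with h2 | h2
    · exact absurd (WithBot.coe_le_coe.1 h2) (by decide)
    · exact h2
  rw [FormCat.supportDim_fib p q hover] at hd0
  have hmin := FormCat.minimal_of_dim_le_zero _ q (Ideal.map_le_iff_le_comap.2 hover.ge) hd0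
  refine hc p q' ⟨⟨inferInstance, bot_le⟩, fun Q hQ hQq => ?_⟩
  haveI := hQ.1
  have h3 := hmin.2 ⟨inferInstance, hker ▸ (fun x hx => Ideal.mem_comap.2 (by rw [RingHom.mem_ker.1 hx]; exact zero_mem _))⟩ (Ideal.comap_mono (f := π) hQq)
  intro x hx
  obtain ⟨x, rfl⟩ := hπ x
  exact h3 hx

end Bridge

/-- `(S_1)` formal fibres pass to local algebras essentially of finite type. -/
theorem fibS1_of_essFiniteType (A : Type u) [CommRing A] [IsNoetherianRing A] [IsLocalRing A]
    (hA : FibSk 1 A (EGA4.Cpl A)) (B : Type u) [CommRing B] [IsNoetherianRing B] [IsLocalRing B] [Algebra A B]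
    [Algebra.EssFiniteType A B] : FibSk 1 B (EGA4.Cpl B) := by
  haveI := isNoetherianRing_cpl A
  haveI := isLocalRing_cpl A
  haveI := faithfullyFlat_cpl A
  haveI := CplFib6.isAdicComplete_cpl A
  letI : Algebra (EGA4.Cpl A) (B ⊗[A] EGA4.Cpl A) := Algebra.TensorProduct.rightAlgebra
  haveI := isNoetherianRing_baseChange_ess A (EGA4.Cpl A) B
  haveI : Module.FaithfullyFlat B (B ⊗[A] EGA4.Cpl A) := inferInstance
  obtain ⟨Q, hQ⟩ := PrimeSpectrum.comap_surjective_of_faithfullyFlat (A := B) (B := B ⊗[A] EGA4.Cpl A)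
    ⟨maximalIdeal B, inferInstance⟩
  have hQ' : Q.asIdeal.comap (algebraMap B (B ⊗[A] EGA4.Cpl A)) = maximalIdeal B :=
    congrArg PrimeSpectrum.asIdeal hQ
  let D := Localization.AtPrime Q.asIdeal
  haveI : IsLocalHom (algebraMap B D) := ⟨fun b hb => by
    by_contra hb'
    rw [IsScalarTower.algebraMap_apply B (B ⊗[A] EGA4.Cpl A) D,
      IsLocalization.AtPrime.isUnit_to_map_iff _ Q.asIdeal] at hb
    exact hb (show b ∈ Q.asIdeal.comap _ from hQ'.ge hb')⟩
  haveI : Module.Flat (B ⊗[A] EGA4.Cpl A) D := IsLocalization.flat _ Q.asIdeal.primeCompl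
  haveI : Module.Flat B D := Module.Flat.trans B (B ⊗[A] EGA4.Cpl A) D
  haveI : IsNoetherianRing D := IsLocalization.isNoetherianRing Q.asIdeal.primeCompl _ inferInstance
  haveI := isNoetherianRing_cpl D
  haveI := isNoetherianRing_cpl B
  haveI := faithfullyFlat_cpl D
  obtain ⟨_, _, _⟩ := exists_cplHom B D
  haveI : Algebra.EssFiniteType (EGA4.Cpl A) (EGA4.Cpl A ⊗[A] B) := inferInstance
  let ε : (EGA4.Cpl A ⊗[A] B) →ₐ[EGA4.Cpl A] (B ⊗[A] EGA4.Cpl A) :=
    AlgHom.mk' (Algebra.TensorProduct.comm A (EGA4.Cpl A) B).toRingEquiv.toRingHom fun c x => by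
      rw [Algebra.smul_def, map_mul]
      simp [Algebra.smul_def, Algebra.TensorProduct.algebraMap_apply, RingHom.algebraMap_toAlgebra]
  haveI : Algebra.EssFiniteType (EGA4.Cpl A) (B ⊗[A] EGA4.Cpl A) :=
    Algebra.EssFiniteType.of_surjective ε (Algebra.TensorProduct.comm A (EGA4.Cpl A) B).surjective
  haveI : Algebra.EssFiniteType (B ⊗[A] EGA4.Cpl A) D := Algebra.EssFiniteType.of_isLocalization _ Q.asIdeal.primeCompl
  haveI := Algebra.EssFiniteType.comp (EGA4.Cpl A) (B ⊗[A] EGA4.Cpl A) D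
  obtain ⟨S, _, _, f, hf⟩ := CplFib6.exists_regular_cover_essFin (EGA4.Cpl A) D
  letI := f.toAlgebra
  have hD : FibSk 1 D (EGA4.Cpl D) := fibSk_of_cm 1 _ _ (CplFib6.hasCMFormalFibres_of_surjective S _ hf)
  have hBD : FibSk 1 B D := fibSk_comp (fibSk_baseChange 1 A (EGA4.Cpl A) B hA)
    (fibSk_of_cm 1 _ _ (CplFib6.isCM_fiber_localization _ D Q.asIdeal.primeCompl))
  exact fibSk_descend (C := EGA4.Cpl D) (fibSk_comp hBD hD)

end Groth.Agent.ZClosLib.StrictFib
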