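import Groth.Agent.FlatLoc6.Cpl

/-!
# The completion of `B ⊗ Â` at a point over the closed points
-/

set_option autoImplicit false
set_option linter.style.haveILetI false

universe u

open IsLocalRing TensorProduct

namespace Groth.Agent.ZClosLib.CplTensor

/-- A map inducing bijections modulo all powers of the maximal ideals gives an isomorphism of completions. -/
theorem exists_cplEquiv {R R' : Type u} [CommRing R] [CommRing R'] [IsLocalRing R] [IsLocalRing R'] (φ : R →+* R')
    (hle : ∀ k, maximalIdeal R ^ k ≤ (maximalIdeal R' ^ k).comap φ)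
    (hbij : ∀ k, Function.Bijective (Ideal.quotientMap (maximalIdeal R' ^ k) φ (hle k))) :
    Nonempty (EGA4.Cpl R ≃+* EGA4.Cpl R') := by
  let e := fun k => RingEquiv.ofBijective (Ideal.quotientMap (maximalIdeal R' ^ k) φ (hle k)) (hbij k)
  have hcomp : ∀ {m n : ℕ} (h : m ≤ n) (z : R ⧸ maximalIdeal R ^ n),
      Ideal.Quotient.factor (Ideal.pow_le_pow_right h) (e n z) =
        e m (Ideal.Quotient.factor (Ideal.pow_le_pow_right h) z) := fun h z => by
    obtain ⟨z, rfl⟩ := Ideal.Quotient.mk_surjective z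
    simp [e]
  let F : EGA4.Cpl R →+* EGA4.Cpl R' := AdicCompletion.liftRingHom (maximalIdeal R')
    (fun n => (e n).toRingHom.comp (AdicCompletion.evalₐ (maximalIdeal R) n).toRingHom)
    (fun {m n} hmn => RingHom.ext fun x => by
      obtain ⟨g, rfl⟩ := AdicCompletion.mk_surjective (maximalIdeal R) R x
      simp only [RingHom.comp_apply, AlgHom.toRingHom_eq_coe, RingHom.coe_coe, AdicCompletion.evalₐ_mk]
      refine (hcomp hmn _).trans (congrArg (e m) ?_)
      rw [Ideal.Quotient.factor_mk, Ideal.Quotient.eq]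
      simpa using neg_mem (SModEq.sub_mem.1 (g.property hmn)))
  let G : EGA4.Cpl R' →+* EGA4.Cpl R := AdicCompletion.liftRingHom (maximalIdeal R)
    (fun n => (e n).symm.toRingHom.comp (AdicCompletion.evalₐ (maximalIdeal R') n).toRingHom)
    (fun {m n} hmn => RingHom.ext fun x => by
      obtain ⟨g, rfl⟩ := AdicCompletion.mk_surjective (maximalIdeal R') R' x
      simp only [RingHom.comp_apply, AlgHom.toRingHom_eq_coe, RingHom.coe_coe, AdicCompletion.evalₐ_mk]
      refine (e m).injective ((hcomp hmn _).symm.trans ?_)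
      show Ideal.Quotient.factor _ (e n ((e n).symm _)) = e m ((e m).symm _)
      rw [RingEquiv.apply_symm_apply, RingEquiv.apply_symm_apply, Ideal.Quotient.factor_mk, Ideal.Quotient.eq]
      simpa using neg_mem (SModEq.sub_mem.1 (g.property hmn)))
  refine ⟨RingEquiv.ofRingHom F G (RingHom.ext fun x => AdicCompletion.ext_evalₐ fun n => ?_)
    (RingHom.ext fun x => AdicCompletion.ext_evalₐ fun n => ?_)⟩
  · rw [RingHom.comp_apply, AdicCompletion.evalₐ_liftRingHom, RingHom.comp_apply]
    show e n (AdicCompletion.evalₐ (maximalIdeal R) n (G x)) = _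
    rw [AdicCompletion.evalₐ_liftRingHom, RingHom.comp_apply]
    exact (e n).apply_symm_apply _
  · rw [RingHom.comp_apply, AdicCompletion.evalₐ_liftRingHom, RingHom.comp_apply]
    show (e n).symm (AdicCompletion.evalₐ (maximalIdeal R') n (F x)) = _
    rw [AdicCompletion.evalₐ_liftRingHom, RingHom.comp_apply]
    exact (e n).symm_apply_apply _

variable {A B : Type u} [CommRing A] [CommRing B] [IsNoetherianRing A] [IsNoetherianRing B] [IsLocalRing A]
  [IsLocalRing B] [Algebra A B] [IsLocalHom (algebraMap A B)]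

theorem map_maximalIdeal_pow_le (k : ℕ) :
    (maximalIdeal A ^ k).map (algebraMap A B) ≤ maximalIdeal B ^ k := by
  rw [Ideal.map_pow]
  exact Ideal.pow_right_mono (((local_hom_TFAE (algebraMap A B)).out 0 2).mp (by infer_instance)) k

/-- `B` is dense in `B ⊗ Â`. -/
theorem dense (k : ℕ) (x : B ⊗[A] EGA4.Cpl A) :
    ∃ b, x - algebraMap B (B ⊗[A] EGA4.Cpl A) b ∈ (maximalIdeal B ^ k).map (algebraMap B (B ⊗[A] EGA4.Cpl A)) := by
  induction x using TensorProduct.induction_on with
  | zero => exact ⟨0, by simp⟩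
  | add x y hx hy =>
    obtain ⟨b, hb⟩ := hx
    obtain ⟨c, hc⟩ := hy
    exact ⟨b + c, by rw [map_add, add_sub_add_comm]; exact add_mem hb hc⟩
  | tmul b c =>
    obtain ⟨a, ha⟩ := Submodule.mkQ_surjective _ (AdicCompletion.eval (maximalIdeal A) A k c)
    refine ⟨b * algebraMap A B a, ?_⟩
    have h1 : c - algebraMap A (EGA4.Cpl A) a ∈ (maximalIdeal A ^ k).map (algebraMap A (EGA4.Cpl A)) := by
      rw [← LocalCrit.smul_top_eq_map, AdicCompletion.pow_smul_top_eq_ker_eval (IsNoetherian.noetherian _),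
        LinearMap.mem_ker, map_sub, ← ha, sub_eq_zero]
      exact (AdicCompletion.eval_of _ _ k a).symm
    have h2 : (1 : B) ⊗ₜ[A] (c - algebraMap A (EGA4.Cpl A) a) ∈
        (maximalIdeal B ^ k).map (algebraMap B (B ⊗[A] EGA4.Cpl A)) := by
      have h3 := Ideal.mem_map_of_mem (Algebra.TensorProduct.includeRight : EGA4.Cpl A →ₐ[A] B ⊗[A] EGA4.Cpl A) h1
      refine Ideal.map_le_iff_le_comap.2 (Ideal.map_le_iff_le_comap.2 ?_) h3
      intro r hr
      rw [Ideal.mem_comap, Ideal.mem_comap, AlgHom.commutes, IsScalarTower.algebraMap_apply A B (B ⊗[A] EGA4.Cpl A)]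
      exact Ideal.mem_map_of_mem _ (map_maximalIdeal_pow_le k (Ideal.mem_map_of_mem _ hr))
    have h4 := Ideal.mul_mem_left _ (b ⊗ₜ[A] (1 : EGA4.Cpl A)) h2
    rw [Algebra.TensorProduct.tmul_mul_tmul, mul_one, one_mul, tmul_sub] at h4
    convert h4 using 2
    rw [Algebra.TensorProduct.algebraMap_apply, Algebra.algebraMap_self, RingHom.id_apply,
      Algebra.algebraMap_eq_smul_one (A := B) a, Algebra.algebraMap_eq_smul_one (A := EGA4.Cpl A) a,
      mul_smul_comm, mul_one, TensorProduct.smul_tmul]

theorem exists_retraction : ∃ ψ : (B ⊗[A] EGA4.Cpl A) →+* EGA4.Cpl B,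
    ∀ b, ψ (algebraMap B (B ⊗[A] EGA4.Cpl A) b) = algebraMap B (EGA4.Cpl B) b := by
  have h1 : ∀ n, maximalIdeal A ^ n ≤ (maximalIdeal B ^ n).comap (algebraMap A B) := fun n =>
    Ideal.map_le_iff_le_comap.1 (map_maximalIdeal_pow_le n)
  let F : EGA4.Cpl A →+* EGA4.Cpl B := AdicCompletion.liftRingHom (maximalIdeal B)
    (fun n => (Ideal.quotientMap (maximalIdeal B ^ n) (algebraMap A B) (h1 n)).comp
      (AdicCompletion.evalₐ (maximalIdeal A) n).toRingHom)
    (fun {m n} hle => by
      refine RingHom.ext fun x => ?_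
      obtain ⟨g, rfl⟩ := AdicCompletion.mk_surjective (maximalIdeal A) A x
      simp only [RingHom.comp_apply, AlgHom.toRingHom_eq_coe, RingHom.coe_coe, AdicCompletion.evalₐ_mk,
        Ideal.quotientMap_mk]
      show Ideal.Quotient.mk _ (algebraMap A B (g n)) = Ideal.Quotient.mk _ (algebraMap A B (g m))
      rw [Ideal.Quotient.eq, ← map_sub]
      refine h1 m ?_
      simpa using neg_mem (SModEq.sub_mem.1 (g.property hle)))
  let F' : EGA4.Cpl A →ₐ[A] EGA4.Cpl B :=
    { toRingHom := F
      commutes' := fun a => by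
        refine AdicCompletion.ext_evalₐ fun n => ?_
        show AdicCompletion.evalₐ _ n (F (algebraMap A (EGA4.Cpl A) a)) = _
        rw [AdicCompletion.evalₐ_liftRingHom, RingHom.comp_apply, AlgHom.toRingHom_eq_coe, RingHom.coe_coe,
          AlgHom.commutes, IsScalarTower.algebraMap_apply A B (EGA4.Cpl B), AlgHom.commutes]
        rfl }
  refine ⟨(Algebra.TensorProduct.lift (IsScalarTower.toAlgHom A B (EGA4.Cpl B)) F' fun _ _ => Commute.all _ _).toRingHom,
    fun b => ?_⟩
  simp [Algebra.TensorProduct.algebraMap_apply]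

theorem exists_equiv_aux {B' : Type u} [CommRing B'] [Algebra B B'] (n' : Ideal B') [n'.IsPrime]
    (dense : ∀ k x, ∃ b, x - algebraMap B B' b ∈ (maximalIdeal B ^ k).map (algebraMap B B'))
    (ψ : B' →+* EGA4.Cpl B) (hψ : ∀ b, ψ (algebraMap B B' b) = algebraMap B (EGA4.Cpl B) b)
    (h1 : n'.comap (algebraMap B B') = maximalIdeal B) :
    Nonempty (EGA4.Cpl B ≃+* EGA4.Cpl (Localization.AtPrime n')) := by
  haveI := FlatLoc6.isLocalRing_cpl B
  have hn : n' = (maximalIdeal B).map (algebraMap B B') := by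
    refine le_antisymm (fun x hx => ?_) (Ideal.map_le_iff_le_comap.2 h1.ge)
    obtain ⟨b, hb⟩ := dense 1 x
    rw [pow_one] at hb
    have hbn : algebraMap B B' b ∈ n' := by
      have := n'.sub_mem hx (Ideal.map_le_iff_le_comap.2 h1.ge hb)
      rwa [sub_sub_cancel] at this
    have hbm : b ∈ maximalIdeal B := h1 ▸ hbn
    have := add_mem hb (Ideal.mem_map_of_mem (algebraMap B B') hbm)
    rwa [sub_add_cancel] at this
  have hmax : maximalIdeal (Localization.AtPrime n') = (maximalIdeal B).map (algebraMap B (Localization.AtPrime n')) := by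
    rw [← Localization.AtPrime.map_eq_maximalIdeal, IsScalarTower.algebraMap_eq B B' (Localization.AtPrime n'), ← Ideal.map_map, ← hn]
  have hpow : ∀ k, maximalIdeal (Localization.AtPrime n') ^ k = (maximalIdeal B ^ k).map (algebraMap B (Localization.AtPrime n')) := fun k => by
    rw [hmax, Ideal.map_pow]
  have hle : ∀ k, maximalIdeal B ^ k ≤ (maximalIdeal (Localization.AtPrime n') ^ k).comap (algebraMap B (Localization.AtPrime n')) := fun k => by
    rw [hpow]; exact Ideal.le_comap_map
  have hu : ∀ s : n'.primeCompl, IsUnit (ψ s) := fun s => by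
    obtain ⟨b, hb⟩ := dense 1 (s : B')
    rw [pow_one, ← hn] at hb
    have hbm : b ∉ maximalIdeal B := fun hm => s.2 (by
      have := add_mem hb (show algebraMap B B' b ∈ n' from hn ▸ Ideal.mem_map_of_mem _ hm)
      rwa [sub_add_cancel] at this)
    by_contra hs
    have h2 : ψ s - algebraMap B (EGA4.Cpl B) b ∈ maximalIdeal (EGA4.Cpl B) := by
      rw [← hψ, ← map_sub, AdicCompletion.maximalIdeal_eq_map_of_fg (IsNoetherian.noetherian (maximalIdeal B))]
      have h3 := Ideal.mem_map_of_mem ψ (hn.le hb)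
      rwa [Ideal.map_map, show ψ.comp (algebraMap B B') = algebraMap B (EGA4.Cpl B) from RingHom.ext hψ] at h3
    have h3 := (maximalIdeal (EGA4.Cpl B)).sub_mem ((mem_maximalIdeal _).2 hs) h2
    rw [sub_sub_cancel] at h3
    exact h3 ((notMem_maximalIdeal.1 hbm).map _)
  let Ψ : (Localization.AtPrime n') →+* EGA4.Cpl B := IsLocalization.lift (M := n'.primeCompl) (g := ψ) hu
  have hΨ : ∀ b, Ψ (algebraMap B (Localization.AtPrime n') b) = algebraMap B (EGA4.Cpl B) b := fun b => by
    rw [IsScalarTower.algebraMap_apply B B' (Localization.AtPrime n'), IsLocalization.lift_eq, hψ]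
  refine exists_cplEquiv (algebraMap B (Localization.AtPrime n')) hle fun k => ⟨?_, fun z => ?_⟩
  · refine Ideal.quotientMap_injective' fun b hb => ?_
    rw [Ideal.mem_comap, hpow] at hb
    have h3 := Ideal.mem_map_of_mem Ψ hb
    rw [Ideal.map_map, show Ψ.comp (algebraMap B (Localization.AtPrime n')) = algebraMap B (EGA4.Cpl B) from RingHom.ext hΨ, hΨ,
      ← LocalCrit.smul_top_eq_map, AdicCompletion.pow_smul_top_eq_ker_eval (IsNoetherian.noetherian _),
      LinearMap.mem_ker] at h3
    have h4 : Submodule.mkQ (maximalIdeal B ^ k • ⊤ : Submodule B B) b = 0 :=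
      (AdicCompletion.eval_of (maximalIdeal B) B k b).symm.trans h3
    rw [Submodule.mkQ_apply, Submodule.Quotient.mk_eq_zero, smul_eq_mul, Ideal.mul_top] at h4
    exact h4
  · obtain ⟨y, rfl⟩ := Ideal.Quotient.mk_surjective z
    obtain ⟨⟨x, s⟩, hy⟩ := IsLocalization.surj n'.primeCompl y
    obtain ⟨bx, hbx⟩ := dense k x
    obtain ⟨bs, hbs⟩ := dense k (s : B')
    have hx' : algebraMap B' (Localization.AtPrime n') x - algebraMap B (Localization.AtPrime n') bx ∈ maximalIdeal (Localization.AtPrime n') ^ k := by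
      rw [hpow, IsScalarTower.algebraMap_eq B B' (Localization.AtPrime n'), ← Ideal.map_map, RingHom.comp_apply, ← map_sub]
      exact Ideal.mem_map_of_mem _ hbx
    have hs' : algebraMap B' (Localization.AtPrime n') (s : B') - algebraMap B (Localization.AtPrime n') bs ∈ maximalIdeal (Localization.AtPrime n') ^ k := by
      rw [hpow, IsScalarTower.algebraMap_eq B B' (Localization.AtPrime n'), ← Ideal.map_map, RingHom.comp_apply, ← map_sub]
      exact Ideal.mem_map_of_mem _ hbs
    rcases Nat.eq_zero_or_pos k with rfl | hk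
    · refine ⟨0, ?_⟩
      haveI : Subsingleton ((Localization.AtPrime n') ⧸ maximalIdeal (Localization.AtPrime n') ^ 0) := Ideal.Quotient.subsingleton_iff.2 (by simp)
      exact Subsingleton.elim _ _
    have hbs1 : IsUnit bs := notMem_maximalIdeal.1 fun hm => by
      have h5 : algebraMap B (Localization.AtPrime n') bs ∈ maximalIdeal (Localization.AtPrime n') := hmax ▸ Ideal.mem_map_of_mem _ hm
      exact notMem_maximalIdeal.2 (IsLocalization.map_units (Localization.AtPrime n') s) (by
        simpa using add_mem (Ideal.pow_le_self (by omega) hs') h5)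
    refine ⟨Ideal.Quotient.mk _ (bx * ↑hbs1.unit⁻¹), ?_⟩
    rw [Ideal.quotientMap_mk, Ideal.Quotient.eq]
    have e : algebraMap B (Localization.AtPrime n') (bx * ↑hbs1.unit⁻¹) - y =
        algebraMap B (Localization.AtPrime n') ↑hbs1.unit⁻¹ * ((algebraMap B (Localization.AtPrime n') bx - algebraMap B' (Localization.AtPrime n') x) +
          y * (algebraMap B' (Localization.AtPrime n') (s : B') - algebraMap B (Localization.AtPrime n') bs)) := by
      have h6 : algebraMap B (Localization.AtPrime n') ↑hbs1.unit⁻¹ * algebraMap B (Localization.AtPrime n') bs = 1 := by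
        rw [← map_mul, IsUnit.val_inv_mul, map_one]
      rw [map_mul]
      change y * algebraMap B' (Localization.AtPrime n') (s : B') = algebraMap B' (Localization.AtPrime n') x at hy
      linear_combination -(algebraMap B (Localization.AtPrime n') ↑hbs1.unit⁻¹) * hy + y * h6
    rw [e]
    refine Ideal.mul_mem_left _ _ (add_mem ?_ (Ideal.mul_mem_left _ _ hs'))
    simpa using neg_mem hx'

theorem exists_equiv (n' : Ideal (B ⊗[A] EGA4.Cpl A)) [n'.IsPrime]
    (h1 : n'.comap (algebraMap B (B ⊗[A] EGA4.Cpl A)) = maximalIdeal B) :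
    Nonempty (EGA4.Cpl B ≃+* EGA4.Cpl (Localization.AtPrime n')) := by
  obtain ⟨ψ, hψ⟩ := exists_retraction (A := A) (B := B)
  exact exists_equiv_aux n' dense ψ hψ h1

end Groth.Agent.ZClosLib.CplTensor
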