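import Groth.Agent.ZClosLib.H0

/-!
# Z-purity and Z-closedness are local
-/

universe u

open CategoryTheory CategoryTheory.Limits AlgebraicGeometry TopologicalSpace Opposite

namespace Groth.Agent.ZClosLib

variable {X : Scheme.{u}} {Z : Set X} {F : X.Modules}

theorem injective_congr (M : X.Modules) {A B A' B' : X.Opens} (h : B ≤ A) (h' : B' ≤ A') (hA : A = A') (hB : B = B') :
    Function.Injective (res M h) ↔ Function.Injective (res M h') := by subst hA hB; rfl

theorem bijective_congr (M : X.Modules) {A B A' B' : X.Opens} (h : B ≤ A) (h' : B' ≤ A') (hA : A = A') (hB : B = B') :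
    Function.Bijective (res M h) ↔ Function.Bijective (res M h') := by subst hA hB; rfl

theorem res_restrict (O : X.Opens) {W W' : (O : Scheme.{u}).Opens} (h : W ≤ W') :
    (res ((Scheme.Modules.restrictFunctor O.ι).obj F) h : Γ(F, O.ι ''ᵁ W') → Γ(F, O.ι ''ᵁ W)) =
      res F (O.ι.image_mono h) := rfl

variable [IsLocallyNoetherian X] (hZ : StableUnderSpecialization Z)

section
variable (O : X.Opens) (T' : ZClos.Cl (O.ι.base ⁻¹' Z))

include hZ in
/-- A closed subset of an open, contained in `Z`, extends to one of `X`. -/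
theorem exists_cl_extend : ∃ T : ZClos.Cl Z, O.ι ⁻¹ᵁ T.U = T'.U := by
  have hsub : (O : Set X) \ (O.ι ''ᵁ T'.U) ⊆ Z := fun x ⟨hx, hx'⟩ => by
    by_contra hxZ
    exact hx' ⟨⟨x, hx⟩, fun hT => hxZ (T'.2 hT), rfl⟩
  refine ⟨⟨⟨closure ((O : Set X) \ (O.ι ''ᵁ T'.U)), isClosed_closure⟩, closure_diff_subset hZ hsub⟩, ?_⟩
  ext ⟨x, hx⟩
  refine ⟨fun h => by_contra fun h' => h (subset_closure ⟨hx, fun ⟨y, hy, hyx⟩ => ?_⟩), fun h hc => ?_⟩
  · obtain rfl : y = ⟨x, hx⟩ := O.ι.isOpenEmbedding.injective hyx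
    exact h' hy
  · obtain ⟨z, hzO, -, hz⟩ := mem_closure_iff.1 hc (O.ι ''ᵁ T'.U) (O.ι ''ᵁ T'.U).2 ⟨⟨x, hx⟩, h, rfl⟩
    exact hz hzO

end

/-- The trace of a member of the index on an open. -/
noncomputable def trace (O : X.Opens) (T : ZClos.Cl Z) : ZClos.Cl (O.ι.base ⁻¹' Z) :=
  ⟨⟨O.ι.base ⁻¹' (T.1 : Set X), T.1.2.preimage O.ι.continuous⟩, Set.preimage_mono T.2⟩

theorem trace_U (O : X.Opens) (T : ZClos.Cl Z) : (trace O T).U = O.ι ⁻¹ᵁ T.U := rfl

theorem image_inf (O : X.Opens) (W : (O : Scheme.{u}).Opens) (U : X.Opens) :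
    O.ι ''ᵁ (W ⊓ O.ι ⁻¹ᵁ U) = O.ι ''ᵁ W ⊓ U := by
  ext x
  refine ⟨fun ⟨y, hy, e⟩ => e ▸ ⟨⟨y, hy.1, rfl⟩, hy.2⟩, fun ⟨⟨y, hy, e⟩, hx⟩ => ⟨y, ⟨hy, ?_⟩, e⟩⟩
  show O.ι y ∈ U
  exact e ▸ hx

include hZ in
theorem isZClosed_iff_openCover {ι : Type u} (V : ι → X.Opens) (hV : iSup V = ⊤) :
    ZClos.IsZClosed Z F ↔
      ∀ i, ZClos.IsZClosed ((V i).ι.base ⁻¹' Z) ((Scheme.Modules.restrictFunctor (V i).ι).obj F) := by
  constructor
  · intro h i
    refine isZClosed_iff_forall_bijective.2 fun T' W hW => ?_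
    obtain ⟨T, hT⟩ := exists_cl_extend hZ (V i) T'
    rw [res_restrict]
    refine (bijective_congr F _ inf_le_left rfl ?_).2
      (isZClosed_iff_forall_bijective.1 h T ((V i).ι ''ᵁ W) (hW.image (V i).ι.continuous))
    rw [← hT, image_inf]
  · intro h
    refine isZClosed_iff_forall_isIso.2 fun T => isIso_of_good (ZClos.toDiagram Z F T)
      (fun W : X.Opens => IsCompact (W : Set X) ∧ ∃ i, W ≤ V i) (fun W x hx => ?_) fun W ⟨hW, i, hi⟩ => ?_
    · obtain ⟨i, hi⟩ := Opens.mem_iSup.1 (hV ▸ Opens.mem_top x)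
      obtain ⟨W', hW', hxW', hc⟩ := exists_compact_nhd (show x ∈ W ⊓ V i from ⟨hx, hi⟩)
      exact ⟨W', hW'.trans inf_le_left, hxW', hc, i, hW'.trans inf_le_right⟩
    · refine (unit_app_bijective_iff T.U F W).2 ?_
      have himg : (V i).ι ''ᵁ (V i).ι ⁻¹ᵁ W = W := by
        rw [ZClos.ι_image_preimage, inf_eq_right.2 hi]
      have hc : IsCompact (((V i).ι ⁻¹ᵁ W : ((V i) : Scheme.{u}).Opens) : Set (V i : Scheme.{u})) := by
        rw [(V i).ι.isOpenEmbedding.isEmbedding.isCompact_iff]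
        rw [← himg] at hW
        exact hW
      have := isZClosed_iff_forall_bijective.1 (h i) (trace (V i) T) _ hc
      rw [res_restrict] at this
      refine (bijective_congr F _ _ himg ?_).1 this
      rw [trace_U, image_inf, himg]

include hZ in
theorem isZPure_iff_openCover {ι : Type u} (V : ι → X.Opens) (hV : iSup V = ⊤) :
    ZClos.IsZPure Z F ↔
      ∀ i, ZClos.IsZPure ((V i).ι.base ⁻¹' Z) ((Scheme.Modules.restrictFunctor (V i).ι).obj F) := by
  constructor
  · intro h i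
    refine isZPure_iff_forall_injective.2 fun T' W hW => ?_
    obtain ⟨T, hT⟩ := exists_cl_extend hZ (V i) T'
    rw [res_restrict]
    refine (injective_congr F _ inf_le_left rfl ?_).2
      (isZPure_iff_forall_injective.1 h T ((V i).ι ''ᵁ W) (hW.image (V i).ι.continuous))
    rw [← hT, image_inf]
  · intro h
    refine isZPure_iff_forall_mono.2 fun T => mono_of_app_injective _ (app_injective_of_good (ZClos.toDiagram Z F T)
      (fun W : X.Opens => IsCompact (W : Set X) ∧ ∃ i, W ≤ V i) (fun W x hx => ?_) fun W ⟨hW, i, hi⟩ => ?_)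
    · obtain ⟨i, hi⟩ := Opens.mem_iSup.1 (hV ▸ Opens.mem_top x)
      obtain ⟨W', hW', hxW', hc⟩ := exists_compact_nhd (show x ∈ W ⊓ V i from ⟨hx, hi⟩)
      exact ⟨W', hW'.trans inf_le_left, hxW', hc, i, hW'.trans inf_le_right⟩
    · refine (unit_app_injective_iff T.U F W).2 ?_
      have himg : (V i).ι ''ᵁ (V i).ι ⁻¹ᵁ W = W := by
        rw [ZClos.ι_image_preimage, inf_eq_right.2 hi]
      have hc : IsCompact (((V i).ι ⁻¹ᵁ W : ((V i) : Scheme.{u}).Opens) : Set (V i : Scheme.{u})) := by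
        rw [(V i).ι.isOpenEmbedding.isEmbedding.isCompact_iff]
        rw [← himg] at hW
        exact hW
      have := isZPure_iff_forall_injective.1 (h i) (trace (V i) T) _ hc
      rw [res_restrict] at this
      refine (injective_congr F _ _ himg ?_).1 this
      rw [trace_U, image_inf, himg]

end Groth.Agent.ZClosLib
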