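import Groth.Agent.ZClosLib.QCohH0
import Groth.Agent.ZClosLib.H0
import Groth.Agent.AssLib.Apply
import Groth.Agent.FDescent.StalkFinite
import Groth.Agent.Alg6.AssDepth

/-!
# Purity and associated points
-/

set_option linter.style.haveILetI false

universe u

open CategoryTheory CategoryTheory.Limits AlgebraicGeometry TopologicalSpace Opposite

namespace Groth.Agent.ZClosLib

variable {X : Scheme.{u}} [IsLocallyNoetherian X] {Z : Set X} {F : X.Modules}

theorem germ_rho (V : X.Opens) {x : X} (hx : x ∈ V) (s : Γ(F, V)) :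
    ZClos.rhoStalk Z F x (F.presheaf.germ V x hx s) =
      ((ZClos.H0 Z).obj F).presheaf.germ V x hx ((ZClos.rhoApp Z F).app V s) :=
  stalkMap_germ (ZClos.rhoApp Z F) hx s

theorem isZPure_of_ass (hF : Coh.IsQCoh F) (h : ∀ x ∈ AssSch.Ass F, x ∉ Z) : ZClos.IsZPure Z F := by
  refine isZPure_iff_forall_mono.2 fun T => mono_of_app_injective _
    (app_injective_of_good (ZClos.toDiagram Z F T) (fun W : X.Opens => IsAffineOpen W) (fun V x hx => ?_) fun W hW => ?_)
  · obtain ⟨_, ⟨W, hW, rfl⟩, hxW, hle⟩ :=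
      X.isBasis_affineOpens.exists_subset_of_mem_open (show x ∈ V from hx) V.2
    exact ⟨W, hle, hxW, hW⟩
  · refine (unit_app_injective_iff T.U F W).2
      ((injective_iff_map_eq_zero (F.presheaf.map (homOfLE (inf_le_left : W ⊓ T.U ≤ W)).op).hom).2 ?_)
    exact (AssLib.ass_subset_iff hF T.U).1 (fun x hx hT => h x hx (T.2 hT)) W hW

theorem mono_toH0 (hF : Coh.IsQCoh F) (h : ∀ x ∈ AssSch.Ass F, x ∉ Z) (hZ : StableUnderSpecialization Z)
    (T : ZClos.Cl Z) : Mono (toH0 Z F T) := by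
  refine mono_of_app_injective _ (app_injective_of_good _ (fun W : X.Opens => IsCompact (W : Set X))
    (fun V x hx => exists_compact_nhd hx) fun W hW a b e => ?_)
  obtain ⟨T', hT, e'⟩ := cls_eq hW (a := a) (b := b) e
  have hle : img T.U W ⊓ T'.U ≤ img T'.U W := fun x hx => mem_img.2 ⟨hx.2, (mem_img.1 hx.1).2⟩
  have := congrArg (res F hle) e'
  rw [res_res, res_res] at this
  exact (isZPure_iff_forall_injective.1 (isZPure_of_ass hF h) T' (img T.U W)
    (isCompact_of_le hW (img_le T.U W))) this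

theorem isCoh_resPush (hF : Coh.IsCoh F) (hass : ∀ x ∈ AssSch.Ass F, x ∉ Z) (hZ : StableUnderSpecialization Z)
    (hH : Coh.IsCoh ((ZClos.H0 Z).obj F)) (T : ZClos.Cl Z) : Coh.IsCoh ((ZClos.resPush T.U).obj F) := by
  let i : (ZClos.resPush T.U).obj F ⟶ (ZClos.H0 Z).obj F := toH0 Z F T
  haveI : Mono i := mono_toH0 hF.1 hass hZ T
  haveI : QuasiCompact T.U.ι := ⟨fun W hW hc =>
    (T.U.ι.isOpenEmbedding.isEmbedding.isCompact_iff).2
      (isCompact_of_le (V := ⟨W, hW⟩) (W := T.U.ι ''ᵁ T.U.ι ⁻¹ᵁ ⟨W, hW⟩) hc (T.U.ι.image_preimage_le _))⟩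
  exact QCoh.isCoh_of_mono i hH (QCoh.isQCoh_pushforward T.U.ι (QCoh.isQCoh_restrict T.U.ι hF.1))

/-- A section supported on the closure of an associated point, non-zero there. -/
theorem exists_section_of_ass' (hF : Coh.IsQCoh F) {U : X.Opens} (hU : IsAffineOpen U) {x : X} (hx : x ∈ U)
    (h : x ∈ AssSch.Ass F) :
    ∃ s : Γ(F, U), F.presheaf.germ U x hx s ≠ 0 ∧
      ∀ z (hz : z ∈ U), ¬ x ⤳ z → F.presheaf.germ U z hz s = 0 := by
  haveI : IsNoetherianRing Γ(X, U) := IsLocallyNoetherian.component_noetherian ⟨U, hU⟩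
  obtain ⟨-, s, hs⟩ := isAssociatedPrime_iff.1 ((AssLib.mem_ass_iff hF hU hx).1 h)
  refine ⟨s, fun h0 => ?_, fun z hz hxz => ?_⟩
  · obtain ⟨r, hr, hr0⟩ := (QCoh.germ_eq_zero_iff hF hU hx s).1 h0
    rw [QCoh.mem_basicOpen_iff_notMem hU hx, hs, Submodule.mem_colon_singleton, Submodule.mem_bot] at hr
    exact hr hr0
  · obtain ⟨r, hr, hrz⟩ := Set.not_subset.1 (fun hsub => hxz ((AssLib.primeIdealOf_le_iff hU hz hx).1 hsub))
    refine (QCoh.germ_eq_zero_iff hF hU hz s).2 ⟨r, (QCoh.mem_basicOpen_iff_notMem hU hz r).2 hrz, ?_⟩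
    have hr' : r ∈ (hU.primeIdealOf ⟨x, hx⟩).asIdeal := hr
    rw [hs, Submodule.mem_colon_singleton, Submodule.mem_bot] at hr'
    exact hr'

/-- Near `x`, all associated points generize `x`. -/
theorem exists_nhd_ass_generize (hF : Coh.IsCoh F) {U : X.Opens} (hU : IsAffineOpen U) {x : X} (hx : x ∈ U) :
    ∃ V : X.Opens, IsAffineOpen V ∧ x ∈ V ∧ V ≤ U ∧ ∀ y ∈ V, y ∈ AssSch.Ass F → y ⤳ x := by
  haveI : IsNoetherianRing Γ(X, U) := IsLocallyNoetherian.component_noetherian ⟨U, hU⟩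
  haveI : Module.Finite Γ(X, U) Γ(F, U) := (QCoh.isCoh_iff.1 hF).2 ⟨U, hU⟩
  have hfin : {y : X | y ∈ U ∧ y ∈ AssSch.Ass F}.Finite := by
    refine Set.Finite.subset (((associatedPrimes.finite Γ(X, U) Γ(F, U)).preimage
      (f := fun p : U => (hU.primeIdealOf p).asIdeal) fun p _ q _ e =>
        Subtype.ext (AssLib.eq_of_primeIdealOf_eq hU q.2 p.2 e)).image Subtype.val) fun y hy =>
      ⟨⟨y, hy.1⟩, (AssLib.mem_ass_iff hF.1 hU hy.1).1 hy.2, rfl⟩
  let B := {y : X | (y ∈ U ∧ y ∈ AssSch.Ass F) ∧ ¬ y ⤳ x}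
  have hB : B.Finite := hfin.subset fun y hy => hy.1
  let C : X.Opens := ⟨(U : Set X) \ ⋃ y ∈ B, closure {y},
    U.isOpen.sdiff (hB.isClosed_biUnion fun y _ => isClosed_closure)⟩
  obtain ⟨V, hV, hxV, hle⟩ := exists_isAffineOpen_mem_and_subset (x := x) (U := C) ⟨hx, fun h => by
    obtain ⟨y, hy, hyx⟩ := Set.mem_iUnion₂.1 h
    exact hy.2 (specializes_iff_mem_closure.2 hyx)⟩
  refine ⟨V, hV, hxV, fun y hy => (hle hy).1, fun y hy hya => by_contra fun hyx => ?_⟩
  exact (hle hy).2 (Set.mem_iUnion₂.2 ⟨y, ⟨⟨(hle hy).1, hya⟩, hyx⟩, subset_closure rfl⟩)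

theorem isZPureAt_iff_ass (hF' : Coh.IsCoh F) (hZ : StableUnderSpecialization Z) (x : X) :
    ZClos.IsZPureAt Z F x ↔ ∀ y ∈ AssSch.Ass F, y ⤳ x → y ∉ Z := by
  have hF := hF'.1
  constructor
  · intro h y hy hyx hyZ
    obtain ⟨V, hV, hxV, -⟩ := exists_isAffineOpen_mem_and_subset (x := x) (U := ⊤) trivial
    have hyV : y ∈ V := hyx.mem_open V.2 hxV
    obtain ⟨s, hsy, hs⟩ := exists_section_of_ass' hF hV hyV hy
    have hcl : IsClosed (closure {y}) := isClosed_closure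
    let T : ZClos.Cl Z := ⟨⟨closure {y}, hcl⟩, fun z hz => hZ (specializes_iff_mem_closure.2 hz) hyZ⟩
    have h0 : res F (img_le T.U V) s = 0 := section_ext F _ _ fun z hz => by
      rw [germ_res, map_zero]
      exact hs z ((mem_img.1 hz).2) fun hyz => (mem_img.1 hz).1 (specializes_iff_mem_closure.1 hyz)
    have hρ : (ZClos.rhoApp Z F).app V s = 0 := by
      rw [← toDiagram_toH0 T, Scheme.Modules.Hom.comp_app, ConcreteCategory.comp_apply]
      rw [show (ZClos.toDiagram Z F T).app V s = res F (img_le T.U V) s from rfl, h0]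
      exact map_zero _
    have hx0 : F.presheaf.germ V x hxV s = 0 := h (by rw [germ_rho, hρ, map_zero, map_zero])
    obtain ⟨W, h₁, h₂, hxW, e⟩ := exists_res_eq_of_germ_eq F hxV hxV s 0 (hx0.trans (map_zero _).symm)
    have hyW : y ∈ W := hyx.mem_open W.2 hxW
    exact hsy (by rw [← germ_res F h₁ hyW s, e, germ_res, map_zero])
  · intro h
    refine (injective_iff_map_eq_zero (ZClos.rhoStalk Z F x).hom).2 fun z hz => ?_
    change ZClos.rhoStalk Z F x z = 0 at hz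
    obtain ⟨U, hxU, a, rfl⟩ := TopCat.Presheaf.germ_exist F.presheaf z
    rw [germ_rho] at hz
    obtain ⟨W, h₁, h₂, hxW, e⟩ := exists_res_eq_of_germ_eq _ hxU hxU _ 0 (hz.trans (map_zero _).symm)
    obtain ⟨V₀, hV₀, hxV₀, hle₀⟩ := exists_isAffineOpen_mem_and_subset (x := x) (U := W) hxW
    haveI : IsNoetherianRing Γ(X, V₀) := IsLocallyNoetherian.component_noetherian ⟨V₀, hV₀⟩
    obtain ⟨T, hT⟩ := exists_toDiagram_eq (Z := Z) (F := F) hV₀.isCompact
      (res F ((show V₀ ≤ W from hle₀).trans h₁) a) 0 (by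
        rw [app_res, map_zero, ← res_res _ (show V₀ ≤ W from hle₀) h₁, e]
        simp [res])
    rw [map_zero] at hT
    obtain ⟨V, hV, hxV, hle, hgen⟩ := exists_nhd_ass_generize hF' hV₀ hxV₀
    have hV0 : res F ((hle.trans hle₀).trans h₁) a = 0 := AssLib.eq_zero_of_germ_ass hF hV _ fun y hy hya => by
      rw [germ_res, ← germ_res F ((show V₀ ≤ W from hle₀).trans h₁) (hle hy) a]
      have hmem : y ∈ img T.U V₀ := mem_img.2 ⟨fun hT' => h y hya (hgen y hy hya) (T.2 hT'), hle hy⟩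
      rw [← germ_res F (img_le T.U V₀) hmem, show res F (img_le T.U V₀) _ = 0 from hT, map_zero]
    rw [← germ_res F ((hle.trans hle₀).trans h₁) hxV a, hV0, map_zero]

theorem isZPureAt_iff_depth (hF : Coh.IsCoh F) (hZ : StableUnderSpecialization Z) (x : X) :
    ZClos.IsZPureAt Z F x ↔
      ∀ x' : X, x' ⤳ x → x' ∈ Z → (1 : ℕ∞) ≤ LocCoh.depth (X.presheaf.stalk x') (F.presheaf.stalk x') := by
  rw [isZPureAt_iff_ass hF hZ]
  haveI : SheafOfModules.IsFiniteType (R := X.ringCatSheaf) F := hF.2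
  have key : ∀ x' : X, ((1 : ℕ∞) ≤ LocCoh.depth (X.presheaf.stalk x') (F.presheaf.stalk x') ↔
      x' ∉ AssSch.Ass F) := fun x' => by
    haveI := FDescent.finite_stalk F x'
    exact Alg6.one_le_depth_iff
  exact ⟨fun h x' hx hZ' => (key x').2 fun ha => h x' ha hx hZ', fun h y hy hyx hyZ => (key y).1 (h y hyx hyZ) hy⟩

end Groth.Agent.ZClosLib
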