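import Groth.Agent.ZClosLib.ClosedDepth
import Groth.Agent.ZClosLib.Local
import Groth.Agent.LC.ExtDim
import Groth.Agent.S2089

/-!
# The closed locus of a coherent module with coherent `H⁰`
-/

set_option linter.style.haveILetI false

universe u

open CategoryTheory CategoryTheory.Limits AlgebraicGeometry TopologicalSpace Opposite

namespace Groth.Agent.ZClosLib

variable {X : Scheme.{u}} [IsLocallyNoetherian X] {Z : Set X} {F G : X.Modules}

theorem isOpen_setOf_stalkMap_bijective (hF : Coh.IsCoh F) (hG : Coh.IsCoh G) (φ : F ⟶ G) :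
    IsOpen {x : X | Function.Bijective (stalkMap φ x)} := by
  have hK := QCoh.isCoh_kernel hF hG φ
  have hC := QCoh.isCoh_cokernel hF.1 hG φ
  have key : ∀ x, Function.Bijective (stalkMap φ x) ↔
      x ∉ CohB1.support (kernel φ) ∧ x ∉ CohB1.support (cokernel φ) := fun x => by
    have hk : (x ∉ CohB1.support (kernel φ)) ↔ Mono ((KFlatLib.stalkAb x).map φ) := by
      rw [Preadditive.mono_iff_isZero_kernel, ← (PreservesKernel.iso (KFlatLib.stalkAb x) φ).isZero_iff]
      exact not_not.trans ⟨fun h => @AddCommGrpCat.isZero_of_subsingleton _ h, fun h => AddCommGrpCat.subsingleton_of_isZero h⟩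
    have hc : (x ∉ CohB1.support (cokernel φ)) ↔ Epi ((KFlatLib.stalkAb x).map φ) := by
      rw [Preadditive.epi_iff_isZero_cokernel, ← (PreservesCokernel.iso (KFlatLib.stalkAb x) φ).isZero_iff]
      exact not_not.trans ⟨fun h => @AddCommGrpCat.isZero_of_subsingleton _ h, fun h => AddCommGrpCat.subsingleton_of_isZero h⟩
    rw [hk, hc, AddCommGrpCat.mono_iff_injective, AddCommGrpCat.epi_iff_surjective]
    rfl
  rw [show {x : X | Function.Bijective (stalkMap φ x)} = (CohB1.support (kernel φ))ᶜ ∩ (CohB1.support (cokernel φ))ᶜ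
    from Set.ext key]
  exact (QCoh.isClosed_support_of_isFT hK.1 hK.2).isOpen_compl.inter
    (QCoh.isClosed_support_of_isFT hC.1 hC.2).isOpen_compl

theorem rho_app_eq (T : ZClos.Cl Z) (V : X.Opens) (s : Γ(F, V)) :
    (ZClos.rhoApp Z F).app V s = cls T V (res F (img_le T.U V) s) := by
  rw [← toDiagram_toH0 T, Scheme.Modules.Hom.comp_app, ConcreteCategory.comp_apply]
  rfl

theorem isZClosedAt_of_restrict (hZ : StableUnderSpecialization Z) {V : X.Opens}
    (h : ZClos.IsZClosed (V.ι.base ⁻¹' Z) ((Scheme.Modules.restrictFunctor V.ι).obj F)) {x : X} (hx : x ∈ V) :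
    ZClos.IsZClosedAt Z F x := by
  have hb : ∀ (T : ZClos.Cl Z) (W : X.Opens), W ≤ V → IsCompact (W : Set X) →
      Function.Bijective ((ZClos.toDiagram Z F T).app W) := fun T W hW hWc => by
    refine (unit_app_bijective_iff T.U F W).2 ?_
    have himg : V.ι ''ᵁ V.ι ⁻¹ᵁ W = W := by rw [ZClos.ι_image_preimage, inf_eq_right.2 hW]
    have hc : IsCompact ((V.ι ⁻¹ᵁ W : (V : Scheme.{u}).Opens) : Set (V : Scheme.{u})) := by
      rw [V.ι.isOpenEmbedding.isEmbedding.isCompact_iff]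
      rw [← himg] at hWc
      exact hWc
    have := isZClosed_iff_forall_bijective.1 h (trace V T) _ hc
    rw [res_restrict] at this
    refine (bijective_congr F _ _ himg ?_).1 this
    rw [trace_U, image_inf, himg]
  constructor
  · intro y y' e
    obtain ⟨U, hU, a, rfl⟩ := TopCat.Presheaf.germ_exist F.presheaf y
    obtain ⟨U', hU', a', rfl⟩ := TopCat.Presheaf.germ_exist F.presheaf y'
    rw [germ_rho, germ_rho] at e
    obtain ⟨W₀, h₁, h₂, hx₀, e'⟩ := exists_res_eq_of_germ_eq _ hU hU' _ _ e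
    obtain ⟨W, hW, hxW, hWc⟩ := exists_compact_nhd (show x ∈ W₀ ⊓ V from ⟨hx₀, hx⟩)
    have e'' := congrArg (res ((ZClos.H0 Z).obj F) (hW.trans inf_le_left)) e'
    rw [res_res, res_res, ← app_res, ← app_res] at e''
    obtain ⟨T, hT⟩ := exists_toDiagram_eq hWc _ _ e''
    have := congrArg (F.presheaf.germ W x hxW) ((hb T W (hW.trans inf_le_right) hWc).1 hT)
    rwa [germ_res, germ_res] at this
  · intro z
    obtain ⟨U, hU, s, rfl⟩ := TopCat.Presheaf.germ_exist ((ZClos.H0 Z).obj F).presheaf z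
    obtain ⟨W, hW, hxW, hWc⟩ := exists_compact_nhd (show x ∈ U ⊓ V from ⟨hU, hx⟩)
    obtain ⟨T, a, ha⟩ := exists_cls hWc (res _ (hW.trans inf_le_left) s)
    obtain ⟨w, hw⟩ := (hb T W (hW.trans inf_le_right) hWc).2 a
    refine ⟨F.presheaf.germ W x hxW w, ?_⟩
    rw [germ_rho, rho_app_eq T, show res F (img_le T.U W) w = a from hw, ha, germ_res]

theorem restrict_isZClosed_of_at (hZ : StableUnderSpecialization Z) {V : X.Opens}
    (h : ∀ x ∈ V, ZClos.IsZClosedAt Z F x) :
    ZClos.IsZClosed (V.ι.base ⁻¹' Z) ((Scheme.Modules.restrictFunctor V.ι).obj F) := by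
  refine isZClosed_iff_forall_bijective.2 fun T' W' hW' => ?_
  obtain ⟨T, hT⟩ := exists_cl_extend hZ V T'
  rw [res_restrict]
  have hWV : V.ι ''ᵁ W' ≤ V := fun x hx => by obtain ⟨y, -, rfl⟩ := hx; exact y.2
  refine (bijective_congr F _ inf_le_left rfl (by rw [← hT, image_inf])).2
    ((unit_app_bijective_iff T.U F (V.ι ''ᵁ W')).1 ?_)
  set W := V.ι ''ᵁ W'
  have hinj : ∀ (O : X.Opens), O ≤ W → Function.Injective ((ZClos.rhoApp Z F).app O) := fun O hO s t e =>
    section_ext F s t fun y hy => (h y (hWV (hO hy))).1 (by rw [germ_rho, germ_rho, e])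
  constructor
  · intro s t e
    have e' : res F (img_le T.U W) s = res F (img_le T.U W) t := e
    exact hinj W le_rfl (by rw [rho_app_eq T, rho_app_eq T, e'])
  · intro a
    have key : ∀ p : W, ∃ (O : X.Opens) (hO : O ≤ W) (w : Γ(F, O)), p.1 ∈ O ∧
        (ZClos.rhoApp Z F).app O w = res _ hO (cls T W a) := fun p => by
      obtain ⟨z, hz⟩ := (h p.1 (hWV p.2)).2 (((ZClos.H0 Z).obj F).presheaf.germ W p.1 p.2 (cls T W a))
      obtain ⟨U, hU, w, rfl⟩ := TopCat.Presheaf.germ_exist F.presheaf z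
      rw [germ_rho] at hz
      obtain ⟨O, h₁, h₂, hpO, e⟩ := exists_res_eq_of_germ_eq _ hU p.2 _ _ hz
      exact ⟨O, h₂, res F h₁ w, hpO, by rw [app_res, e]⟩
    choose O hO w hpO hw using key
    obtain ⟨t, ht⟩ := exists_glue F O hO (fun x hx => ⟨⟨x, hx⟩, hpO _⟩) w fun p q =>
      hinj _ (inf_le_left.trans (hO p)) (by rw [app_res, app_res, hw, hw, res_res, res_res])
    have hρ : (ZClos.rhoApp Z F).app W t = cls T W a :=
      res_eq_of_cover _ O hO (fun x hx => ⟨⟨x, hx⟩, hpO _⟩) _ _ fun p => by rw [← app_res, ht, hw]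
    refine ⟨t, (hinj (img T.U W) (img_le T.U W) ?_ : res F (img_le T.U W) t = a)⟩
    rw [app_res, hρ, cls_res, rho_app_eq T]

theorem exists_closed_locus (hF : Coh.IsCoh F) (hH : Coh.IsCoh ((ZClos.H0 Z).obj F)) (hZ : StableUnderSpecialization Z) :
    ∃ U : X.Opens, (U : Set X) = {x | ∀ x' : X, x' ⤳ x → x' ∈ Z →
        (2 : ℕ∞) ≤ LocCoh.depth (X.presheaf.stalk x') (F.presheaf.stalk x')} ∧
      (U : Set X)ᶜ ⊆ Z ∧
      ZClos.IsZClosed (U.ι.base ⁻¹' Z) ((Scheme.Modules.restrictFunctor U.ι).obj F) ∧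
      ∀ V : X.Opens, ZClos.IsZClosed (V.ι.base ⁻¹' Z) ((Scheme.Modules.restrictFunctor V.ι).obj F) → V ≤ U :=
  ⟨⟨{x | ZClos.IsZClosedAt Z F x}, isOpen_setOf_stalkMap_bijective hF hH (ZClos.rhoApp Z F)⟩,
    Set.ext fun x => isZClosedAt_iff_depth hF hZ x,
    fun x hx => by_contra fun hZ' => hx (isZClosedAt_of_not_mem F hZ'),
    restrict_isZClosed_of_at hZ fun _ hx => hx,
    fun _ hV _ hx => isZClosedAt_of_restrict hZ hV hx⟩

theorem two_le_depth_H0 (hH : Coh.IsCoh ((ZClos.H0 Z).obj F)) (hZ : StableUnderSpecialization Z) {x : X} (hx : x ∈ Z) :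
    (2 : ℕ∞) ≤ LocCoh.depth (X.presheaf.stalk x) (((ZClos.H0 Z).obj F).presheaf.stalk x) := by
  refine two_le_depth_of_isZClosedAt hH hZ (specializes_refl x) hx ?_
  haveI : IsIso (ZClos.rhoApp Z ((ZClos.H0 Z).obj F)) := isZClosed_H0
  exact ConcreteCategory.bijective_of_isIso ((KFlatLib.stalkAb x).map (ZClos.rhoApp Z ((ZClos.H0 Z).obj F)))

theorem two_le_dim_quot (hF : Coh.IsQCoh F) (hH : Coh.IsCoh ((ZClos.H0 Z).obj F)) (hZ : StableUnderSpecialization Z)
    {x : X} (hx : x ∈ AssSch.Ass F) (hxZ : x ∉ Z) {y : X} (hy : y ∈ Z) (h : x ⤳ y) :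
    (2 : WithBot ℕ∞) ≤ ringKrullDim (X.presheaf.stalk y ⧸
      (IsLocalRing.maximalIdeal (X.presheaf.stalk x)).comap (X.presheaf.stalkSpecializes h).hom) := by
  set G := (ZClos.H0 Z).obj F
  have hxG : x ∈ AssSch.Ass G := by
    let φ : F.presheaf.stalk x →ₗ[X.presheaf.stalk x] G.presheaf.stalk x :=
      ((DerSch.stalkFunctor X x).map (ZClos.rhoApp Z F)).hom
    have hb : Function.Bijective φ := isZClosedAt_of_not_mem F hxZ
    exact (LinearEquiv.AssociatedPrimes.eq (LinearEquiv.ofBijective φ hb)).le hx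
  obtain ⟨V, hV, hyV, -⟩ := exists_isAffineOpen_mem_and_subset (x := y) (U := ⊤) trivial
  have hxV : x ∈ V := h.mem_open V.2 hyV
  haveI : IsNoetherianRing Γ(X, V) := IsLocallyNoetherian.component_noetherian ⟨V, hV⟩
  haveI := finite_sections hH hV
  letI := QCoh.stalkAlg (X := X) hyV
  letI := QCoh.stalkModule G hyV
  haveI := QCoh.isScalarTower_stalk G hyV
  haveI := QCoh.isLocalization_stalk' hV hyV
  haveI := QCoh.isLocalizedModule_germLin hH.1 hV hyV
  haveI : SheafOfModules.IsFiniteType (R := X.ringCatSheaf) G := hH.2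
  haveI := FDescent.finite_stalk G y
  set P := (IsLocalRing.maximalIdeal (X.presheaf.stalk x)).comap (X.presheaf.stalkSpecializes h).hom
  have hcomap : P.comap (X.presheaf.germ V y hyV).hom = (hV.primeIdealOf ⟨x, hxV⟩).asIdeal := by
    rw [← AssLib.comap_maximalIdeal_stalk hV hxV, Ideal.comap_comap, ← CommRingCat.hom_comp,
      X.presheaf.germ_stalkSpecializes hyV h]
  have hP : P ∈ associatedPrimes (X.presheaf.stalk y) (G.presheaf.stalk y) := by
    rw [← Module.associatedPrimes.preimage_comap_associatedPrimes_eq_associatedPrimes_of_isLocalizedModule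
      (hV.primeIdealOf ⟨y, hyV⟩).asIdeal.primeCompl (X.presheaf.stalk y) (QCoh.germLin G hyV), Set.mem_preimage]
    exact (congrArg (· ∈ associatedPrimes Γ(X, V) Γ(G, V)) hcomap).to_iff.2
      ((AssLib.mem_ass_iff hH.1 hV hxV).1 hxG)
  have hd : (2 : ℕ∞) ≤ LocCoh.depth (X.presheaf.stalk y) (G.presheaf.stalk y) := two_le_depth_H0 hH hZ hy
  haveI : P.IsPrime := IsAssociatedPrime.isPrime (AssociatedPrimes.mem_iff.mp hP)
  exact le_trans (WithBot.coe_le_coe.2 hd) (Groth.Agent.S2089.result P hP)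

end Groth.Agent.ZClosLib
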