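import Groth.Agent.ZClosLib.Basic

/-!
# Closed subsets contained in a set stable under specialization
-/

universe u

open CategoryTheory CategoryTheory.Limits AlgebraicGeometry TopologicalSpace Opposite

namespace Groth.Agent.ZClosLib

variable {X : Scheme.{u}} [IsLocallyNoetherian X]

theorem noetherianSpace_affine {A : X.Opens} (hA : IsAffineOpen A) : NoetherianSpace (A : Set X) :=
  haveI := IsLocallyNoetherian.component_noetherian ⟨A, hA⟩
  noetherianSpace_of_isAffineOpen A hA

theorem isCompact_of_subset_affine {A : X.Opens} (hA : IsAffineOpen A) {S : Set X} (h : S ⊆ A) : IsCompact S :=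
  haveI := noetherianSpace_affine hA
  by
    have := (NoetherianSpace.isCompact ((Subtype.val : ↥(A : Set X) → X) ⁻¹' S)).image continuous_subtype_val
    rwa [Subtype.image_preimage_coe, Set.inter_eq_right.2 h] at this

theorem isCompact_of_le {V W : X.Opens} (hV : IsCompact (V : Set X)) (h : W ≤ V) : IsCompact (W : Set X) := by
  obtain ⟨c, hc, he⟩ := isCompact_and_isOpen_iff_finite_and_eq_biUnion_affineOpens.1 ⟨hV, V.2⟩
  have : (W : Set X) = ⋃ a ∈ c, ((W : Set X) ∩ (a.1 : X.Opens)) := by
    rw [← Set.inter_iUnion₂, ← he, Set.inter_eq_left.2 h]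
  rw [this]
  exact hc.isCompact_biUnion fun a _ => isCompact_of_subset_affine a.2 Set.inter_subset_right

/-- A locally closed subset of a set stable under specialization has its closure in that set. -/
theorem closure_diff_subset {Z : Set X} (hZ : StableUnderSpecialization Z) {W O : X.Opens}
    (h : (W : Set X) \ O ⊆ Z) : closure ((W : Set X) \ O) ⊆ Z := by
  intro x hx
  obtain ⟨A, hA, hxA, -⟩ := exists_isAffineOpen_mem_and_subset (x := x) (U := ⊤) trivial
  haveI := noetherianSpace_affine hA
  set S := ((W : Set X) \ O) ∩ A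
  haveI : NoetherianSpace S := (Topology.IsEmbedding.inclusion (Set.inter_subset_right :
    S ⊆ (A : Set X))).isInducing.noetherianSpace
  have hxS : x ∈ closure S := by
    have := A.isOpen.inter_closure (Set.mem_inter hxA hx)
    rwa [Set.inter_comm] at this
  have hcover : S = ⋃ C ∈ irreducibleComponents S, (Subtype.val : S → X) '' C := by
    refine subset_antisymm (fun y hy => ?_) (Set.iUnion₂_subset fun C _ => by rintro _ ⟨y, -, rfl⟩; exact y.2)
    exact Set.mem_iUnion₂.2 ⟨irreducibleComponent (⟨y, hy⟩ : S), irreducibleComponent_mem_irreducibleComponents _,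
      ⟨⟨y, hy⟩, mem_irreducibleComponent, rfl⟩⟩
  rw [hcover, NoetherianSpace.finite_irreducibleComponents.closure_biUnion] at hxS
  obtain ⟨C, hC, hxC⟩ := Set.mem_iUnion₂.1 hxS
  have hirr : IsIrreducible ((Subtype.val : S → X) '' C) := hC.1.image _ continuous_subtype_val.continuousOn
  have hη := hirr.isGenericPoint_genericPoint_closure
  refine hZ (hη.specializes hxC) (h ⟨?_, fun hO => ?_⟩)
  · obtain ⟨_, y, hy, rfl⟩ := hirr.1
    exact (hη.mem_open_set_iff W.2).2 ⟨y.1, subset_closure ⟨y, hy, rfl⟩, y.2.1.1⟩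
  · obtain ⟨z, hzc, hzO⟩ := (hη.mem_open_set_iff O.2).1 hO
    obtain ⟨w, hwO, y, -, rfl⟩ := mem_closure_iff.1 hzc O O.2 hzO
    exact y.2.1.2 hwO

/-- The member of the index given by the closure of `W \ O`. -/
theorem exists_cl {Z : Set X} (hZ : StableUnderSpecialization Z) {W O : X.Opens}
    (h : (W : Set X) \ O ⊆ Z) : ∃ T : ZClos.Cl Z, W ⊓ T.U ≤ O :=
  ⟨⟨⟨closure ((W : Set X) \ O), isClosed_closure⟩, closure_diff_subset hZ h⟩,
    fun x hx => by_contra fun hO => hx.2 (subset_closure ⟨hx.1, hO⟩)⟩

end Groth.Agent.ZClosLib
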